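import Mathlib

/-!
# Basic lemmas on products `G = HK` of two subgroups
-/

set_option autoImplicit false

open scoped Pointwise

namespace CfsgLib.SolvStruct

variable {G : Type*} [Group G]

/-- If `G = HK`, then also `G = KH`. -/
theorem factor_symm {H K : Subgroup G} (hHK : ∀ g : G, ∃ h ∈ H, ∃ k ∈ K, g = h * k) :
    ∀ g : G, ∃ k ∈ K, ∃ h ∈ H, g = k * h := fun g => by
  obtain ⟨h, hh, k, hk, he⟩ := hHK g⁻¹
  exact ⟨k⁻¹, K.inv_mem hk, h⁻¹, H.inv_mem hh, by rw [← mul_inv_rev, ← he, inv_inv]⟩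

/-- If `G = HK`, any pair of conjugates of `H` and `K` is simultaneously conjugate to `(H, K)`. -/
theorem exists_conj_pair {H K : Subgroup G} (hHK : ∀ g : G, ∃ h ∈ H, ∃ k ∈ K, g = h * k)
    (x y : G) : ∃ g : G, MulAut.conj x • H = MulAut.conj g • H ∧
      MulAut.conj y • K = MulAut.conj g • K := by
  obtain ⟨h, hh, k, hk, he⟩ := hHK (x⁻¹ * y)
  refine ⟨x * h, ?_, ?_⟩
  · rw [map_mul, mul_smul, Subgroup.conj_smul_eq_self_of_mem hh]
  · have hy : y = x * h * k := by rw [mul_assoc, ← he, mul_inv_cancel_left]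
    rw [hy, map_mul, mul_smul, Subgroup.conj_smul_eq_self_of_mem hk]

/-- If `G = HK` then `G` is the product of any conjugate of `H` and any conjugate of `K`. -/
theorem factor_conj {H K : Subgroup G} (hHK : ∀ g : G, ∃ h ∈ H, ∃ k ∈ K, g = h * k)
    (x y z : G) : ∃ a ∈ MulAut.conj x • H, ∃ b ∈ MulAut.conj y • K, z = a * b := by
  obtain ⟨g, hA, hB⟩ := exists_conj_pair hHK x y
  obtain ⟨h, hh, k, hk, he⟩ := hHK (g⁻¹ * z * g)
  refine ⟨MulAut.conj g h, ?_, MulAut.conj g k, ?_, ?_⟩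
  · rw [hA]
    exact ⟨h, hh, rfl⟩
  · rw [hB]
    exact ⟨k, hk, rfl⟩
  · rw [← map_mul, ← he, MulAut.conj_apply]
    group

/-- If `G = HK` then `|H : H ∩ K| = |G : K|`. -/
theorem relIndex_eq_index_of_factor {H K : Subgroup G}
    (hHK : ∀ g : G, ∃ h ∈ H, ∃ k ∈ K, g = h * k) : K.relIndex H = K.index := by
  have ht : MulAction.IsPretransitive H (G ⧸ K) := by
    rw [MulAction.isPretransitive_iff_base (a := ((1 : G) : G ⧸ K))]
    intro q
    obtain ⟨g, rfl⟩ := QuotientGroup.mk_surjective q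
    obtain ⟨h, hh, k, hk, rfl⟩ := hHK g
    refine ⟨⟨h, hh⟩, ?_⟩
    change ((h * 1 : G) : G ⧸ K) = _
    rw [mul_one, QuotientGroup.eq]
    simpa using hk
  have hs : MulAction.stabilizer H ((1 : G) : G ⧸ K) = K.subgroupOf H := by
    ext h
    rw [MulAction.mem_stabilizer_iff, Subgroup.mem_subgroupOf]
    change (((h : G) * 1 : G) : G ⧸ K) = _ ↔ _
    rw [mul_one, QuotientGroup.eq]
    simp
  rw [Subgroup.relIndex, ← hs, MulAction.index_stabilizer_of_transitive]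
  rfl

/-- If `P, Q ≤ R` and `|R : Q| ≤ |P : P ∩ Q|` then `R = PQ`. -/
theorem exists_mul_of_relIndex_le [Finite G] {P Q R : Subgroup G} (hP : P ≤ R)
    (hle : Q.relIndex R ≤ Q.relIndex P) :
    ∀ r ∈ R, ∃ p ∈ P, ∃ q ∈ Q, r = p * q := by
  intro r hr
  have hs : ∀ S : Subgroup G, (MulAction.orbit S ((1 : G) : G ⧸ Q)).ncard = Q.relIndex S := by
    intro S
    rw [← MulAction.index_stabilizer]
    have h : MulAction.stabilizer S ((1 : G) : G ⧸ Q) = Q.subgroupOf S := by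
      ext h
      rw [MulAction.mem_stabilizer_iff, Subgroup.mem_subgroupOf]
      change (((h : G) * 1 : G) : G ⧸ Q) = _ ↔ _
      rw [mul_one, QuotientGroup.eq]
      simp
    rw [h, Subgroup.relIndex]
  have hsub : MulAction.orbit P ((1 : G) : G ⧸ Q) ⊆ MulAction.orbit R ((1 : G) : G ⧸ Q) := by
    rintro _ ⟨⟨p, hp⟩, rfl⟩
    exact ⟨⟨p, hP hp⟩, rfl⟩
  have heq : MulAction.orbit P ((1 : G) : G ⧸ Q) = MulAction.orbit R ((1 : G) : G ⧸ Q) :=
    Set.eq_of_subset_of_ncard_le hsub (by rw [hs, hs]; exact hle) (Set.toFinite _)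
  have hmem : ((r * 1 : G) : G ⧸ Q) ∈ MulAction.orbit R ((1 : G) : G ⧸ Q) := ⟨⟨r, hr⟩, rfl⟩
  rw [← heq] at hmem
  obtain ⟨⟨p, hp⟩, hpe⟩ := hmem
  have hpe' : ((p * 1 : G) : G ⧸ Q) = ((r * 1 : G) : G ⧸ Q) := hpe
  rw [mul_one, mul_one, QuotientGroup.eq] at hpe'
  exact ⟨p, hp, p⁻¹ * r, hpe', (mul_inv_cancel_left p r).symm⟩

/-- If `G = HK` and `p` is a prime, some Sylow `p`-subgroup of `G` is the product of a Sylow
`p`-subgroup of `H` and one of `K`. -/
theorem exists_sylow_mul [Finite G] {H K : Subgroup G}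
    (hHK : ∀ g : G, ∃ h ∈ H, ∃ k ∈ K, g = h * k) (p : ℕ) [hp : Fact p.Prime] :
    ∃ (P : Sylow p H) (Q : Sylow p K) (R : Sylow p G),
      (P : Subgroup H).map H.subtype ≤ R ∧ (Q : Subgroup K).map K.subtype ≤ R ∧
      ∀ r ∈ (R : Subgroup G), ∃ a ∈ (P : Subgroup H).map H.subtype,
        ∃ b ∈ (Q : Subgroup K).map K.subtype, r = a * b := by
  obtain ⟨P₀⟩ : Nonempty (Sylow p H) := inferInstance
  obtain ⟨Q₀⟩ : Nonempty (Sylow p K) := inferInstance
  obtain ⟨R₀, hR₀⟩ := (P₀.isPGroup'.map H.subtype).exists_le_sylow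
  obtain ⟨R₁, hR₁⟩ := (Q₀.isPGroup'.map K.subtype).exists_le_sylow
  obtain ⟨z, hz⟩ := MulAction.exists_smul_eq G R₀ R₁
  obtain ⟨k, hk, h, hh, rfl⟩ := factor_symm hHK z
  set R : Sylow p G := h • R₀ with hR
  have hR' : R = k⁻¹ • R₁ := by rw [← hz, mul_smul, inv_smul_smul]
  refine ⟨(⟨h, hh⟩ : H) • P₀, (⟨k⁻¹, K.inv_mem hk⟩ : K) • Q₀, R, ?_, ?_, ?_⟩
  · rintro _ ⟨_, ⟨x, hx, rfl⟩, rfl⟩
    exact ⟨(x : G), hR₀ ⟨x, hx, rfl⟩, rfl⟩
  · rw [hR']
    rintro _ ⟨_, ⟨x, hx, rfl⟩, rfl⟩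
    exact ⟨(x : G), hR₁ ⟨x, hx, rfl⟩, rfl⟩
  have hPR : ((((⟨h, hh⟩ : H) • P₀ : Sylow p H)) : Subgroup H).map H.subtype ≤ R := by
    rintro _ ⟨_, ⟨x, hx, rfl⟩, rfl⟩
    exact ⟨(x : G), hR₀ ⟨x, hx, rfl⟩, rfl⟩
  have hQR : ((((⟨k⁻¹, K.inv_mem hk⟩ : K) • Q₀ : Sylow p K)) : Subgroup K).map K.subtype ≤ R := by
    rw [hR']
    rintro _ ⟨_, ⟨x, hx, rfl⟩, rfl⟩
    exact ⟨(x : G), hR₁ ⟨x, hx, rfl⟩, rfl⟩
  set P := ((((⟨h, hh⟩ : H) • P₀ : Sylow p H)) : Subgroup H).map H.subtype with hP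
  set Q := ((((⟨k⁻¹, K.inv_mem hk⟩ : K) • Q₀ : Sylow p K)) : Subgroup K).map K.subtype with hQ
  refine exists_mul_of_relIndex_le hPR ?_
  -- `|R : Q| = |G : K|_p` and `|P : P ∩ Q| ≥ |H : H ∩ K|_p`
  have hcR : Nat.card R = p ^ (Nat.card G).factorization p := R.card_eq_multiplicity
  have hcP : Nat.card P = p ^ (Nat.card H).factorization p := by
    rw [hP, Subgroup.card_map_of_injective H.subtype_injective]
    exact Sylow.card_eq_multiplicity _
  have hcQ : Nat.card Q = p ^ (Nat.card K).factorization p := by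
    rw [hQ, Subgroup.card_map_of_injective K.subtype_injective]
    exact Sylow.card_eq_multiplicity _
  have hPH : P ≤ H := Subgroup.map_subtype_le _
  have hQK : Q ≤ K := Subgroup.map_subtype_le _
  have hPQpg : IsPGroup p (P ⊓ Q : Subgroup G) :=
    IsPGroup.to_le (IsPGroup.map ((((⟨h, hh⟩ : H) • P₀ : Sylow p H)).isPGroup') H.subtype)
      inf_le_left
  obtain ⟨a, ha⟩ := IsPGroup.iff_card.1 hPQpg
  have h1 : Q.relIndex R * Nat.card Q = Nat.card R := by
    rw [← Subgroup.relIndex_bot_left Q, ← Subgroup.relIndex_bot_left (R : Subgroup G), mul_comm]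
    exact Subgroup.relIndex_mul_relIndex _ _ _ bot_le hQR
  have h2 : Q.relIndex P * Nat.card (P ⊓ Q : Subgroup G) = Nat.card P := by
    rw [← Subgroup.inf_relIndex_left P Q, ← Subgroup.relIndex_bot_left (P ⊓ Q),
      ← Subgroup.relIndex_bot_left P, mul_comm]
    exact Subgroup.relIndex_mul_relIndex _ _ _ bot_le inf_le_left
  have h3 : K.relIndex H * Nat.card (H ⊓ K : Subgroup G) = Nat.card H := by
    rw [← Subgroup.inf_relIndex_left H K, ← Subgroup.relIndex_bot_left (H ⊓ K),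
      ← Subgroup.relIndex_bot_left H, mul_comm]
    exact Subgroup.relIndex_mul_relIndex _ _ _ bot_le inf_le_left
  rw [relIndex_eq_index_of_factor hHK] at h3
  have h4 : Nat.card G * Nat.card (H ⊓ K : Subgroup G) = Nat.card H * Nat.card K := by
    rw [← h3, ← Subgroup.card_mul_index K]
    ring
  have hne : ∀ S : Subgroup G, Nat.card S ≠ 0 := fun S => Nat.card_pos.ne'
  have hf := congrArg (fun n => n.factorization p) h4
  simp only [Nat.factorization_mul Nat.card_pos.ne' (hne _),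
    Finsupp.add_apply] at hf
  have hfa : a ≤ (Nat.card (H ⊓ K : Subgroup G)).factorization p := by
    rw [← hp.out.pow_dvd_iff_le_factorization (hne _), ← ha]
    exact Subgroup.card_dvd_of_le (inf_le_inf hPH hQK)
  rw [hcR, hcQ] at h1
  rw [hcP, ha] at h2
  have h5 : Q.relIndex R * p ^ (Nat.card K).factorization p * p ^ a
      ≤ Q.relIndex P * p ^ (Nat.card K).factorization p * p ^ a := by
    calc _ = p ^ ((Nat.card G).factorization p + a) := by rw [h1, pow_add]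
      _ ≤ p ^ ((Nat.card H).factorization p + (Nat.card K).factorization p) :=
          Nat.pow_le_pow_right hp.out.pos (by omega)
      _ = _ := by rw [pow_add, ← h2]; ring
  have hpos : 0 < p := hp.out.pos
  exact Nat.le_of_mul_le_mul_right (Nat.le_of_mul_le_mul_right h5 (pow_pos hpos _))
    (pow_pos hpos _)

end CfsgLib.SolvStruct
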