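import Mathlib

/-!
# Itô: the derived subgroup of a product of two abelian subgroups is abelian
-/

set_option autoImplicit false
set_option linter.style.haveILetI false

namespace CfsgLib.SolvStruct

/-- Itô: in a product of two abelian subgroups the second derived subgroup is trivial. -/
theorem derivedSeries_two_eq_bot_of_abelian_factorisation {G : Type*} [Group G] (A B : Subgroup G)
    [IsMulCommutative A] [IsMulCommutative B] (hAB : ∀ g : G, ∃ a ∈ A, ∃ b ∈ B, g = a * b) :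
    derivedSeries G 2 = ⊥ := by
  have hA : ∀ a ∈ A, ∀ a' ∈ A, a * a' = a' * a := fun a ha a' ha' =>
    congrArg Subtype.val ((inferInstance : IsMulCommutative A).is_comm.comm ⟨a, ha⟩ ⟨a', ha'⟩)
  have hB : ∀ b ∈ B, ∀ b' ∈ B, b * b' = b' * b := fun b hb b' hb' =>
    congrArg Subtype.val ((inferInstance : IsMulCommutative B).is_comm.comm ⟨b, hb⟩ ⟨b', hb'⟩)
  have hBA : ∀ g : G, ∃ b ∈ B, ∃ a ∈ A, g = b * a := fun g => by
    obtain ⟨a, ha, b, hb, he⟩ := hAB g⁻¹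
    exact ⟨b⁻¹, B.inv_mem hb, a⁻¹, A.inv_mem ha, by rw [← mul_inv_rev, ← he, inv_inv]⟩
  let c : G → G → G := fun x y => x⁻¹ * y⁻¹ * x * y
  let S : Set G := {x | ∃ a ∈ A, ∃ b ∈ B, x = c a b}
  -- the two conjugation rules
  have conjA : ∀ a ∈ A, ∀ a' ∈ A, ∀ b ∈ B, ∀ a₂ ∈ A, ∀ b₂ ∈ B, a'⁻¹ * b * a' = a₂ * b₂ →
      a'⁻¹ * c a b * a' = c a b₂ := by
    intro a ha a' ha' b _ a₂ ha₂ b₂ _ he
    have e1 : b * a' = a' * (a₂ * b₂) := by rw [← he]; group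
    calc a'⁻¹ * c a b * a' = a'⁻¹ * a⁻¹ * b⁻¹ * a * (b * a') := by simp only [c]; group
      _ = (a'⁻¹ * a⁻¹) * b⁻¹ * (a * a') * (a₂ * b₂) := by rw [e1]; group
      _ = (a * a')⁻¹ * b⁻¹ * (a * a') * (a₂ * b₂) := by rw [mul_inv_rev]
      _ = (a' * a)⁻¹ * b⁻¹ * (a' * a) * (a₂ * b₂) := by rw [hA a ha a' ha']
      _ = a⁻¹ * (a'⁻¹ * b * a')⁻¹ * (a * a₂) * b₂ := by group
      _ = a⁻¹ * (a₂ * b₂)⁻¹ * (a₂ * a) * b₂ := by rw [he, hA a ha a₂ ha₂]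
      _ = c a b₂ := by simp only [c]; group
  have conjB : ∀ a ∈ A, ∀ b ∈ B, ∀ b' ∈ B, ∀ b₃ ∈ B, ∀ a₃ ∈ A, b'⁻¹ * a * b' = b₃ * a₃ →
      b'⁻¹ * c a b * b' = c a₃ b := by
    intro a _ b hb b' hb' b₃ hb₃ a₃ _ he
    calc b'⁻¹ * c a b * b' = (b'⁻¹ * a⁻¹) * b⁻¹ * a * (b * b') := by simp only [c]; group
      _ = (b'⁻¹ * a⁻¹) * b⁻¹ * a * (b' * b) := by rw [hB b hb b' hb']
      _ = (b'⁻¹ * a * b')⁻¹ * (b * b')⁻¹ * (b' * (b'⁻¹ * a * b')) * b := by group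
      _ = (b₃ * a₃)⁻¹ * (b' * b)⁻¹ * (b' * (b₃ * a₃)) * b := by rw [he, hB b hb b' hb']
      _ = a₃⁻¹ * b₃⁻¹ * (b⁻¹ * b₃) * a₃ * b := by group
      _ = a₃⁻¹ * b₃⁻¹ * (b₃ * b⁻¹) * a₃ * b := by rw [hB b⁻¹ (B.inv_mem hb) b₃ hb₃]
      _ = c a₃ b := by simp only [c]; group
  have hcomm : ∀ x ∈ S, ∀ y ∈ S, x * y = y * x := by
    rintro _ ⟨a, ha, b, hb, rfl⟩ _ ⟨p, hp, q, hq, rfl⟩
    obtain ⟨a₂, ha₂, b₂, hb₂, he₂⟩ := hAB (p * b * p⁻¹)
    obtain ⟨b₃, hb₃, a₃, ha₃, he₃⟩ := hBA (q * a * q⁻¹)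
    -- conjugate by `p⁻¹ q⁻¹` and by `q⁻¹ p⁻¹`
    have h1 := conjA a ha p⁻¹ (A.inv_mem hp) b hb a₂ ha₂ b₂ hb₂ (by rw [inv_inv, he₂])
    have h2 := conjB a ha b₂ hb₂ q⁻¹ (B.inv_mem hq) b₃ hb₃ a₃ ha₃ (by rw [inv_inv, he₃])
    have h3 := conjB a ha b hb q⁻¹ (B.inv_mem hq) b₃ hb₃ a₃ ha₃ (by rw [inv_inv, he₃])
    have h4 := conjA a₃ ha₃ p⁻¹ (A.inv_mem hp) b hb a₂ ha₂ b₂ hb₂ (by rw [inv_inv, he₂])
    rw [inv_inv] at h1 h2 h3 h4
    have e : q * (p * c a b * p⁻¹) * q⁻¹ = p * (q * c a b * q⁻¹) * p⁻¹ := by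
      rw [h1, h2, h3, h4]
    calc c a b * c p q
        = (q * p)⁻¹ * (q * (p * c a b * p⁻¹) * q⁻¹) * ((q * p) * c p q) := by group
      _ = (q * p)⁻¹ * (p * (q * c a b * q⁻¹) * p⁻¹) * ((q * p) * c p q) := by rw [e]
      _ = c p q * c a b := by simp only [c]; group
  set K := Subgroup.closure S with hK
  have hKn : K.Normal := by
    have hgen : ∀ g : G, (∀ x ∈ S, g⁻¹ * x * g ∈ K) → ∀ x ∈ K, g⁻¹ * x * g ∈ K := by
      intro g hg x hx
      induction hx using Subgroup.closure_induction with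
      | mem y hy => exact hg y hy
      | one => simp
      | mul y z _ _ hy hz =>
        rw [show g⁻¹ * (y * z) * g = (g⁻¹ * y * g) * (g⁻¹ * z * g) by group]
        exact K.mul_mem hy hz
      | inv y _ hy =>
        rw [show g⁻¹ * y⁻¹ * g = (g⁻¹ * y * g)⁻¹ by group]
        exact K.inv_mem hy
    refine ⟨fun x hx g => ?_⟩
    obtain ⟨a', ha', b', hb', he⟩ := hAB g⁻¹
    rw [show g * x * g⁻¹ = b'⁻¹ * (a'⁻¹ * x * a') * b' by rw [he, ← inv_inv g, he]; group]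
    refine hgen b' ?_ _ (hgen a' ?_ x hx)
    · rintro _ ⟨a, ha, b, hb, rfl⟩
      obtain ⟨b₃, hb₃, a₃, ha₃, he₃⟩ := hBA (b'⁻¹ * a * b')
      rw [conjB a ha b hb b' hb' b₃ hb₃ a₃ ha₃ he₃]
      exact Subgroup.subset_closure ⟨a₃, ha₃, b, hb, rfl⟩
    · rintro _ ⟨a, ha, b, hb, rfl⟩
      obtain ⟨a₂, ha₂, b₂, hb₂, he₂⟩ := hAB (a'⁻¹ * b * a')
      rw [conjA a ha a' ha' b hb a₂ ha₂ b₂ hb₂ he₂]
      exact Subgroup.subset_closure ⟨a, ha, b₂, hb₂, rfl⟩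
  haveI := hKn
  have hKc : ∀ x y : K, x * y = y * x := by
    haveI := Subgroup.isMulCommutative_closure hcomm
    exact fun x y => (inferInstance : IsMulCommutative K).is_comm.comm x y
  have hcAB : ∀ a ∈ A, ∀ b ∈ B, Commute (QuotientGroup.mk' K a) (QuotientGroup.mk' K b) := by
    intro a ha b hb
    have h : c a b ∈ K := Subgroup.subset_closure ⟨a, ha, b, hb, rfl⟩
    show QuotientGroup.mk' K a * QuotientGroup.mk' K b = QuotientGroup.mk' K b * QuotientGroup.mk' K a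
    rw [← map_mul, ← map_mul]
    refine (QuotientGroup.eq.2 ?_).symm
    rw [show (b * a)⁻¹ * (a * b) = c a b by simp only [c]; group]
    exact h
  have hle : derivedSeries G 1 ≤ K := by
    rw [derivedSeries_one, commutator_def, Subgroup.commutator_le]
    intro x _ y _
    obtain ⟨a, ha, b, hb, rfl⟩ := hAB x
    obtain ⟨p, hp, q, hq, rfl⟩ := hAB y
    rw [← QuotientGroup.eq_one_iff, ← QuotientGroup.mk'_apply, map_commutatorElement,
      commutatorElement_eq_one_iff_mul_comm]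
    have h1 : Commute (QuotientGroup.mk' K (a * b)) (QuotientGroup.mk' K (p * q)) := by
      simp only [map_mul]
      exact ((Commute.map (hA a ha p hp) (QuotientGroup.mk' K)).mul_right (hcAB a ha q hq)).mul_left
        ((hcAB p hp b hb).symm.mul_right (Commute.map (hB b hb q hq) (QuotientGroup.mk' K)))
    exact h1
  rw [eq_bot_iff, derivedSeries_succ]
  refine (Subgroup.commutator_mono hle hle).trans (Subgroup.commutator_le.2 fun x hx y hy => ?_)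
  rw [Subgroup.mem_bot, commutatorElement_eq_one_iff_mul_comm]
  exact congrArg Subtype.val (hKc ⟨x, hx⟩ ⟨y, hy⟩)

end CfsgLib.SolvStruct
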