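import Mathlib
import Cfsg.Agent.Lib.Base.MinimalNormal
import Cfsg.Agent.Lib.Base.Solvable
import Cfsg.Agent.Lib.Base.CoreFree
import Cfsg.Agent.Lib.SolvStruct.Factorization
import Cfsg.Agent.Lib.SolvStruct.ItoAbelian
import Cfsg.Agent.Lib.SolvStruct.KegelWielandt.General

/-!
# The derived length of a product of an abelian and a nilpotent subgroup

If `G = AB` is finite with `A` abelian, `B` nilpotent and `G = ⟨A, B'⟩` then `G = A`. It follows
that the derived length of `G` is at most `2 * (1 + Ω(|B'|))`.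
-/

set_option autoImplicit false
set_option linter.style.haveILetI false

namespace CfsgLib.SolvStruct.AbNilDerived

open Cfsg CfsgLib.Base

variable {G : Type*} [Group G] [Finite G]

/-- An element of order prime to `p` lies in every subgroup of `p`-power index of a nilpotent
group. -/
theorem mem_of_index_eq_pow [Group.IsNilpotent G] {p : ℕ} [Fact p.Prime] (S : Subgroup G)
    {k : ℕ} (hk : S.index = p ^ k) {x : G} (hx : (orderOf x).Coprime p) : x ∈ S := by
  induction hn : S.index using Nat.strong_induction_on generalizing S k with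
  | _ n ih =>
  subst hn
  by_cases htop : S = ⊤
  · simp [htop]
  · set N := Subgroup.normalizer (S : Set G) with hN
    have hlt : S < N := Group.normalizerCondition_of_isNilpotent (G := G) S (lt_top_iff_ne_top.2 htop)
    obtain ⟨l, -, hl⟩ := (Nat.dvd_prime_pow Fact.out).1
      (hk ▸ Subgroup.index_dvd_of_le hlt.le : N.index ∣ p ^ k)
    have hxN : x ∈ N := ih _ (Subgroup.index_strictAnti hlt) N hl rfl
    haveI : (S.subgroupOf N).Normal := Subgroup.normal_subgroupOf_iff_le_normalizer hlt.le |>.2 le_rfl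
    have hdvd : S.relIndex N ∣ p ^ k := hk ▸ Subgroup.relIndex_dvd_index_of_le hlt.le
    obtain ⟨j, -, hj⟩ := (Nat.dvd_prime_pow Fact.out).1 hdvd
    have hpow : x ^ (p ^ j) ∈ S := by
      have h := Subgroup.pow_index_mem (S.subgroupOf N) ⟨x, hxN⟩
      rw [Subgroup.mem_subgroupOf] at h
      rw [← hj]
      exact h
    obtain ⟨m, hm⟩ := exists_pow_eq_self_of_coprime (hx.pow_right j).symm
    rw [← hm]
    exact S.pow_mem hpow m

omit [Finite G] in
/-- A nilpotent subgroup equal to its derived subgroup is trivial. -/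
theorem eq_bot_of_le_commutator {B : Subgroup G} (hB : Group.IsNilpotent B) (h : B ≤ ⁅B, B⁆) :
    B = ⊥ := by
  by_contra hne
  haveI := hB
  exact (commutator_self_lt_of_isSolvable hne inferInstance).not_ge h

/-- The core-free case of the key lemma. -/
theorem primitive_case [Group.IsSolvable G] (A B : Subgroup G) [IsMulCommutative A]
    (hB : Group.IsNilpotent B) (hAB : ∀ g : G, ∃ a ∈ A, ∃ b ∈ B, g = a * b)
    (htop : A ⊔ ⁅B, B⁆ = ⊤) {M : Subgroup G} (hM : IsCoatom M) (hAM : A ≤ M)
    (hcore : M.normalCore = ⊥) : False := by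
  haveI : Nontrivial G := Subgroup.nontrivial_iff.1 (nontrivial_of_ne M ⊤ hM.1)
  obtain ⟨V, hV⟩ := exists_isMinimalNormal (G := G)
  haveI := hV.normal
  obtain ⟨p, hp, hcomm, -, hVp⟩ := hV.exists_prime inferInstance
  haveI := hcomm
  haveI := Fact.mk hp
  have hVM : ¬ V ≤ M := fun h => hV.ne_bot (CoreFree.eq_bot_of_le hcore h)
  obtain ⟨hinf, hsup⟩ := inf_eq_bot_of_isCoatom hM hV hVM
  obtain ⟨k, hk⟩ := IsPGroup.iff_card.1 hVp
  have hidx : M.index = p ^ k := by
    have h1 := card_sup_of_disjoint M V hinf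
    rw [hsup, Subgroup.card_top, ← Subgroup.card_mul_index M, hk] at h1
    exact Nat.eq_of_mul_eq_mul_left Nat.card_pos h1
  have hBM : ∀ g : G, ∃ b ∈ B, ∃ m ∈ M, g = b * m := fun g => by
    obtain ⟨b, hb, a, ha, e⟩ := factor_symm hAB g
    exact ⟨b, hb, a, hAM ha, e⟩
  -- `B` is a `p`-group
  have hcop : ∀ b ∈ B, (orderOf b).Coprime p → b = 1 := by
    intro b hb hco
    have hmemM : ∀ c ∈ B, (orderOf c).Coprime p → c ∈ M := by
      intro c hc hcc
      haveI := hB
      have hi : (M.subgroupOf B).index = p ^ k := by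
        rw [← Subgroup.relIndex, relIndex_eq_index_of_factor hBM, hidx]
      exact mem_of_index_eq_pow (M.subgroupOf B) hi (x := ⟨c, hc⟩)
        (by rwa [← Subgroup.orderOf_coe])
    have : b ∈ M.normalCore := by
      intro g
      obtain ⟨a, ha, x, hx, rfl⟩ := hAB g
      have h1 : x * b * x⁻¹ ∈ M := by
        refine hmemM _ (B.mul_mem (B.mul_mem hx hb) (B.inv_mem hx)) ?_
        rwa [← MulAut.conj_apply, ← MulEquiv.coe_toMonoidHom,
          orderOf_injective _ (MulAut.conj x).injective]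
      rw [show a * x * b * (a * x)⁻¹ = a * (x * b * x⁻¹) * a⁻¹ by group]
      exact M.mul_mem (M.mul_mem (hAM ha) h1) (M.inv_mem (hAM ha))
    rw [hcore] at this
    exact Subgroup.mem_bot.1 this
  have hBp : IsPGroup p B := by
    intro x
    obtain ⟨i, m, hm, hxm⟩ := Nat.exists_eq_pow_mul_and_not_dvd (orderOf_pos (x : G)).ne' p hp.ne_one
    refine ⟨i, Subtype.ext ?_⟩
    rw [Subgroup.coe_pow, Subgroup.coe_one]
    refine hcop _ (B.pow_mem x.2 _) ?_
    rw [orderOf_pow_of_dvd (pow_ne_zero _ hp.ne_zero) (hxm ▸ dvd_mul_right _ _), hxm,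
      Nat.mul_div_cancel_left _ (pow_pos hp.pos i)]
    exact ((hp.coprime_iff_not_dvd).2 hm).symm
  -- `O_p(G) = V`
  have hCV : Subgroup.centralizer (V : Set G) = V := by
    refine CoreFree.eq_of_inf_eq_bot hM hcore hV.ne_bot V.le_centralizer ?_
    exact CoreFree.normal_inf hM hcore hV.ne_bot
      (Subgroup.le_centralizer_iff.1 le_rfl)
  have hQ : pCore p G = V := by
    have hVQ : V ≤ pCore p G := le_pCore hVp
    refine le_antisymm ?_ hVQ
    set Q := pCore p G with hQdef
    set Z := (Subgroup.center Q).map Q.subtype with hZdef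
    haveI : Z.Normal := by rw [hZdef]; infer_instance
    haveI : Nontrivial Q := (Subgroup.nontrivial_iff_ne_bot Q).2 fun h =>
      hV.ne_bot (le_bot_iff.1 (h ▸ hVQ))
    have hZne : Z ≠ ⊥ := by
      intro h
      rw [hZdef, Subgroup.map_eq_bot_iff_of_injective _ Q.subtype_injective] at h
      exact (Subgroup.nontrivial_iff_ne_bot _).1 (isPGroup_pCore p G).center_nontrivial h
    have hZV : Z ≤ V := by
      rw [← hCV]
      rintro _ ⟨z, hz, rfl⟩
      rw [Subgroup.mem_centralizer_iff]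
      exact fun v hv => congrArg Subtype.val (Subgroup.mem_center_iff.1 hz ⟨v, hVQ hv⟩)
    have hZ : Z = V := (hV.eq_bot_or_eq inferInstance hZV).resolve_left hZne
    rw [← hCV, le_centralizer_comm, ← hZ]
    rintro _ ⟨z, hz, rfl⟩
    rw [Subgroup.mem_centralizer_iff]
    exact fun q hq => congrArg Subtype.val (Subgroup.mem_center_iff.1 hz ⟨q, hq⟩)
  -- `O_p(M) = 1`
  have hOpM : pCore p M = ⊥ := by
    set P := (pCore p M).map M.subtype with hPdef
    have hnorm : (P ⊔ V).Normal := by
      rw [← Subgroup.normalizer_eq_top_iff, eq_top_iff, ← hsup, sup_le_iff]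
      constructor
      · intro m hm
        refine map_conj_eq_self_iff.1 ?_
        rw [Subgroup.map_sup, map_conj_eq_self_iff.2 (le_normalizer_map_pCore M hm),
          map_conj_eq_self_iff.2 (by rw [Subgroup.normalizer_eq_top_iff.2 hV.normal]; trivial)]
      · exact le_sup_right.trans Subgroup.le_normalizer
    haveI := hnorm
    have hPV : P ⊔ V ≤ V := by
      conv_rhs => rw [← hQ]
      exact le_pCore ((isPGroup_map_pCore p M).to_sup_of_normal_right hVp)
    have hP : P ≤ ⊥ := hinf ▸ le_inf (Subgroup.map_subtype_le _) (le_sup_left.trans hPV)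
    rwa [le_bot_iff, hPdef, Subgroup.map_eq_bot_iff_of_injective _ M.subtype_injective] at hP
  -- the Fitting subgroup of `M` has order prime to `p`
  set T := fittingSubgroup M with hTdef
  haveI : T.Normal := fittingSubgroup_normal' M
  have hTp : ¬ p ∣ Nat.card T := by
    intro hd
    haveI : Group.IsNilpotent T := isNilpotent_fittingSubgroup M
    let S : Sylow p T := default
    haveI hSn : (S : Subgroup T).Normal := inferInstance
    have hle : ((S : Subgroup T).map T.subtype) ≤ pCore p M := by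
      haveI : (S : Subgroup T).Characteristic := Sylow.characteristic_of_normal S hSn
      haveI : ((S : Subgroup T).map T.subtype).Normal := inferInstance
      exact le_pCore (S.isPGroup'.map _)
    rw [hOpM, le_bot_iff, Subgroup.map_eq_bot_iff_of_injective _ T.subtype_injective] at hle
    have := S.dvd_card_of_dvd_card hd
    rw [hle, Subgroup.card_bot] at this
    exact hp.one_lt.ne' (Nat.dvd_one.1 this)
  set A₁ := A.subgroupOf M with hA₁
  set B₁ := B.subgroupOf M with hB₁
  have hAB₁ : ∀ m : M, ∃ a ∈ A₁, ∃ b ∈ B₁, m = a * b := fun m => by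
    obtain ⟨a, ha, b, hb, e⟩ := hAB m
    have hbM : b ∈ M := by
      rw [show b = a⁻¹ * (m : G) by rw [e]; group]
      exact M.mul_mem (M.inv_mem (hAM ha)) m.2
    exact ⟨⟨a, hAM ha⟩, ha, ⟨b, hbM⟩, hb, Subtype.ext e⟩
  haveI : IsMulCommutative A₁ := ⟨⟨fun x y => Subtype.ext (Subtype.ext
    (congrArg Subtype.val ((inferInstance : IsMulCommutative A).is_comm.comm
      ⟨((x : M) : G), x.2⟩ ⟨((y : M) : G), y.2⟩) :))⟩⟩
  have hTA : T ≤ A₁ := by
    have h1 : A₁.relIndex T ∣ Nat.card T := Subgroup.relIndex_dvd_card _ _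
    have h2 : A₁.relIndex T ∣ A₁.index := by
      have e1 := Subgroup.relIndex_mul_index (inf_le_left : A₁ ⊓ T ≤ A₁)
      have e2 := Subgroup.relIndex_mul_index (inf_le_right : A₁ ⊓ T ≤ T)
      rw [Subgroup.inf_relIndex_left] at e1
      rw [Subgroup.inf_relIndex_right] at e2
      obtain ⟨c, hc⟩ : T.relIndex A₁ ∣ T.index := Subgroup.relIndex_dvd_index_of_normal _ _
      refine ⟨c, Nat.eq_of_mul_eq_mul_left
        (Nat.pos_of_ne_zero (Subgroup.index_ne_zero_of_finite :
          (T.subgroupOf A₁).index ≠ 0)) ?_⟩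
      show T.relIndex A₁ * _ = T.relIndex A₁ * _
      rw [e1, ← e2, hc]
      ring
    have h3 : A₁.index = A₁.relIndex B₁ :=
      (relIndex_eq_index_of_factor (factor_symm hAB₁)).symm
    have hB₁p : IsPGroup p B₁ := hBp.comap_of_injective M.subtype M.subtype_injective
    obtain ⟨j, hj⟩ := IsPGroup.iff_card.1 hB₁p
    have h4 : A₁.index ∣ p ^ j := by
      rw [h3, ← hj]
      exact Subgroup.relIndex_dvd_card _ _
    obtain ⟨l, -, hl⟩ := (Nat.dvd_prime_pow hp).1 (h2.trans h4)
    rcases Nat.eq_zero_or_pos l with rfl | hlpos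
    · exact Subgroup.relIndex_eq_one.1 (by rw [hl, pow_zero])
    · exact absurd ((dvd_pow_self p hlpos.ne').trans (hl ▸ h1)) hTp
  have hA₁T : A₁ = T :=
    le_antisymm ((A₁.le_centralizer.trans (Subgroup.centralizer_le hTA)).trans
      centralizer_fittingSubgroup_le) hTA
  have hAnorm : M ≤ Subgroup.normalizer (A : Set G) :=
    (Subgroup.normal_subgroupOf_iff_le_normalizer hAM).1 (by rw [← hA₁, hA₁T]; infer_instance)
  have hAcard : ¬ p ∣ Nat.card A := by
    rw [← card_subgroupOf hAM, ← hA₁, hA₁T]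
    exact hTp
  -- `V ≤ B` and `B = V (B ∩ M)`
  have hVBp : IsPGroup p (B ⊔ V : Subgroup G) := hBp.to_sup_of_normal_right hVp
  have hAVB : A ⊓ (B ⊔ V) = ⊥ := by
    refine inf_eq_bot_of_coprime ?_
    obtain ⟨j, hj⟩ := IsPGroup.iff_card.1 hVBp
    rw [hj]
    exact ((hp.coprime_iff_not_dvd.2 hAcard).symm).pow_right j
  have hVB : V ≤ B := by
    intro v hv
    obtain ⟨a, ha, b, hb, e⟩ := hAB v
    have h1 : a ∈ A ⊓ (B ⊔ V) := ⟨ha, by
      rw [show a = v * b⁻¹ by rw [e]; group]
      exact (B ⊔ V).mul_mem (Subgroup.mem_sup_right hv)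
        ((B ⊔ V).inv_mem (Subgroup.mem_sup_left hb))⟩
    rw [hAVB, Subgroup.mem_bot] at h1
    rw [e, h1, one_mul]
    exact hb
  set BM := B ⊓ M with hBMdef
  have hBdec : B ≤ V ⊔ BM := by
    intro b hb
    obtain ⟨v, hv, m, hm, rfl⟩ := CoreFree.exists_mul hM hcore hV.ne_bot b
    refine (V ⊔ BM).mul_mem (Subgroup.mem_sup_left hv) (Subgroup.mem_sup_right ⟨?_, hm⟩)
    have := B.mul_mem (B.inv_mem (hVB hv)) hb
    rwa [inv_mul_cancel_left] at this
  have hB' : ⁅B, B⁆ ≤ V ⊔ ⁅BM, BM⁆ := by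
    have h1 : B.map (QuotientGroup.mk' V) ≤ BM.map (QuotientGroup.mk' V) :=
      calc B.map (QuotientGroup.mk' V) ≤ (V ⊔ BM).map (QuotientGroup.mk' V) :=
            Subgroup.map_mono hBdec
        _ = BM.map (QuotientGroup.mk' V) := by
          rw [Subgroup.map_sup, QuotientGroup.map_mk'_self, bot_sup_eq]
    calc ⁅B, B⁆ ≤ (⁅B, B⁆.map (QuotientGroup.mk' V)).comap (QuotientGroup.mk' V) :=
          Subgroup.le_comap_map _ _
      _ ≤ (⁅BM, BM⁆.map (QuotientGroup.mk' V)).comap (QuotientGroup.mk' V) := by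
          rw [Subgroup.map_commutator, Subgroup.map_commutator]
          exact Subgroup.comap_mono (Subgroup.commutator_mono h1 h1)
      _ = V ⊔ ⁅BM, BM⁆ := by rw [comap_map_mk', sup_comm]
  have hC : ⁅BM, BM⁆ ≤ M := (Subgroup.commutator_le_self BM).trans inf_le_right
  have hW : M ≤ A ⊔ ⁅BM, BM⁆ := by
    intro m hm
    have h : m ∈ (A ⊔ ⁅BM, BM⁆) ⊔ V := by
      have : (⊤ : Subgroup G) ≤ (A ⊔ ⁅BM, BM⁆) ⊔ V := by
        rw [← htop, sup_le_iff]
        exact ⟨le_sup_left.trans le_sup_left, hB'.trans (sup_le le_sup_right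
          (le_sup_right.trans le_sup_left))⟩
      exact this (Subgroup.mem_top m)
    obtain ⟨w, hw, v, hv, rfl⟩ := Subgroup.mem_sup_of_normal_right.1 h
    have hwM : w ∈ M := sup_le hAM hC hw
    have hv' : v ∈ M ⊓ V := ⟨by
      have := M.mul_mem (M.inv_mem hwM) hm
      rwa [inv_mul_cancel_left] at this, hv⟩
    rw [hinf, Subgroup.mem_bot] at hv'
    rwa [hv', mul_one]
  have hBM0 : BM = ⊥ := by
    refine eq_bot_of_le_commutator (isNilpotent_of_le inf_le_left hB) fun b hb => ?_
    have h := hW hb.2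
    rw [← SetLike.mem_coe, Subgroup.coe_mul_of_right_le_normalizer_left A ⁅BM, BM⁆
      (hC.trans hAnorm)] at h
    obtain ⟨a, ha, c, hc, e⟩ := h
    have hcB : c ∈ B := (Subgroup.commutator_le_self BM hc).1
    have : a ∈ A ⊓ (B ⊔ V) := ⟨ha, Subgroup.mem_sup_left (by
      rw [show a = b * c⁻¹ by rw [← e]; simp]
      exact B.mul_mem hb.1 (B.inv_mem hcB))⟩
    rw [hAVB, Subgroup.mem_bot] at this
    rw [← e, this]
    simpa using hc
  have hB0 : ⁅B, B⁆ = ⊥ := by
    refine le_bot_iff.1 ((Subgroup.commutator_mono hBdec hBdec).trans ?_)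
    rw [hBM0, sup_bot_eq]
    exact (Subgroup.commutator_eq_bot_iff_le_centralizer.2 V.le_centralizer).le
  rw [hB0, sup_bot_eq] at htop
  exact hM.1 (top_le_iff.1 (htop ▸ hAM))

/-- If `G = AB` with `A` abelian, `B` nilpotent and `G = ⟨A, B'⟩`, then `G = A`. -/
theorem eq_top_of_sup_commutator_eq_top [Group.IsSolvable G] (A B : Subgroup G)
    [IsMulCommutative A] (hB : Group.IsNilpotent B)
    (hAB : ∀ g : G, ∃ a ∈ A, ∃ b ∈ B, g = a * b) (htop : A ⊔ ⁅B, B⁆ = ⊤) : A = ⊤ := by
  rcases eq_top_or_exists_le_coatom A with h | ⟨M, hM, hAM⟩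
  · exact h
  exfalso
  set N := M.normalCore with hN
  set f := QuotientGroup.mk' N with hf
  have hfs : Function.Surjective f := QuotientGroup.mk'_surjective N
  haveI : IsMulCommutative (A.map f) := Subgroup.map_isMulCommutative A f
  haveI := hB
  have hBf : Group.IsNilpotent (B.map f) :=
    Group.nilpotent_of_surjective (f.subgroupMap B) (f.subgroupMap_surjective B)
  have hc : (M.map f).comap f = M := by
    rw [hf, comap_map_mk', sup_eq_left.2 M.normalCore_le]
  refine primitive_case (A.map f) (B.map f) hBf ?_ ?_ (M := M.map f) ⟨?_, ?_⟩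
    (Subgroup.map_mono hAM) ?_
  · intro x
    obtain ⟨g, rfl⟩ := hfs x
    obtain ⟨a, ha, b, hb, rfl⟩ := hAB g
    exact ⟨f a, ⟨a, ha, rfl⟩, f b, ⟨b, hb, rfl⟩, map_mul f a b⟩
  · rw [← Subgroup.map_commutator, ← Subgroup.map_sup, htop,
      Subgroup.map_top_of_surjective f hfs]
  · intro h
    rw [h, Subgroup.comap_top] at hc
    exact hM.1 hc.symm
  · intro X hX
    have hlt : M < X.comap f :=
      hc.symm.trans_lt ((Subgroup.comap_lt_comap_of_surjective hfs).2 hX)
    rw [← Subgroup.map_comap_eq_self_of_surjective hfs X, hM.2 _ hlt,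
      Subgroup.map_top_of_surjective f hfs]
  · refine le_bot_iff.1 ?_
    have h1 : (M.map f).normalCore.comap f ≤ N := by
      haveI : ((M.map f).normalCore.comap f).Normal := Subgroup.Normal.comap inferInstance f
      exact Subgroup.normal_le_normalCore.2
        ((Subgroup.comap_mono (M.map f).normalCore_le).trans hc.le)
    rw [← Subgroup.map_comap_eq_self_of_surjective hfs (M.map f).normalCore]
    exact (Subgroup.map_mono h1).trans (QuotientGroup.map_mk'_self N).le

/-- A proper divisor has fewer prime factors. -/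
theorem length_primeFactorsList_lt {d n : ℕ} (h : d ∣ n) (hlt : d < n) :
    d.primeFactorsList.length < n.primeFactorsList.length := by
  obtain ⟨e, rfl⟩ := h
  have hd : d ≠ 0 := by rintro rfl; simp at hlt
  have he : 1 < e := by
    by_contra hc
    interval_cases e <;> simp at hlt
  rw [(Nat.perm_primeFactorsList_mul hd (by omega)).length_eq, List.length_append]
  have : 0 < e.primeFactorsList.length :=
    List.length_pos_of_ne_nil (by rw [Ne, Nat.primeFactorsList_eq_nil]; omega)
  omega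

omit [Finite G] in
theorem derivedSeries_add_le_map {H : Subgroup G} {a : ℕ} (h : derivedSeries G a ≤ H) :
    ∀ m, derivedSeries G (a + m) ≤ (derivedSeries H m).map H.subtype
  | 0 => by
    rw [Nat.add_zero, derivedSeries_zero, ← MonoidHom.range_eq_map, Subgroup.range_subtype]
    exact h
  | m + 1 => by
    rw [Nat.add_succ, derivedSeries_succ, derivedSeries_succ, Subgroup.map_commutator]
    exact Subgroup.commutator_mono (derivedSeries_add_le_map h m) (derivedSeries_add_le_map h m)

universe u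

theorem derivedSeries_eq_bot : ∀ (n : ℕ) {G : Type u} [Group G] [Finite G] (A B : Subgroup G)
    [IsMulCommutative A], Group.IsNilpotent B → (∀ g : G, ∃ a ∈ A, ∃ b ∈ B, g = a * b) →
    (Nat.card ↥⁅B, B⁆).primeFactorsList.length ≤ n → derivedSeries G (2 * (1 + n)) = ⊥ := by
  intro n
  induction n using Nat.strong_induction_on with
  | _ n ih =>
  intro G _ _ A B _ hB hAB hn
  by_cases hB0 : ⁅B, B⁆ = ⊥
  · haveI : IsMulCommutative B := ⟨⟨fun x y => Subtype.ext
      (Subgroup.mem_centralizer_iff.1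
        (Subgroup.commutator_eq_bot_iff_le_centralizer.1 hB0 y.2) x x.2)⟩⟩
    have h2 := derivedSeries_two_eq_bot_of_abelian_factorisation A B hAB
    exact le_bot_iff.1 ((derivedSeries_antitone G (by omega : 2 ≤ 2 * (1 + n))).trans h2.le)
  have hA : Group.IsNilpotent A :=
    @CommGroup.isNilpotent A { (inferInstance : Group A) with
      mul_comm := (inferInstance : IsMulCommutative A).is_comm.comm }
  haveI : Group.IsSolvable G :=
    CfsgLib.SolvStruct.KW.isSolvable_of_nilpotent_mul _ rfl A B hA hB hAB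
  set H := A ⊔ ⁅B, B⁆ with hH
  set B₂ := B.subgroupOf H with hB₂
  have hAH : A ≤ H := le_sup_left
  have hAB₂ : ∀ h : H, ∃ a ∈ A.subgroupOf H, ∃ b ∈ B₂, h = a * b := fun m => by
    obtain ⟨a, ha, b, hb, e⟩ := hAB m
    have hbH : b ∈ H := by
      rw [show b = a⁻¹ * (m : G) by rw [e]; group]
      exact H.mul_mem (H.inv_mem (hAH ha)) m.2
    exact ⟨⟨a, hAH ha⟩, ha, ⟨b, hbH⟩, hb, Subtype.ext e⟩
  haveI : IsMulCommutative (A.subgroupOf H) := ⟨⟨fun x y => Subtype.ext (Subtype.ext
    (congrArg Subtype.val ((inferInstance : IsMulCommutative A).is_comm.comm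
      ⟨((x : H) : G), x.2⟩ ⟨((y : H) : G), y.2⟩) :))⟩⟩
  haveI := hB
  have hB₂n : Group.IsNilpotent B₂ := by
    haveI := isNilpotent_of_le (inf_le_left : B ⊓ H ≤ B) hB
    exact Group.nilpotent_of_surjective
      (((Subgroup.subgroupOfEquivOfLe (inf_le_right : B ⊓ H ≤ H)).symm.trans
        (MulEquiv.subgroupCongr (Subgroup.inf_subgroupOf_right B H))).toMonoidHom)
      (MulEquiv.surjective _)
  have hmap : (⁅B₂, B₂⁆).map H.subtype ≤ ⁅B, B⁆ := by
    rw [Subgroup.map_commutator]
    have : B₂.map H.subtype ≤ B := Subgroup.map_comap_le _ _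
    exact Subgroup.commutator_mono this this
  have hlt : (⁅B₂, B₂⁆).map H.subtype < ⁅B, B⁆ := by
    refine lt_of_le_of_ne hmap fun he => hB0 ?_
    have htop : A.subgroupOf H ⊔ ⁅B₂, B₂⁆ = ⊤ := by
      apply Subgroup.map_injective H.subtype_injective
      rw [Subgroup.map_sup, he, Subgroup.map_subgroupOf_eq_of_le hAH, ← hH,
        ← MonoidHom.range_eq_map, Subgroup.range_subtype]
    have hA := eq_top_of_sup_commutator_eq_top _ _ hB₂n hAB₂ htop
    have hAeq : H ≤ A := Subgroup.subgroupOf_eq_top.1 hA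
    rw [← he, Subgroup.map_eq_bot_iff_of_injective _ H.subtype_injective,
      Subgroup.commutator_eq_bot_iff_le_centralizer]
    intro x _
    rw [Subgroup.mem_centralizer_iff]
    exact fun y _ => Subtype.ext (congrArg Subtype.val
      ((inferInstance : IsMulCommutative A).is_comm.comm ⟨(y : G), hAeq y.2⟩ ⟨(x : G), hAeq x.2⟩) :)
  have hΩ : (Nat.card ↥⁅B₂, B₂⁆).primeFactorsList.length <
      (Nat.card ↥⁅B, B⁆).primeFactorsList.length := by
    rw [← card_map_subtype ⁅B₂, B₂⁆]
    refine length_primeFactorsList_lt (Subgroup.card_dvd_of_le hlt.le) ?_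
    exact lt_of_le_of_ne (Nat.le_of_dvd Nat.card_pos (Subgroup.card_dvd_of_le hlt.le))
      fun he => hlt.ne (Subgroup.eq_of_le_of_card_ge hlt.le he.ge)
  obtain ⟨m, rfl⟩ : ∃ m, n = m + 1 := ⟨n - 1, by omega⟩
  have hIH := ih m (Nat.lt_succ_self m) (A.subgroupOf H) B₂ hB₂n hAB₂ (by omega)
  -- `G'' ≤ H`
  set K := Subgroup.normalClosure ((⁅B, B⁆ : Subgroup G) : Set G) with hK
  have hKH : K ≤ H := by
    refine (Subgroup.closure_le _).2 ?_
    intro x hx
    obtain ⟨c, hc, hcx⟩ := Group.mem_conjugatesOfSet_iff.1 hx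
    obtain ⟨g, rfl⟩ := isConj_iff.1 hcx
    obtain ⟨a, ha, b, hb, rfl⟩ := hAB g
    have h1 : b * c * b⁻¹ ∈ ⁅B, B⁆ := by
      have h := Subgroup.mem_map_of_mem (MulAut.conj b).toMonoidHom hc
      rwa [Subgroup.map_commutator, map_conj_eq_self_iff.2 (Subgroup.le_normalizer hb)] at h
    rw [show a * b * c * (a * b)⁻¹ = a * (b * c * b⁻¹) * a⁻¹ by group]
    exact H.mul_mem (H.mul_mem (hAH ha) (Subgroup.mem_sup_right h1)) (H.inv_mem (hAH ha))
  haveI : K.Normal := Subgroup.normalClosure_normal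
  have hKc : ⁅B, B⁆ ≤ K := Subgroup.le_normalClosure
  have h2 : derivedSeries G 2 ≤ K := by
    set f := QuotientGroup.mk' K with hf
    have hfs : Function.Surjective f := QuotientGroup.mk'_surjective K
    haveI : IsMulCommutative (A.map f) := Subgroup.map_isMulCommutative A f
    haveI : IsMulCommutative (B.map f) := by
      have h0 : ⁅B.map f, B.map f⁆ = ⊥ := by
        rw [← Subgroup.map_commutator, hf, map_mk'_eq_bot_iff]
        exact hKc
      exact ⟨⟨fun x y => Subtype.ext (Subgroup.mem_centralizer_iff.1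
        (Subgroup.commutator_eq_bot_iff_le_centralizer.1 h0 y.2) x x.2)⟩⟩
    have h := derivedSeries_two_eq_bot_of_abelian_factorisation (A.map f) (B.map f) fun x => by
      obtain ⟨g, rfl⟩ := hfs x
      obtain ⟨a, ha, b, hb, rfl⟩ := hAB g
      exact ⟨f a, ⟨a, ha, rfl⟩, f b, ⟨b, hb, rfl⟩, map_mul f a b⟩
    rw [← map_derivedSeries_eq hfs, hf, map_mk'_eq_bot_iff] at h
    exact h
  refine le_bot_iff.1 ?_
  rw [show 2 * (1 + (m + 1)) = 2 + 2 * (1 + m) by ring]
  exact (derivedSeries_add_le_map (h2.trans hKH) _).trans (by rw [hIH, Subgroup.map_bot])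

end CfsgLib.SolvStruct.AbNilDerived
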