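import Cfsg.Agent.Lib.Transfer.Alperin
import Cfsg.Agent.Lib.Transfer.NilpotentHall
import Cfsg.Agent.Lib.Coprime.Basic
import Cfsg.Agent.Lib.Base.Fitting

/-!
# Wielandt: a nilpotent Hall subgroup dominates all `π`-subgroups
-/

set_option autoImplicit false
set_option linter.style.haveILetI false

open scoped Pointwise

namespace CfsgLib.SolvStruct

/-- A finite group with normal `p`-complements for all `p` is nilpotent. -/
theorem isNilpotent_of_forall_hasNormalPComplement {K : Type*} [Group K] [Finite K]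
    (h : ∀ p : ℕ, p.Prime → p ∣ Nat.card K → Cfsg.HasNormalPComplement p K) :
    Group.IsNilpotent K := by
  refine ((Group.isNilpotent_of_finite_tfae (G := K)).out 0 3).2 fun q hq P => ?_
  haveI := hq
  let E : Subgroup K := ⨅ p : {p : ℕ // p.Prime ∧ p ∣ Nat.card K ∧ p ≠ q}, Cfsg.pResidual p.1 K
  haveI : E.Normal := Subgroup.normal_iInf_normal fun p => CfsgLib.Transfer.pResidual_normal
  have hPE : (P : Subgroup K) ≤ E := by
    intro x hx
    rw [Subgroup.mem_iInf]
    rintro ⟨p, hp, hpd, hpq⟩
    refine CfsgLib.Transfer.mem_pResidual_of_coprime ?_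
    obtain ⟨k, hk⟩ := IsPGroup.iff_orderOf.1 P.isPGroup' ⟨x, hx⟩
    rw [← Subgroup.orderOf_coe] at hk
    change orderOf x = q ^ k at hk
    rw [hk]
    exact Nat.Coprime.pow_left k ((Nat.coprime_primes hq.out hp).2 (Ne.symm hpq))
  have hE : IsPGroup q E := by
    have hn := Nat.eq_prime_pow_of_unique_prime_dvd (Nat.card_pos (α := E)).ne' (p := q)
      fun {r} hr hd => ?_
    · exact IsPGroup.of_card hn
    · by_contra hne
      haveI := Fact.mk hr
      have hrK : r ∣ Nat.card K := hd.trans (Subgroup.card_subgroup_dvd_card E)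
      exact CfsgLib.Transfer.hasNormalPComplement_iff_pResidual.1 (h r hr hrK)
        (hd.trans (Subgroup.card_dvd_of_le (iInf_le _
          (⟨r, hr, hrK, hne⟩ : {p : ℕ // p.Prime ∧ p ∣ Nat.card K ∧ p ≠ q}))))
  rw [(P.3 hE hPE).symm]
  infer_instance

variable {G : Type*} [Group G] [Finite G]

/-- If `H` is a nilpotent Hall subgroup, elements of coprime order normalising a `p`-subgroup
(`p ∣ |H|`) and having order built from primes of `H` centralise it. -/
theorem mem_centralizer_of_nilpotent_hall {H : Subgroup G} (hH : Group.IsNilpotent H)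
    (hHall : (Nat.card H).Coprime H.index) {p : ℕ} [hp : Fact p.Prime] (hpH : p ∣ Nat.card H)
    {X : Subgroup G} (hX : IsPGroup p X) {g : G} (hg : g ∈ Subgroup.normalizer (X : Set G))
    (hgp : (orderOf g).Coprime p) (hgH : ∀ q : ℕ, q.Prime → q ∣ orderOf g → q ∣ Nat.card H) :
    g ∈ Subgroup.centralizer (X : Set G) := by
  obtain ⟨P, H₁, -, -, hcent, -, hcard, -⟩ :=
    CfsgLib.Transfer.exists_split_nilpotent_hall hH hHall hpH
  obtain ⟨S, hS⟩ := hX.exists_le_sylow
  obtain ⟨z, hz⟩ := MulAction.exists_smul_eq G P S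
  set C := Subgroup.centralizer (X : Set G) with hC
  set N := Subgroup.normalizer (X : Set G) with hN
  have hCN : C ≤ N := Subgroup.centralizer_le_normalizer _
  have hH₁ : MulAut.conj z • H₁ ≤ C := by
    intro y hy
    rw [CfsgLib.Coprime.mem_conj_smul] at hy
    refine Subgroup.mem_centralizer_iff.2 fun x hx => ?_
    have hx' : z⁻¹ * x * z ∈ (P : Subgroup G) := by
      have h1 : x ∈ MulAut.conj z • (P : Subgroup G) := by
        have := hS hx
        rw [← hz] at this
        exact this
      rwa [CfsgLib.Coprime.mem_conj_smul] at h1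
    have h2 := Subgroup.mem_centralizer_iff.1 (hcent hy) _ hx'
    calc x * y = z * ((z⁻¹ * x * z) * (z⁻¹ * y * z)) * z⁻¹ := by group
      _ = z * ((z⁻¹ * y * z) * (z⁻¹ * x * z)) * z⁻¹ := by rw [h2]
      _ = y * x := by group
  haveI : (C.subgroupOf N).Normal := by
    rw [Subgroup.normal_subgroupOf_iff_le_normalizer hCN]
    intro a ha
    rw [Subgroup.mem_normalizer_iff]
    have key : ∀ a ∈ N, ∀ c ∈ C, a * c * a⁻¹ ∈ C := by
      intro a ha c hc
      refine Subgroup.mem_centralizer_iff.2 fun x hx => ?_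
      have hx' : a⁻¹ * x * a ∈ X := by
        have := (Subgroup.mem_normalizer_iff.1 (inv_mem ha) x).1 hx
        simpa using this
      have h2 := Subgroup.mem_centralizer_iff.1 hc _ hx'
      calc x * (a * c * a⁻¹) = a * ((a⁻¹ * x * a) * c) * a⁻¹ := by group
        _ = a * (c * (a⁻¹ * x * a)) * a⁻¹ := by rw [h2]
        _ = _ := by group
    intro c
    refine ⟨key a ha c, fun hc => ?_⟩
    simpa [mul_assoc] using key a⁻¹ (inv_mem ha) _ hc
  have hdvd : orderOf (QuotientGroup.mk' (C.subgroupOf N) ⟨g, hg⟩) ∣ C.relIndex N :=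
    orderOf_dvd_natCard _
  have hord : orderOf (QuotientGroup.mk' (C.subgroupOf N) ⟨g, hg⟩) ∣ orderOf g := by
    refine (orderOf_map_dvd _ _).trans ?_
    rw [← Subgroup.orderOf_coe]
  have h1 : orderOf (QuotientGroup.mk' (C.subgroupOf N) ⟨g, hg⟩) = 1 := by
    by_contra hne
    obtain ⟨q, hq, hqd⟩ := Nat.exists_prime_and_dvd hne
    have hqH := hgH q hq (hqd.trans hord)
    have hqp : q ≠ p := fun e =>
      hq.ne_one (Nat.eq_one_of_dvd_coprimes hgp (hqd.trans hord) (e ▸ dvd_rfl))
    have hcardC : Nat.card C * C.relIndex N = Nat.card N := by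
      rw [← Subgroup.relIndex_bot_left C, ← Subgroup.relIndex_bot_left N]
      exact Subgroup.relIndex_mul_relIndex _ _ _ bot_le hCN
    -- the full `q`-part of `|G|` already divides `|C|`
    set v := (Nat.card G).factorization q with hv
    have hvH : q ^ v ∣ Nat.card H := by
      have h := Nat.ordProj_dvd (Nat.card G) q
      rw [← hv] at h
      conv at h => rw [← H.card_mul_index]
      exact Nat.Coprime.dvd_of_dvd_mul_right (Nat.Coprime.pow_left _
        ((Nat.Prime.coprime_iff_not_dvd hq).2 fun hi =>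
          hq.ne_one (Nat.eq_one_of_dvd_coprimes hHall hqH hi))) h
    have hvH₁ : q ^ v ∣ Nat.card H₁ := by
      rw [← hcard] at hvH
      obtain ⟨j, hj⟩ := IsPGroup.iff_card.1 P.isPGroup'
      rw [hj] at hvH
      exact (((Nat.coprime_primes hq hp.out).2 hqp).pow v j).dvd_of_dvd_mul_left hvH
    have hvC : q ^ v ∣ Nat.card C := by
      refine hvH₁.trans ?_
      rw [← CfsgLib.Coprime.card_conj_smul z H₁]
      exact Subgroup.card_dvd_of_le hH₁
    have h3 : q ^ v * q ∣ Nat.card N := by
      rw [← hcardC]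
      exact mul_dvd_mul hvC (hqd.trans hdvd)
    rw [← pow_succ, hv] at h3
    exact Nat.pow_succ_factorization_not_dvd Nat.card_pos.ne' hq
      (h3.trans (Subgroup.card_subgroup_dvd_card N))
  rw [orderOf_eq_one_iff, QuotientGroup.mk'_apply, QuotientGroup.eq_one_iff,
    Subgroup.mem_subgroupOf] at h1
  exact h1

/-- Subgroups whose order only involves primes of a nilpotent Hall subgroup are nilpotent. -/
theorem isNilpotent_of_nilpotent_hall {H K : Subgroup G} (hH : Group.IsNilpotent H)
    (hHall : (Nat.card H).Coprime H.index)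
    (hK : ∀ p : ℕ, p.Prime → p ∣ Nat.card K → p ∣ Nat.card H) : Group.IsNilpotent K := by
  refine isNilpotent_of_forall_hasNormalPComplement fun p hp hpd => ?_
  haveI := Fact.mk hp
  obtain ⟨P⟩ : Nonempty (Sylow p K) := inferInstance
  rw [CfsgLib.Transfer.hasNormalPComplement_iff_forall_centralizing P]
  intro Q hQ g hg hcop
  have hgn : (g : G) ∈ Subgroup.normalizer ((Q.map K.subtype : Subgroup G) : Set G) :=
    Subgroup.le_normalizer_map _ ⟨g, hg, rfl⟩
  have h := mem_centralizer_of_nilpotent_hall hH hHall (hK p hp hpd)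
    ((P.isPGroup'.to_le hQ).map K.subtype) hgn (by rwa [Subgroup.orderOf_coe])
    (fun q hq hd => hK q hq (hd.trans (by
      rw [Subgroup.orderOf_coe]; exact orderOf_dvd_natCard g)))
  refine Subgroup.mem_centralizer_iff.2 fun x hx => Subtype.ext ?_
  exact Subgroup.mem_centralizer_iff.1 h _ ⟨x, hx, rfl⟩

/-- Wielandt's theorem. -/
theorem exists_conj_le_nilpotent_hall (n : ℕ) : ∀ {G : Type*} [Group G] [Finite G] (H K : Subgroup G),
    Nat.card H < n → Group.IsNilpotent H → (Nat.card H).Coprime H.index →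
      (∀ p : ℕ, p.Prime → p ∣ Nat.card K → p ∣ Nat.card H) →
      ∃ x : G, K ≤ MulAut.conj x • H := by
  induction n with
  | zero => intro G _ _ H K h; omega
  | succ n ih =>
    intro G _ _ H K hn hH hHall hK
    by_cases h1 : Nat.card K = 1
    · exact ⟨1, by rw [K.eq_bot_of_card_eq h1]; exact bot_le⟩
    obtain ⟨p, hp, hpK⟩ := Nat.exists_prime_and_dvd h1
    haveI := Fact.mk hp
    have hpH := hK p hp hpK
    obtain ⟨P, H₁, hPH, hH₁, hcent, hsup, hcard, hpH₁⟩ :=
      CfsgLib.Transfer.exists_split_nilpotent_hall hH hHall hpH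
    haveI := hH
    haveI hKn := isNilpotent_of_nilpotent_hall hH hHall hK
    obtain ⟨Q⟩ : Nonempty (Sylow p K) := inferInstance
    obtain ⟨S, hS⟩ := (Q.isPGroup'.map K.subtype).exists_le_sylow
    obtain ⟨z, hz⟩ := MulAction.exists_smul_eq G P S
    -- conjugate so that the Sylow subgroup of `K` lies in `P`
    set K' := MulAut.conj z⁻¹ • K with hK'
    set X : Subgroup G := MulAut.conj z⁻¹ • (Q : Subgroup K).map K.subtype with hX
    have hXP : X ≤ P := by
      intro x hx
      rw [hX, CfsgLib.Coprime.mem_conj_smul, inv_inv] at hx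
      have h2 : z * x * z⁻¹ ∈ MulAut.conj z • (P : Subgroup G) := by
        have := hS hx
        rw [← hz] at this
        exact this
      rw [CfsgLib.Coprime.mem_conj_smul] at h2
      simpa [mul_assoc] using h2
    set C := Subgroup.centralizer (X : Set G) with hC
    set K₁ : Subgroup G := MulAut.conj z⁻¹ • (Cfsg.pResidual p K).map K.subtype with hK₁
    have hcomp := CfsgLib.Transfer.hasNormalPComplement_of_isNilpotent (G := K) (p := p)
    have hK₁C : K₁ ≤ C := by
      have hle : (Cfsg.pResidual p K).map K.subtype ≤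
          Subgroup.centralizer (((Q : Subgroup K).map K.subtype : Subgroup G) : Set G) := by
        rw [Subgroup.map_le_iff_le_comap]
        refine (Subgroup.closure_le _).2 fun c hc => ?_
        rw [SetLike.mem_coe, Subgroup.mem_comap, Subgroup.mem_centralizer_iff]
        rintro _ ⟨a, ha, rfl⟩
        exact congrArg Subtype.val (Subgroup.mem_centralizer_iff.1
          (CfsgLib.Transfer.mem_centralizer_sylow_of_isNilpotent Q hc) a ha)
      intro y hy
      rw [hK₁, CfsgLib.Coprime.mem_conj_smul, inv_inv] at hy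
      refine Subgroup.mem_centralizer_iff.2 fun x hx => ?_
      rw [SetLike.mem_coe, hX, CfsgLib.Coprime.mem_conj_smul, inv_inv] at hx
      have h2 := Subgroup.mem_centralizer_iff.1 (hle hy) _ hx
      calc x * y = z⁻¹ * ((z * x * z⁻¹) * (z * y * z⁻¹)) * z := by group
        _ = z⁻¹ * ((z * y * z⁻¹) * (z * x * z⁻¹)) * z := by rw [h2]
        _ = y * x := by group
    have hH₁C : H₁ ≤ C := hcent.trans (Subgroup.centralizer_le hXP)
    have hcP : 1 < Nat.card (P : Subgroup G) := by
      by_contra hc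
      have : Nat.card (P : Subgroup G) = 1 := le_antisymm (not_lt.1 hc) Nat.card_pos
      rw [this, one_mul] at hcard
      exact hpH₁ (hcard ▸ hpH)
    have hlt : Nat.card H₁ < n := by
      have h2 : Nat.card H₁ < Nat.card H := by
        rw [← hcard]; exact lt_mul_of_one_lt_left Nat.card_pos hcP
      omega
    have hH₁n : Group.IsNilpotent (H₁.subgroupOf C) := by
      haveI := CfsgLib.Base.isNilpotent_of_le hH₁ hH
      exact Group.nilpotent_of_mulEquiv (Subgroup.subgroupOfEquivOfLe hH₁C).symm
    have hcardC : ∀ U : Subgroup G, U ≤ C → Nat.card (U.subgroupOf C) = Nat.card U := fun U hU =>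
      Nat.card_congr (Subgroup.subgroupOfEquivOfLe hU).toEquiv
    have hidxH₁ : H₁.index = Nat.card (P : Subgroup G) * H.index := by
      apply Nat.eq_of_mul_eq_mul_left (Nat.card_pos (α := H₁))
      rw [H₁.card_mul_index, ← mul_assoc, mul_comm (Nat.card H₁), hcard, H.card_mul_index]
    have hHall₁ : (Nat.card (H₁.subgroupOf C)).Coprime (H₁.subgroupOf C).index := by
      rw [hcardC _ hH₁C]
      refine Nat.Coprime.coprime_dvd_right (Subgroup.relIndex_dvd_index_of_le hH₁C) ?_
      rw [hidxH₁]
      refine Nat.Coprime.mul_right ?_ (hHall.coprime_dvd_left (Subgroup.card_dvd_of_le hH₁))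
      obtain ⟨j, hj⟩ := IsPGroup.iff_card.1 P.isPGroup'
      rw [hj]
      exact Nat.Coprime.pow_right _ ((Nat.Prime.coprime_iff_not_dvd hp).2 hpH₁).symm
    have hK₁p : ∀ q : ℕ, q.Prime → q ∣ Nat.card (K₁.subgroupOf C) →
        q ∣ Nat.card (H₁.subgroupOf C) := by
      intro q hq hd
      rw [hcardC _ hK₁C, hK₁, CfsgLib.Coprime.card_conj_smul,
        Subgroup.card_map_of_injective K.subtype_injective] at hd
      rw [hcardC _ hH₁C]
      have hqp : q ≠ p := fun e =>
        CfsgLib.Transfer.hasNormalPComplement_iff_pResidual.1 hcomp (e ▸ hd)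
      have hqH := hK q hq (hd.trans (Subgroup.card_subgroup_dvd_card _))
      rw [← hcard] at hqH
      rcases (Nat.Prime.dvd_mul hq).1 hqH with h | h
      · obtain ⟨j, hj⟩ := IsPGroup.iff_card.1 P.isPGroup'
        exact absurd ((Nat.prime_dvd_prime_iff_eq hq hp).1 (hq.dvd_of_dvd_pow (hj ▸ h))) hqp
      · exact h
    obtain ⟨⟨c, hc⟩, hcle⟩ := ih (H₁.subgroupOf C) (K₁.subgroupOf C)
      (by rw [hcardC _ hH₁C]; exact hlt) hH₁n hHall₁ hK₁p
    refine ⟨z * c, ?_⟩
    have hconjle : K' ≤ MulAut.conj c • H := by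
      have hK'top : K' = X ⊔ K₁ := by
        rw [hX, hK₁, ← Subgroup.smul_sup, ← Subgroup.map_sup, sup_comm,
          (CfsgLib.Transfer.isComplement'_pResidual hcomp Q).sup_eq_top,
          ← MonoidHom.range_eq_map, Subgroup.range_subtype]
      rw [hK'top, sup_le_iff]
      constructor
      · intro x hx
        rw [CfsgLib.Coprime.mem_conj_smul]
        have he : c⁻¹ * x * c = x := by
          rw [mul_assoc, Subgroup.mem_centralizer_iff.1 hc x hx, inv_mul_cancel_left]
        rw [he]
        exact hPH (hXP hx)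
      · intro x hx
        have h3 : (⟨x, hK₁C hx⟩ : C) ∈ K₁.subgroupOf C := hx
        have h4 := hcle h3
        rw [CfsgLib.Coprime.mem_conj_smul] at h4 ⊢
        exact hH₁ h4
    intro k hk
    rw [CfsgLib.Coprime.mem_conj_smul]
    have h5 : z⁻¹ * k * z ∈ K' := by
      rw [hK', CfsgLib.Coprime.mem_conj_smul, inv_inv]
      simpa [mul_assoc] using hk
    have h6 := hconjle h5
    rw [CfsgLib.Coprime.mem_conj_smul] at h6
    simpa [mul_assoc] using h6

end CfsgLib.SolvStruct
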