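import Mathlib

/-! π-elements forming a subgroup: extension theorem (no odd order theorem needed). -/

namespace CfsgLib.SolvStruct.PiElements

open Subgroup

set_option linter.style.haveILetI false

variable {G : Type*} [Group G] {π : Set ℕ}

/-- `x` is a π-element. -/
abbrev IsPiElt (π : Set ℕ) (x : G) : Prop := ∀ p : ℕ, p.Prime → p ∣ orderOf x → p ∈ π

/-- The π-elements form a subgroup. -/
abbrev PiSubgroup (π : Set ℕ) (G : Type*) [Group G] : Prop :=
  ∃ L : Subgroup G, ∀ x : G, x ∈ L ↔ IsPiElt π x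

/-- Every π'-subgroup is centralised by the π-elements of prime power order normalising it. -/
def Homog (π : Set ℕ) (G : Type*) [Group G] : Prop :=
  ∀ H : Subgroup G, (∀ p : ℕ, p.Prime → p ∣ Nat.card H → p ∉ π) →
    ∀ p : ℕ, p.Prime → p ∈ π → ∀ y ∈ normalizer (H : Set G), (∃ k : ℕ, orderOf y = p ^ k) →
      y ∈ centralizer (H : Set G)

theorem isPiElt_of_dvd {H : Type*} [Group H] {x : G} {y : H} (h : IsPiElt π x)
    (hd : orderOf y ∣ orderOf x) : IsPiElt π y :=
  fun p hp hpy => h p hp (hpy.trans hd)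

theorem isPiElt_of_primePow {x : G} {p k : ℕ} (hp : p.Prime) (hpπ : p ∈ π)
    (hx : orderOf x = p ^ k) : IsPiElt π x := by
  intro q hq hqd
  rw [hx] at hqd
  rwa [(Nat.prime_dvd_prime_iff_eq hq hp).mp (hq.dvd_of_dvd_pow hqd)]

theorem isPiElt_of_card {H : Subgroup G} (h : ∀ p : ℕ, p.Prime → p ∣ Nat.card H → p ∈ π)
    {x : G} (hx : x ∈ H) : IsPiElt π x :=
  fun p hp hd => h p hp (hd.trans (H.orderOf_dvd_natCard hx))

theorem card_pi_of_forall [Finite G] {H : Subgroup G} (h : ∀ x ∈ H, IsPiElt π x) (p : ℕ)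
    (hp : p.Prime) (hd : p ∣ Nat.card H) : p ∈ π := by
  haveI := Fact.mk hp
  obtain ⟨x, hx⟩ := exists_prime_orderOf_dvd_card' p hd
  exact h x.1 x.2 p hp (by rw [Subgroup.orderOf_coe, hx])

theorem eq_one_of_pi_piCompl [Finite G] {x : G} (h : IsPiElt π x)
    (h' : ∀ p : ℕ, p.Prime → p ∣ orderOf x → p ∉ π) : x = 1 := by
  rw [← orderOf_eq_one_iff]
  by_contra hne
  obtain ⟨p, hp, hd⟩ := Nat.exists_prime_and_dvd hne
  exact h' p hp hd (h p hp hd)

/-- An element whose image has `p`-power order has a power of `p`-power order with the same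
image. -/
theorem exists_pow_primePow [Finite G] {H : Type*} [Group H] (f : G →* H) {p c : ℕ}
    (hp : p.Prime) (x : G) (hx : orderOf (f x) = p ^ c) :
    ∃ n : ℕ, (∃ k, orderOf (x ^ n) = p ^ k) ∧ f (x ^ n) = f x := by
  obtain ⟨a, m, hm, ham⟩ :=
    Nat.exists_eq_pow_mul_and_not_dvd (orderOf_pos x).ne' p hp.ne_one
  have hcop : Nat.Coprime m (p ^ c) :=
    (Nat.Coprime.pow_right c (hp.coprime_iff_not_dvd.mpr hm).symm)
  obtain ⟨j, hj⟩ : ∃ j, m * j ≡ 1 [MOD p ^ c] := by
    rcases Nat.eq_zero_or_pos c with hc | hc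
    · exact ⟨1, by subst hc; exact Nat.modEq_one⟩
    · have h1 : 1 < p ^ c := Nat.one_lt_pow hc.ne' hp.one_lt
      obtain ⟨j, -, hj⟩ := Nat.exists_mul_mod_eq_one_of_coprime hcop h1
      exact ⟨j, by rw [Nat.ModEq, hj, Nat.one_mod_eq_one.mpr h1.ne']⟩
  refine ⟨m * j, ?_, ?_⟩
  · have h1 : (x ^ (m * j)) ^ p ^ a = 1 := by
      rw [← pow_mul, show m * j * p ^ a = orderOf x * j by rw [ham]; ring, pow_mul,
        pow_orderOf_eq_one, one_pow]
    obtain ⟨k, -, hk⟩ := (Nat.dvd_prime_pow hp).mp (orderOf_dvd_of_pow_eq_one h1)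
    exact ⟨k, hk⟩
  · rw [map_pow]
    conv_rhs => rw [← pow_one (f x)]
    rw [pow_eq_pow_iff_modEq, hx]
    exact hj

theorem mem_of_forall_primePow [Finite G] {x : G} {C : Subgroup G}
    (h : ∀ p : ℕ, p.Prime → p ∣ orderOf x → ∀ n : ℕ,
      (∃ k, orderOf (x ^ n) = p ^ k) → x ^ n ∈ C) : x ∈ C := by
  have hdvd : orderOf x ∣ Nat.card (C ⊓ zpowers x : Subgroup G) := by
    rw [Nat.dvd_iff_prime_pow_dvd_dvd]
    intro p k hp hk
    rcases Nat.eq_zero_or_pos k with hk0 | hk0
    · subst hk0; simp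
    have ho : orderOf (x ^ (orderOf x / p ^ k)) = p ^ k := by
      rw [orderOf_pow_of_dvd ?_ (Nat.div_dvd_of_dvd hk)]
      · exact Nat.div_div_self hk (orderOf_pos x).ne'
      · exact (Nat.div_pos (Nat.le_of_dvd (orderOf_pos x) hk) (pow_pos hp.pos k)).ne'
    rw [← ho]
    exact Subgroup.orderOf_dvd_natCard _
      ⟨h p hp ((dvd_pow_self p hk0.ne').trans hk) _ ⟨k, ho⟩, pow_mem (mem_zpowers x) _⟩
  have heq : (C ⊓ zpowers x : Subgroup G) = zpowers x := by
    refine Subgroup.eq_of_le_of_card_ge inf_le_right ?_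
    rw [Nat.card_zpowers]
    exact Nat.le_of_dvd Nat.card_pos hdvd
  have := mem_zpowers x
  rw [← heq] at this
  exact this.1

theorem homog_subgroup (h : Homog π G) (S : Subgroup G) : Homog π S := by
  intro H hH p hp hpπ y hy hyo
  have hH' : ∀ q : ℕ, q.Prime → q ∣ Nat.card (H.map S.subtype) → q ∉ π := by
    intro q hq hd
    rw [Subgroup.card_map_of_injective S.subtype_injective] at hd
    exact hH q hq hd
  have hN : (y : G) ∈ normalizer ((H.map S.subtype : Subgroup G) : Set G) :=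
    le_normalizer_map S.subtype ⟨y, hy, rfl⟩
  obtain ⟨k, hk⟩ := hyo
  have hC := h _ hH' p hp hpπ y hN ⟨k, by rw [Subgroup.orderOf_coe, hk]⟩
  rw [mem_centralizer_iff] at hC ⊢
  intro g hg
  exact Subtype.ext (hC g.1 ⟨g, hg, rfl⟩)

variable [Finite G]

/-- Two `p`-elements congruent modulo a normal `p'`-subgroup are conjugate under it. -/
theorem exists_conj_of_congr {p : ℕ} (hp : p.Prime) (K : Subgroup G) [K.Normal]
    (hK : ¬ p ∣ Nat.card K) {a b : G} (ha : ∃ k, orderOf a = p ^ k)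
    (hb : ∃ k, orderOf b = p ^ k) (hab : (a : G ⧸ K) = (b : G ⧸ K)) :
    ∃ k ∈ K, k * a * k⁻¹ = b := by
  haveI := Fact.mk hp
  let f := QuotientGroup.mk' K
  have hfab : f a = f b := hab
  have inj : ∀ z : G, (∃ k, orderOf z = p ^ k) → z ∈ K → z = 1 := by
    rintro z ⟨k, hk⟩ hz
    rcases Nat.eq_zero_or_pos k with hk0 | hk0
    · subst hk0; simpa using hk
    · exact absurd ((dvd_pow_self p hk0.ne').trans (hk ▸ K.orderOf_dvd_natCard hz)) hK
  have powp : ∀ z : G, (∃ k, orderOf z = p ^ k) → ∀ i : ℕ, ∃ k, orderOf (z ^ i) = p ^ k := by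
    rintro z ⟨k, hk⟩ i
    obtain ⟨l, -, hl⟩ := (Nat.dvd_prime_pow hp).mp (hk ▸ orderOf_pow_dvd (x := z) i)
    exact ⟨l, hl⟩
  have hord : ∀ z : G, (∃ k, orderOf z = p ^ k) → orderOf (f z) = orderOf z := by
    intro z hz
    refine Nat.dvd_antisymm (orderOf_map_dvd f z) (orderOf_dvd_of_pow_eq_one ?_)
    refine inj _ (powp z hz _) ?_
    rw [← QuotientGroup.eq_one_iff]
    show f (z ^ orderOf (f z)) = 1
    rw [map_pow, pow_orderOf_eq_one]
  let J := (zpowers (f a)).comap f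
  have haJ : a ∈ J := mem_zpowers _
  have hbJ : b ∈ J := by show f b ∈ zpowers (f a); rw [← hfab]; exact mem_zpowers _
  have hKJ : K ≤ J := by
    intro k hk
    show f k ∈ zpowers (f a)
    have : f k = 1 := (QuotientGroup.eq_one_iff k).mpr hk
    rw [this]; exact one_mem _
  have hcardJ : Nat.card J = Nat.card K * orderOf a := by
    have e1 := Subgroup.card_mul_index (K.subgroupOf J)
    rw [Nat.card_congr (Subgroup.subgroupOfEquivOfLe hKJ).toEquiv] at e1
    rw [← e1]
    congr 1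
    have e2 : (K.subgroupOf J) = (⊥ : Subgroup (G ⧸ K)).comap (f.comp J.subtype) := by
      ext z
      simp only [mem_subgroupOf, Subgroup.mem_comap, mem_bot, MonoidHom.coe_comp, Subgroup.coe_subtype,
        Function.comp_apply]
      exact (QuotientGroup.eq_one_iff _).symm
    rw [e2, Subgroup.index_comap, ← hord a ha, ← Nat.card_zpowers, Subgroup.relIndex_bot_left]
    congr 2
    rw [MonoidHom.range_comp, Subgroup.range_subtype]
    rw [Subgroup.map_comap_eq_self_of_surjective (QuotientGroup.mk'_surjective K)]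
  have hfac : p ^ (Nat.card J).factorization p = orderOf a := by
    obtain ⟨k, hk⟩ := ha
    rw [hcardJ, Nat.factorization_mul Nat.card_pos.ne' (orderOf_pos a).ne', Finsupp.add_apply,
      Nat.factorization_eq_zero_of_not_dvd hK, hk, Nat.factorization_pow, Finsupp.smul_apply,
      hp.factorization_self]
    simp
  have hoab : orderOf b = orderOf a := by rw [← hord a ha, ← hord b hb, hfab]
  have cza : Nat.card (zpowers (⟨a, haJ⟩ : J)) = p ^ (Nat.card J).factorization p := by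
    rw [Nat.card_zpowers, hfac, Subgroup.orderOf_mk]
  have czb : Nat.card (zpowers (⟨b, hbJ⟩ : J)) = p ^ (Nat.card J).factorization p := by
    rw [Nat.card_zpowers, hfac, Subgroup.orderOf_mk, hoab]
  obtain ⟨g, hg⟩ := MulAction.exists_smul_eq J (Sylow.ofCard _ cza) (Sylow.ofCard _ czb)
  have hmem : g * (⟨a, haJ⟩ : J) * g⁻¹ ∈ zpowers (⟨b, hbJ⟩ : J) := by
    have h2 : MulAut.conj g • (⟨a, haJ⟩ : J) ∈
        ((g • Sylow.ofCard _ cza : Sylow p J) : Subgroup J) :=
      Subgroup.smul_mem_pointwise_smul _ _ _ (mem_zpowers _)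
    rw [hg] at h2
    simpa [Sylow.coe_ofCard] using h2
  obtain ⟨i, hi⟩ := mem_zpowers_iff.mp (g.2 : f (g : G) ∈ zpowers (f a))
  obtain ⟨j, hj⟩ := mem_zpowers_iff.mp hmem
  have hj' : b ^ j = (g : G) * a * (g : G)⁻¹ := by simpa using congrArg Subtype.val hj
  have hfg : f ((g : G) * a * (g : G)⁻¹) = f b := by
    rw [map_mul, map_mul, map_inv, ← hi, ← hfab, (Commute.zpow_self (f a) i).eq, mul_inv_cancel_right]
  have hgab : (g : G) * a * (g : G)⁻¹ = b := by
    rw [← hj'] at hfg ⊢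
    have h1 : f (b ^ j * b⁻¹) = 1 := by rw [map_mul, hfg, map_inv, mul_inv_cancel]
    have h2 : b ^ j * b⁻¹ = 1 := by
      refine inj _ ?_ ((QuotientGroup.eq_one_iff _).mp h1)
      have : b ^ j * b⁻¹ ∈ zpowers b := mul_mem (zpow_mem (mem_zpowers b) j) (inv_mem (mem_zpowers b))
      obtain ⟨n, hn⟩ := (mem_powers_iff_mem_zpowers.mpr this : _ ∈ Submonoid.powers b)
      rw [← hn]; exact powp b hb n
    exact mul_inv_eq_one.mp h2
  refine ⟨(g : G) * a ^ (-i), ?_, ?_⟩
  · rw [← QuotientGroup.eq_one_iff]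
    show f ((g : G) * a ^ (-i)) = 1
    rw [map_mul, map_zpow, ← hi, ← zpow_add, add_neg_cancel, zpow_zero]
  · rw [← hgab]; group

/-- Extension theorem: if the π-elements of `K ⊴ G` and of `G ⧸ K` form subgroups and
`G` is homogeneous, then the π-elements of `G` form a subgroup. -/
theorem piSubgroup_of_extension (hhom : Homog π G) (K : Subgroup G) [K.Normal]
    (hK : PiSubgroup π K) (hQ : PiSubgroup π (G ⧸ K)) : PiSubgroup π G := by
  obtain ⟨LK, hLK⟩ := hK
  obtain ⟨LQ, hLQ⟩ := hQ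
  let O := LK.map K.subtype
  have hOK : O ≤ K := Subgroup.map_subtype_le LK
  have hOiff : ∀ x : G, x ∈ O ↔ x ∈ K ∧ IsPiElt π x := by
    intro x
    constructor
    · rintro ⟨y, hy, rfl⟩
      exact ⟨y.2, isPiElt_of_dvd ((hLK y).mp hy) (by rw [Subgroup.coe_subtype, Subgroup.orderOf_coe])⟩
    · rintro ⟨hxK, hx⟩
      exact ⟨⟨x, hxK⟩, (hLK _).mpr (isPiElt_of_dvd hx (by rw [Subgroup.orderOf_mk])), rfl⟩
  haveI : O.Normal := ⟨fun x hx g => by
    rw [hOiff] at hx ⊢
    refine ⟨Subgroup.Normal.conj_mem inferInstance x hx.1 g, isPiElt_of_dvd hx.2 ?_⟩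
    exact orderOf_map_dvd (MulAut.conj g).toMonoidHom x⟩
  have hOcard : ∀ p : ℕ, p.Prime → p ∣ Nat.card O → p ∈ π :=
    card_pi_of_forall fun x hx => ((hOiff x).mp hx).2
  let f := QuotientGroup.mk' O
  let Kb := K.map f
  haveI : Kb.Normal := Subgroup.Normal.map inferInstance f (QuotientGroup.mk'_surjective O)
  -- `Kb` is a π'-group
  have hKb : ∀ p : ℕ, p.Prime → p ∣ Nat.card Kb → p ∉ π := by
    intro p hp hd hpπ
    haveI := Fact.mk hp
    obtain ⟨⟨z, hz⟩, hzo⟩ := exists_prime_orderOf_dvd_card' p hd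
    obtain ⟨x, hxK, rfl⟩ := hz
    have hfo : orderOf (f x) = p ^ 1 := by
      rw [pow_one, ← hzo]
      exact Subgroup.orderOf_coe ⟨f x, _⟩
    obtain ⟨n, ⟨k, hk⟩, hn⟩ := exists_pow_primePow f hp x hfo
    have hO : x ^ n ∈ O := (hOiff _).mpr ⟨pow_mem hxK n, isPiElt_of_primePow hp hpπ hk⟩
    have : f (x ^ n) = 1 := (QuotientGroup.eq_one_iff _).mpr hO
    rw [← hn, this, orderOf_one] at hfo
    exact hp.one_lt.ne (by simpa using hfo)
  -- π-elements of prime power order centralise `Kb`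
  have hcent : ∀ p : ℕ, p.Prime → p ∈ π → ∀ z : G ⧸ O, (∃ c, orderOf z = p ^ c) →
      z ∈ centralizer (Kb : Set (G ⧸ O)) := by
    intro p hp hpπ z hz
    haveI := Fact.mk hp
    obtain ⟨x, hxz⟩ := QuotientGroup.mk'_surjective O z
    obtain ⟨c, hc⟩ := hz
    obtain ⟨n, hn, hnz⟩ := exists_pow_primePow f hp x (hxz ▸ hc)
    let h := x ^ n
    have hhz : f h = z := hnz.trans hxz
    have hpK : ¬ p ∣ Nat.card Kb := fun hd => hKb p hp hd hpπ
    let C := Kb ⊓ centralizer ({z} : Set (G ⧸ O))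
    have hCdvd : Nat.card Kb ∣ Nat.card C := by
      rw [Nat.dvd_iff_prime_pow_dvd_dvd]
      intro q k hq hqk
      rcases Nat.eq_zero_or_pos k with hk0 | hk0
      · subst hk0; simp
      haveI := Fact.mk hq
      have hqπ : q ∉ π := hKb q hq ((dvd_pow_self q hk0.ne').trans hqk)
      let Q : Sylow q K := default
      let Q' := (Q : Subgroup K).map K.subtype
      have hQ'card : Nat.card Q' = q ^ (Nat.card K).factorization q := by
        rw [Subgroup.card_map_of_injective K.subtype_injective, Q.card_eq_multiplicity]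
      have hQ'π : ∀ r : ℕ, r.Prime → r ∣ Nat.card Q' → r ∉ π := by
        intro r hr hd
        rw [hQ'card] at hd
        rwa [(Nat.prime_dvd_prime_iff_eq hr hq).mp (hr.dvd_of_dvd_pow hd)]
      have hfr := Sylow.normalizer_sup_eq_top Q
      have hh : h ∈ normalizer (Q' : Set G) ⊔ K := by rw [hfr]; exact mem_top h
      obtain ⟨m, hm, k', hk', hmk⟩ := Subgroup.mem_sup_of_normal_right.mp hh
      let g := QuotientGroup.mk' K
      have hgm : g m = g h := by
        rw [← hmk, map_mul]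
        have : g k' = 1 := (QuotientGroup.eq_one_iff k').mpr hk'
        rw [this, mul_one]
      obtain ⟨d, hd⟩ := hn
      obtain ⟨d', -, hd'⟩ := (Nat.dvd_prime_pow hp).mp (hd ▸ orderOf_map_dvd g h)
      obtain ⟨i, hio, hig⟩ := exists_pow_primePow g hp m (show orderOf (g m) = p ^ d' by rw [hgm]; exact hd')
      have hm' : m ^ i ∈ centralizer (Q' : Set G) :=
        hhom Q' hQ'π p hp hpπ _ (pow_mem hm i) hio
      have hgh : g (m ^ i) = g h := hig.trans hgm
      -- conjugate inside `Kb`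
      have hfb : ∃ e, orderOf (f (m ^ i)) = p ^ e := by
        obtain ⟨e, he⟩ := hio
        obtain ⟨e', -, he'⟩ := (Nat.dvd_prime_pow hp).mp (he ▸ orderOf_map_dvd f (m ^ i))
        exact ⟨e', he'⟩
      have hcongr : ((f (m ^ i) : G ⧸ O) : (G ⧸ O) ⧸ Kb) = ((z : G ⧸ O) : (G ⧸ O) ⧸ Kb) := by
        rw [← hhz, QuotientGroup.eq]
        refine ⟨(m ^ i)⁻¹ * h, QuotientGroup.eq.mp hgh, ?_⟩
        rw [map_mul, map_inv]
      obtain ⟨t, ht, htz⟩ := exists_conj_of_congr hp Kb hpK hfb ⟨c, hc⟩ hcongr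
      let R := (Q'.map f).map (MulAut.conj t).toMonoidHom
      have hRC : R ≤ C := by
        rintro _ ⟨_, ⟨y, hy, rfl⟩, rfl⟩
        show t * f y * t⁻¹ ∈ Kb ⊓ centralizer ({z} : Set (G ⧸ O))
        refine Subgroup.mem_inf.mpr ⟨?_, ?_⟩
        · have : f y ∈ Kb := ⟨y, Subgroup.map_subtype_le _ hy, rfl⟩
          exact Kb.mul_mem (Kb.mul_mem ht this) (Kb.inv_mem ht)
        · rw [mem_centralizer_singleton_iff]
          have hcomm : f y * f (m ^ i) = f (m ^ i) * f y := by
            rw [← map_mul, ← map_mul, (mem_centralizer_iff.mp hm' y hy)]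
          rw [← htz]
          calc t * f y * t⁻¹ * (t * f (m ^ i) * t⁻¹) = t * (f y * f (m ^ i)) * t⁻¹ := by group
            _ = t * (f (m ^ i) * f y) * t⁻¹ := by rw [hcomm]
            _ = t * f (m ^ i) * t⁻¹ * (t * f y * t⁻¹) := by group
      have hRcard : Nat.card R = q ^ (Nat.card K).factorization q := by
        have hRm : R = (Q'.map f).map (MulAut.conj t).toMonoidHom := rfl
        rw [hRm, Subgroup.card_map_of_injective (MulAut.conj t).injective]
        have hdisj : ∀ y ∈ Q', f y = 1 → y = 1 := by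
          intro y hy hy1
          exact eq_one_of_pi_piCompl ((hOiff y).mp ((QuotientGroup.eq_one_iff y).mp hy1)).2
            fun r hr hd => hQ'π r hr (hd.trans (Q'.orderOf_dvd_natCard hy))
        rw [← hQ'card]
        refine (Nat.card_congr (Equiv.ofBijective (fun y : Q' => (⟨f y, y, y.2, rfl⟩ : Q'.map f))
          ⟨?_, ?_⟩)).symm
        · intro y y' he
          have he' : f y = f y' := congrArg Subtype.val he
          have := hdisj ((y : G)⁻¹ * y') (mul_mem (inv_mem y.2) y'.2)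
            (by rw [map_mul, map_inv, he', inv_mul_cancel])
          exact Subtype.ext (inv_mul_eq_one.mp this)
        · rintro ⟨_, y, hy, rfl⟩
          exact ⟨⟨y, hy⟩, rfl⟩
      calc q ^ k ∣ q ^ (Nat.card K).factorization q := by
            refine pow_dvd_pow q ?_
            refine (hq.pow_dvd_iff_le_factorization Nat.card_pos.ne').mp
              (hqk.trans (Subgroup.card_map_dvd K f))
        _ ∣ Nat.card C := hRcard ▸ Subgroup.card_dvd_of_le hRC
    have hCeq : C = Kb :=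
      Subgroup.eq_of_le_of_card_ge inf_le_left (Nat.le_of_dvd Nat.card_pos hCdvd)
    rw [mem_centralizer_iff]
    intro y hy
    have : y ∈ C := hCeq.symm ▸ hy
    exact mem_centralizer_singleton_iff.mp this.2
  -- all π-elements of `G ⧸ O` lie in `D`
  let M := LQ.comap (QuotientGroup.mk' K)
  let D := M.map f ⊓ centralizer (Kb : Set (G ⧸ O))
  have hD : ∀ z : G ⧸ O, IsPiElt π z → z ∈ D := by
    intro z hz
    refine ⟨?_, mem_of_forall_primePow fun p hp hpd n hn => hcent p hp (hz p hp hpd) _ hn⟩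
    obtain ⟨y, rfl⟩ := QuotientGroup.mk'_surjective O z
    refine ⟨y, ?_, rfl⟩
    show QuotientGroup.mk' K y ∈ LQ
    refine (hLQ _).mpr (isPiElt_of_dvd hz (orderOf_dvd_of_pow_eq_one ?_))
    rw [← map_pow]
    refine (QuotientGroup.eq_one_iff _).mpr (hOK ?_)
    rw [← QuotientGroup.eq_one_iff]
    show f (y ^ orderOf (f y)) = 1
    rw [map_pow, pow_orderOf_eq_one]
  let Z := Kb.subgroupOf D
  have hZπ : ∀ p : ℕ, p.Prime → p ∣ Nat.card Z → p ∉ π := by
    intro p hp hd
    refine hKb p hp (hd.trans ?_)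
    rw [← Subgroup.card_map_of_injective D.subtype_injective, Subgroup.subgroupOf_map_subtype]
    exact Subgroup.card_dvd_of_le inf_le_left
  have hZind : ∀ p : ℕ, p.Prime → p ∣ Z.index → p ∈ π := by
    intro p hp hd
    by_contra hpπ
    haveI := Fact.mk hp
    rw [Subgroup.index_eq_card] at hd
    obtain ⟨w, hw⟩ := exists_prime_orderOf_dvd_card' p hd
    obtain ⟨y, rfl⟩ := QuotientGroup.mk'_surjective Z w
    obtain ⟨n, ⟨k, hk⟩, hn⟩ := exists_pow_primePow (QuotientGroup.mk' Z) hp y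
      (c := 1) (by rw [pow_one, hw])
    obtain ⟨x, hxM, hxy⟩ := (y ^ n).2.1
    have hyo : orderOf ((y ^ n : D) : G ⧸ O) = p ^ k := by rw [Subgroup.orderOf_coe, hk]
    have h1 : QuotientGroup.mk' K x = 1 := by
      refine eq_one_of_pi_piCompl ((hLQ _).mp hxM) fun r hr hrd => ?_
      have hdv : orderOf (QuotientGroup.mk' K x) ∣ p ^ k := by
        refine orderOf_dvd_of_pow_eq_one ?_
        rw [← map_pow]
        refine (QuotientGroup.eq_one_iff _).mpr (hOK ?_)
        rw [← QuotientGroup.eq_one_iff]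
        show f (x ^ p ^ k) = 1
        rw [map_pow, hxy, ← hyo, pow_orderOf_eq_one]
      rwa [(Nat.prime_dvd_prime_iff_eq hr hp).mp (hr.dvd_of_dvd_pow (hrd.trans hdv))]
    have hyZ : y ^ n ∈ Z := by
      show ((y ^ n : D) : G ⧸ O) ∈ Kb
      exact ⟨x, (QuotientGroup.eq_one_iff x).mp h1, hxy⟩
    have h2 : QuotientGroup.mk' Z (y ^ n) = 1 := (QuotientGroup.eq_one_iff _).mpr hyZ
    rw [← hn, h2, orderOf_one] at hw
    exact hp.one_lt.ne hw
  have hcop : Nat.Coprime (Nat.card Z) Z.index :=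
    Nat.coprime_of_dvd fun p hp h1 h2 => hZπ p hp h1 (hZind p hp h2)
  obtain ⟨Hc, hHc⟩ := Subgroup.exists_right_complement'_of_coprime hcop
  have hHcπ : ∀ p : ℕ, p.Prime → p ∣ Nat.card Hc → p ∈ π := by
    intro p hp hd
    exact hZind p hp (hHc.symm.index_eq_card ▸ hd)
  have hZc : ∀ u ∈ Z, ∀ v : D, Commute (u : D) v := by
    intro u hu v
    exact Subtype.ext (mem_centralizer_iff.mp v.2.2 _ hu)
  have hHmem : ∀ z : G ⧸ O, IsPiElt π z → z ∈ Hc.map D.subtype := by
    intro z hz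
    obtain ⟨⟨u, v⟩, huv⟩ := hHc.2 (⟨z, hD z hz⟩ : D)
    have huv' : (u : D) * (v : D) = ⟨z, hD z hz⟩ := huv
    have hu1 : (u : D) = 1 := by
      have hu : (u : D) = (⟨z, hD z hz⟩ : D) * (v : D)⁻¹ := by rw [← huv', mul_inv_cancel_right]
      refine eq_one_of_pi_piCompl (π := π) ?_ fun r hr hd =>
        hZπ r hr (hd.trans (Z.orderOf_dvd_natCard u.2))
      intro r hr hd
      have hcm : Commute (⟨z, hD z hz⟩ : D) (v : D)⁻¹ := by
        rw [← huv']
        exact ((hZc _ u.2 (v : D)).mul_left (Commute.refl _)).inv_right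
      rw [hu] at hd
      have := (hr.dvd_mul).mp (hd.trans (hcm.orderOf_mul_dvd_mul_orderOf))
      rcases this with h | h
      · exact hz r hr (by rwa [Subgroup.orderOf_mk] at h)
      · rw [orderOf_inv] at h
        exact hHcπ r hr (h.trans (Hc.orderOf_dvd_natCard v.2))
    rw [hu1, one_mul] at huv'
    exact ⟨v, v.2, congrArg Subtype.val huv'⟩
  refine ⟨(Hc.map D.subtype).comap f, fun x => ⟨fun hx p hp hd => ?_, fun hx => ?_⟩⟩
  · have h1 : x ^ orderOf (f x) ∈ O := by
      rw [← QuotientGroup.eq_one_iff]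
      show f (x ^ orderOf (f x)) = 1
      rw [map_pow, pow_orderOf_eq_one]
    have h2 : orderOf x ∣ orderOf (f x) * orderOf (x ^ orderOf (f x)) :=
      orderOf_dvd_of_pow_eq_one (by rw [pow_mul, pow_orderOf_eq_one])
    rcases hp.dvd_mul.mp (hd.trans h2) with h | h
    · obtain ⟨v, hv, hvx⟩ := hx
      refine hHcπ p hp (h.trans ?_)
      rw [← hvx, Subgroup.coe_subtype, Subgroup.orderOf_coe]
      exact Hc.orderOf_dvd_natCard hv
    · exact hOcard p hp (h.trans (O.orderOf_dvd_natCard h1))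
  · exact hHmem (f x) (isPiElt_of_dvd hx (orderOf_map_dvd f x))

omit [Finite G] in
theorem centralizer_subgroupOf_normalizer_normal (H : Subgroup G) :
    ((centralizer (H : Set G)).subgroupOf (normalizer (H : Set G))).Normal := by
  refine ⟨fun x hx g => ?_⟩
  rw [mem_subgroupOf, mem_centralizer_iff] at hx ⊢
  intro y hy
  have hy' : (g : G)⁻¹ * y * g ∈ H := by
    have := (mem_normalizer_iff.mp (inv_mem g.2) y).mp hy
    simpa using this
  have h1 := hx _ hy'
  show y * (g * x * (g : G)⁻¹) = g * x * (g : G)⁻¹ * y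
  calc y * (g * x * (g : G)⁻¹) = g * ((g : G)⁻¹ * y * g * x) * (g : G)⁻¹ := by group
    _ = g * (x * ((g : G)⁻¹ * y * g)) * (g : G)⁻¹ := by rw [h1]
    _ = g * x * (g : G)⁻¹ * y := by group

/-- The hypothesis "`N(H)/C(H)` is a π'-group" gives homogeneity. -/
theorem homog_of_relIndex (h : ∀ H : Subgroup G, H ≠ ⊥ →
    (∀ p : ℕ, p.Prime → p ∣ Nat.card H → p ∉ π) → ∀ p : ℕ, p.Prime →
    p ∣ (centralizer (H : Set G)).relIndex (normalizer (H : Set G)) → p ∉ π) : Homog π G := by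
  intro H hH p hp hpπ y hy ⟨k, hk⟩
  by_cases hbot : H = ⊥
  · subst hbot
    rw [mem_centralizer_iff]
    intro z hz
    rw [Subgroup.mem_bot.mp hz, one_mul, mul_one]
  by_contra hyC
  haveI := centralizer_subgroupOf_normalizer_normal H
  let N' := (centralizer (H : Set G)).subgroupOf (normalizer (H : Set G))
  let f := QuotientGroup.mk' N'
  have hne : f ⟨y, hy⟩ ≠ 1 := fun he => hyC (mem_subgroupOf.mp ((QuotientGroup.eq_one_iff (⟨y, hy⟩ : normalizer (H : Set G))).mp he))
  have hd : orderOf (f ⟨y, hy⟩) ∣ p ^ k := by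
    rw [← hk, ← Subgroup.orderOf_mk y hy]
    exact orderOf_map_dvd f _
  obtain ⟨j, -, hj⟩ := (Nat.dvd_prime_pow hp).mp hd
  have hpd : p ∣ orderOf (f ⟨y, hy⟩) := by
    rw [hj]
    refine dvd_pow_self p fun hj0 => hne ?_
    rw [hj0, pow_zero] at hj
    exact orderOf_eq_one_iff.mp hj
  refine h H hbot hH p hp ?_ hpπ
  show p ∣ N'.index
  rw [Subgroup.index_eq_card]
  exact hpd.trans (orderOf_dvd_natCard _)

/-- In a group whose π-elements form a subgroup, `N(H)/C(H)` is a π'-group for π'-subgroups. -/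
theorem relIndex_of_piSubgroup (hG : PiSubgroup π G) (H : Subgroup G)
    (hH : ∀ p : ℕ, p.Prime → p ∣ Nat.card H → p ∉ π) (p : ℕ) (hp : p.Prime)
    (hd : p ∣ (centralizer (H : Set G)).relIndex (normalizer (H : Set G))) : p ∉ π := by
  intro hpπ
  obtain ⟨L, hL⟩ := hG
  haveI := Fact.mk hp
  haveI := centralizer_subgroupOf_normalizer_normal H
  let N' := (centralizer (H : Set G)).subgroupOf (normalizer (H : Set G))
  change p ∣ N'.index at hd
  rw [Subgroup.index_eq_card] at hd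
  obtain ⟨w, hw⟩ := exists_prime_orderOf_dvd_card' p hd
  obtain ⟨y, rfl⟩ := QuotientGroup.mk'_surjective N' w
  obtain ⟨n, ⟨k, hk⟩, hn⟩ := exists_pow_primePow (QuotientGroup.mk' N') hp y (c := 1)
    (by rw [pow_one, hw])
  have hzL : ((y ^ n : normalizer (H : Set G)) : G) ∈ L :=
    (hL _).mpr (isPiElt_of_primePow hp hpπ (by rw [Subgroup.orderOf_coe, hk]))
  have hzC : y ^ n ∈ N' := by
    rw [mem_subgroupOf, mem_centralizer_iff]
    intro g hg
    set z : G := ((y ^ n : normalizer (H : Set G)) : G) with hzd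
    have hzN : z ∈ normalizer (H : Set G) := (y ^ n).2
    have hcH : z * g * z⁻¹ * g⁻¹ ∈ H :=
      mul_mem ((mem_normalizer_iff.mp hzN g).mp hg) (inv_mem hg)
    have hcL : z * (g * z⁻¹ * g⁻¹) ∈ L := by
      refine mul_mem hzL ((hL _).mpr ?_)
      refine isPiElt_of_dvd ((hL _).mp (inv_mem hzL)) ?_
      exact orderOf_map_dvd (MulAut.conj g).toMonoidHom z⁻¹
    have h1 : z * g * z⁻¹ * g⁻¹ = 1 := by
      refine eq_one_of_pi_piCompl (π := π) ?_ fun r hr hrd =>
        hH r hr (hrd.trans (H.orderOf_dvd_natCard hcH))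
      rw [show z * g * z⁻¹ * g⁻¹ = z * (g * z⁻¹ * g⁻¹) by group]
      exact (hL _).mp hcL
    calc g * z = (z * g * z⁻¹ * g⁻¹)⁻¹ * (z * g) := by group
      _ = z * g := by rw [h1, inv_one, one_mul]
  have h2 : QuotientGroup.mk' N' (y ^ n) = 1 := (QuotientGroup.eq_one_iff _).mpr hzC
  rw [← hn, h2, orderOf_one] at hw
  exact hp.one_lt.ne hw

omit [Finite G] in
theorem piSubgroup_of_mulEquiv {H : Type*} [Group H] (e : G ≃* H) (h : PiSubgroup π G) :
    PiSubgroup π H := by
  obtain ⟨L, hL⟩ := h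
  refine ⟨L.comap e.symm.toMonoidHom, fun x => ?_⟩
  rw [Subgroup.mem_comap, hL]
  simp [IsPiElt]

end CfsgLib.SolvStruct.PiElements
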