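import Cfsg.Agent.Lib.SolvStruct.Huppert
import Cfsg.Agent.Lib.Coprime.Hall
import Cfsg.Agent.Lib.Coprime.Action2

/-!
Supersolvable groups and subgroups of every possible order.
-/

set_option autoImplicit false

open scoped Pointwise

namespace CfsgLib.SolvStruct

universe u

variable {G : Type u} [Group G]

theorem supersolvable_of_pgroup_aux (p : ℕ) [Fact p.Prime] (n : ℕ) : ∀ {G : Type u} [Group G]
    [Finite G], Nat.card G ≤ n → IsPGroup p G → Cfsg.IsSupersolvable G := by
  induction n with
  | zero =>
    intro G _ _ hG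
    exact absurd hG (Nat.not_le.mpr Nat.card_pos)
  | succ n ih =>
    intro G _ _ hG hp
    rcases subsingleton_or_nontrivial G with hs | hs
    · exact supersolvable_of_subsingleton
    have : Nontrivial (Subgroup.center G) := hp.center_nontrivial
    obtain ⟨x, hx⟩ := exists_ne (1 : Subgroup.center G)
    have : (Subgroup.zpowers (x : G)).Normal := by
      refine ⟨fun y hy g => ?_⟩
      have : y ∈ Subgroup.center G := Subgroup.zpowers_le.mpr x.2 hy
      rwa [Subgroup.mem_center_iff.mp this g, mul_inv_cancel_right]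
    have hne : Subgroup.zpowers (x : G) ≠ ⊥ := fun h =>
      hx (Subtype.ext (Subgroup.zpowers_eq_bot.mp h))
    exact supersolvable_of_cyclic_normal (Subgroup.zpowers (x : G))
      (ih (Nat.lt_succ_iff.mp ((card_quotient_lt' hne).trans_le hG)) (hp.to_quotient _))

/-- Finite `p`-groups are supersolvable. -/
theorem supersolvable_of_pgroup [Finite G] {p : ℕ} [Fact p.Prime] (hp : IsPGroup p G) :
    Cfsg.IsSupersolvable G :=
  supersolvable_of_pgroup_aux p _ le_rfl hp

/-- The Sylow subgroup of a supersolvable group for the largest prime is normal. -/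
theorem sylow_normal_of_supersolvable [Finite G] (h : Cfsg.IsSupersolvable G) {p : ℕ}
    [Fact p.Prime] (hmax : ∀ q : ℕ, q.Prime → q ∣ Nat.card G → q ≤ p) (P : Sylow p G) :
    (P : Subgroup G).Normal :=
  sylow_normal_of_prime_index (fun _ hM => prime_index_of_isCoatom h hM) hmax P

/-- A nontrivial supersolvable group has a normal subgroup of order its largest prime divisor. -/
theorem exists_max_prime_normal [Finite G] [Nontrivial G] (h : Cfsg.IsSupersolvable G) :
    ∃ (p : ℕ) (N : Subgroup G), p.Prime ∧ N.Normal ∧ Nat.card N = p ∧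
      ∀ q : ℕ, q.Prime → q ∣ Nat.card G → q ≤ p := by
  obtain ⟨p, hp, hpd, hmax⟩ := exists_max_prime (G := G)
  have := Fact.mk hp
  obtain ⟨P⟩ : Nonempty (Sylow p G) := inferInstance
  obtain ⟨R, hR, hRp, hRP⟩ := exists_prime_normal_le h (sylow_normal_of_supersolvable h hmax P)
    (P.ne_bot_of_dvd_card hpd)
  refine ⟨p, R, hp, hR, ?_, hmax⟩
  obtain ⟨k, hk⟩ := IsPGroup.iff_card.mp (P.2.to_le hRP)
  exact (Nat.prime_dvd_prime_iff_eq hRp hp).mp (hRp.dvd_of_dvd_pow hk.dvd)

theorem exists_chain_aux (n : ℕ) : ∀ {G : Type u} [Group G] [Finite G],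
    Nat.card G ≤ n → Cfsg.IsSupersolvable G →
    ∃ (m : ℕ) (H : Fin (m + 1) → Subgroup G), H 0 = ⊥ ∧ H (Fin.last m) = ⊤ ∧
      (∀ i, (H i).Normal) ∧
      (∀ i : Fin m, H i.castSucc ≤ H i.succ ∧ ((H i.castSucc).relIndex (H i.succ)).Prime) ∧
      ∀ i j : Fin m, i ≤ j →
        (H j.castSucc).relIndex (H j.succ) ≤ (H i.castSucc).relIndex (H i.succ) := by
  induction n with
  | zero =>
    intro G _ _ hG
    exact absurd hG (Nat.not_le.mpr Nat.card_pos)
  | succ n ih =>
    intro G _ _ hG h
    rcases subsingleton_or_nontrivial G with hs | hs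
    · exact ⟨0, fun _ => ⊥, rfl, Subsingleton.elim _ _, fun _ => inferInstance,
        fun i => i.elim0, fun i => i.elim0⟩
    obtain ⟨p, N, hp, hN, hcard, hmax⟩ := exists_max_prime_normal h
    have hne : N ≠ ⊥ := ne_bot_of_card_prime (hcard.symm ▸ hp)
    set f := QuotientGroup.mk' N with hf
    have hsurj : Function.Surjective f := QuotientGroup.mk'_surjective N
    obtain ⟨m, H, h0, hlast, hnormal, hstep, hanti⟩ :=
      ih (Nat.lt_succ_iff.mp ((card_quotient_lt' hne).trans_le hG)) (supersolvable_quotient h N)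
    set L : Fin (m + 1 + 1) → Subgroup G := Fin.cons ⊥ fun i => (H i).comap f with hL
    have hrel : ∀ i : Fin m, (L i.succ.castSucc).relIndex (L i.succ.succ) =
        (H i.castSucc).relIndex (H i.succ) := by
      intro i
      simp only [hL, Fin.cons_succ, Fin.castSucc_succ]
      rw [Subgroup.relIndex_comap, Subgroup.map_comap_eq_self_of_surjective hsurj]
    have hrel0 : (L (0 : Fin (m + 1)).castSucc).relIndex (L (0 : Fin (m + 1)).succ) = p := by
      simp only [hL, Fin.castSucc_zero, Fin.cons_zero, Fin.cons_succ, h0,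
        Subgroup.relIndex_bot_left]
      rw [MonoidHom.comap_bot, hf, QuotientGroup.ker_mk', hcard]
    refine ⟨m + 1, L, by simp [hL], ?_, ?_, ?_, ?_⟩
    · rw [hL, show Fin.last (m + 1) = (Fin.last m).succ from rfl, Fin.cons_succ, hlast,
        Subgroup.comap_top]
    · intro i
      induction i using Fin.cases with
      | zero => simp only [hL, Fin.cons_zero]; infer_instance
      | succ i => simp only [hL, Fin.cons_succ]; exact (hnormal i).comap f
    · intro i
      induction i using Fin.cases with
      | zero =>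
        refine ⟨?_, hrel0.symm ▸ hp⟩
        simp only [hL, Fin.castSucc_zero, Fin.cons_zero]
        exact bot_le
      | succ i =>
        refine ⟨?_, hrel i ▸ (hstep i).2⟩
        simp only [hL, Fin.cons_succ, Fin.castSucc_succ]
        exact Subgroup.comap_mono (hstep i).1
    · intro i j hij
      induction j using Fin.cases with
      | zero => rw [Fin.le_zero_iff.mp hij]
      | succ j =>
        induction i using Fin.cases with
        | zero =>
          rw [hrel0, hrel j]
          refine hmax _ (hstep j).2 ?_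
          exact ((Subgroup.relIndex_dvd_card _ _).trans (Subgroup.card_subgroup_dvd_card _)).trans
            (Subgroup.card_quotient_dvd_card N)
        | succ i =>
          rw [hrel i, hrel j]
          exact hanti i j (Fin.succ_le_succ_iff.mp hij)

theorem hasSubgroupOfEveryOrder_aux (n : ℕ) : ∀ {G : Type u} [Group G] [Finite G],
    Nat.card G ≤ n → Cfsg.IsSupersolvable G → Cfsg.HasSubgroupOfEveryOrder G := by
  induction n with
  | zero =>
    intro G _ _ hG
    exact absurd hG (Nat.not_le.mpr Nat.card_pos)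
  | succ n ih =>
    intro G _ _ hG h d hd
    rcases subsingleton_or_nontrivial G with hs | hs
    · exact ⟨⊥, by
        rw [Nat.card_unique (α := G), Nat.dvd_one] at hd
        rw [hd, Subgroup.card_bot]⟩
    obtain ⟨N, hN, hp⟩ := exists_prime_normal h
    set f := QuotientGroup.mk' N with hf
    have hsurj : Function.Surjective f := QuotientGroup.mk'_surjective N
    have hlt : Nat.card (G ⧸ N) ≤ n :=
      Nat.lt_succ_iff.mp ((card_quotient_lt' (ne_bot_of_card_prime hp)).trans_le hG)
    have hcard : Nat.card G = Nat.card N * Nat.card (G ⧸ N) := by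
      rw [← Subgroup.index_eq_card, N.card_mul_index]
    have hNle : ∀ H : Subgroup (G ⧸ N), N ≤ H.comap f := fun H =>
      (QuotientGroup.ker_mk' N).symm.le.trans (MonoidHom.ker_le_comap f H)
    have hcomap : ∀ H : Subgroup (G ⧸ N), Nat.card (H.comap f) = Nat.card N * Nat.card H := by
      intro H
      conv_rhs => rw [← Subgroup.map_comap_eq_self_of_surjective hsurj H]
      rw [hf, CfsgLib.Coprime.card_map_mk', ← Subgroup.relIndex_bot_left,
        ← Subgroup.relIndex_bot_left, Subgroup.relIndex_mul_relIndex _ _ _ bot_le]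
      exact hNle H
    by_cases hpd : Nat.card N ∣ d
    · obtain ⟨e, rfl⟩ := hpd
      obtain ⟨H, hH⟩ := ih hlt (supersolvable_quotient h N) e
        (Nat.dvd_of_mul_dvd_mul_left Nat.card_pos (hcard ▸ hd))
      exact ⟨H.comap f, by rw [hcomap, hH]⟩
    · have hco : (Nat.card N).Coprime d := (Nat.Prime.coprime_iff_not_dvd hp).mpr hpd
      obtain ⟨H, hH⟩ := ih hlt (supersolvable_quotient h N) d
        (hco.symm.dvd_of_dvd_mul_left (hcard ▸ hd))
      have hrel : N.relIndex (H.comap f) = d := by
        rw [← CfsgLib.Coprime.card_map_mk', ← hf, Subgroup.map_comap_eq_self_of_surjective hsurj, hH]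
      obtain ⟨B, -, hB, -⟩ := CfsgLib.Coprime.exists_complement_in (hNle H)
        Subgroup.le_normalizer_of_normal (by rw [hrel]; exact hco)
      exact ⟨B, hB.trans hrel⟩

theorem hasSubgroupOfEveryOrder [Finite G] (h : Cfsg.IsSupersolvable G) :
    Cfsg.HasSubgroupOfEveryOrder G :=
  hasSubgroupOfEveryOrder_aux _ le_rfl h

/-- Transport of the converse of Lagrange's theorem along an isomorphism. -/
theorem hasSubgroupOfEveryOrder_congr {L : Type*} [Group L] (e : G ≃* L)
    (h : Cfsg.HasSubgroupOfEveryOrder G) : Cfsg.HasSubgroupOfEveryOrder L := by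
  intro d hd
  obtain ⟨H, hH⟩ := h d (by rwa [Nat.card_congr e.toEquiv])
  exact ⟨H.map e.toMonoidHom, (Nat.card_congr (e.subgroupMap H).toEquiv).symm.trans hH⟩

theorem forall_subgroup_orders {H : Subgroup G}
    (h : ∀ K : Subgroup G, Cfsg.HasSubgroupOfEveryOrder K) (K : Subgroup H) :
    Cfsg.HasSubgroupOfEveryOrder K :=
  hasSubgroupOfEveryOrder_congr (K.equivMapOfInjective _ H.subtype_injective).symm
    (h (K.map H.subtype))

theorem sylow_normal_of_orders_aux (n : ℕ) : ∀ {G : Type u} [Group G] [Finite G],
    Nat.card G ≤ n → (∀ H : Subgroup G, Cfsg.HasSubgroupOfEveryOrder H) →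
    ∀ (p : ℕ) [Fact p.Prime], (∀ q : ℕ, q.Prime → q ∣ Nat.card G → q ≤ p) →
    ∀ P : Sylow p G, (P : Subgroup G).Normal := by
  induction n with
  | zero =>
    intro G _ _ hG
    exact absurd hG (Nat.not_le.mpr Nat.card_pos)
  | succ n ih =>
    intro G _ _ hG h p hp hmax P
    rcases subsingleton_or_nontrivial G with hs | hs
    · rw [show (P : Subgroup G) = ⊥ from Subsingleton.elim _ _]
      infer_instance
    have h1 : Nat.card G ≠ 1 := Finite.one_lt_card.ne'
    have hqp := Nat.minFac_prime h1
    have hqd := Nat.minFac_dvd (Nat.card G)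
    set q := (Nat.card G).minFac with hq
    rcases (hmax q hqp hqd).lt_or_eq with hlt | heq
    · obtain ⟨H₀, hH₀⟩ := h ⊤ (Nat.card G / q)
        (by rw [Subgroup.card_top]; exact Nat.div_dvd_of_dvd hqd)
      set H := H₀.map (⊤ : Subgroup G).subtype with hH
      have hcard : Nat.card H = Nat.card G / q :=
        (Nat.card_congr (H₀.equivMapOfInjective _ (Subgroup.subtype_injective _)).toEquiv).symm.trans
          hH₀
      have hidx : H.index = q := by
        have := H.card_mul_index
        rw [hcard] at this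
        exact Nat.eq_of_mul_eq_mul_left
          (Nat.div_pos (Nat.le_of_dvd Nat.card_pos hqd) hqp.pos)
          (this.trans (Nat.div_mul_cancel hqd).symm)
      have hHn : H.Normal := Subgroup.normal_of_index_eq_minFac_card hidx
      have hPH : (P : Subgroup G) ≤ H := by
        intro x hx
        obtain ⟨k, hk⟩ := P.2 ⟨x, hx⟩
        rw [← QuotientGroup.eq_one_iff, ← QuotientGroup.mk'_apply, ← orderOf_eq_one_iff]
        have h2 : orderOf (QuotientGroup.mk' H x) ∣ p ^ k := by
          rw [orderOf_dvd_iff_pow_eq_one, ← map_pow,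
            show x ^ p ^ k = 1 from congrArg Subtype.val hk, map_one]
        have h3 : orderOf (QuotientGroup.mk' H x) ∣ q :=
          hidx ▸ H.index_eq_card.symm ▸ orderOf_dvd_natCard _
        refine Nat.eq_one_of_dvd_coprimes ?_ h3 h2
        exact Nat.Coprime.pow_right _ ((Nat.coprime_primes hqp hp.out).mpr hlt.ne)
      have hHlt : Nat.card H ≤ n := by
        rw [hcard]
        exact Nat.lt_succ_iff.mp ((Nat.div_lt_self Nat.card_pos hqp.one_lt).trans_le hG)
      have hn : ((P.subtype hPH : Sylow p H) : Subgroup H).Normal :=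
        ih hHlt (forall_subgroup_orders h) p
          (fun r hr hd => hmax r hr (hd.trans (Subgroup.card_subgroup_dvd_card H))) (P.subtype hPH)
      have := (P.subtype hPH).characteristic_of_normal hn
      have hfin : (((P.subtype hPH : Sylow p H) : Subgroup H).map H.subtype).Normal := inferInstance
      rwa [show ((P.subtype hPH : Sylow p H) : Subgroup H).map H.subtype = (P : Subgroup G) from
        Subgroup.map_subgroupOf_eq_of_le hPH] at hfin
    · have hpg : IsPGroup p G := IsPGroup.of_card (n := (Nat.card G).primeFactorsList.length)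
        (Nat.eq_prime_pow_of_unique_prime_dvd Nat.card_pos.ne' fun {d} hd hdd =>
          le_antisymm (hmax d hd hdd) (heq ▸ Nat.minFac_le_of_dvd hd.two_le hdd))
      have htop : (P : Subgroup G) = ⊤ :=
        (P.is_maximal' (hpg.to_subgroup ⊤) le_top).symm
      rw [htop]
      infer_instance

/-- If all subgroups satisfy the converse of Lagrange, the Sylow subgroup for the largest prime
is normal. -/
theorem sylow_normal_of_orders [Finite G] (h : ∀ H : Subgroup G, Cfsg.HasSubgroupOfEveryOrder H)
    {p : ℕ} [Fact p.Prime] (hmax : ∀ q : ℕ, q.Prime → q ∣ Nat.card G → q ≤ p) (P : Sylow p G) :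
    (P : Subgroup G).Normal :=
  sylow_normal_of_orders_aux _ le_rfl h p hmax P

theorem supersolvable_of_orders_aux (n : ℕ) : ∀ {G : Type u} [Group G] [Finite G],
    Nat.card G ≤ n → (∀ H : Subgroup G, Cfsg.HasSubgroupOfEveryOrder H) →
    Cfsg.IsSupersolvable G := by
  induction n with
  | zero =>
    intro G _ _ hG
    exact absurd hG (Nat.not_le.mpr Nat.card_pos)
  | succ n ih =>
    intro G _ _ hG h
    rcases subsingleton_or_nontrivial G with hs | hs
    · exact supersolvable_of_subsingleton
    obtain ⟨p, hp, hpd, hmax⟩ := exists_max_prime (G := G)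
    have := Fact.mk hp
    obtain ⟨P⟩ : Nonempty (Sylow p G) := inferInstance
    have hPn := sylow_normal_of_orders h hmax P
    have hPne : (P : Subgroup G) ≠ ⊥ := P.ne_bot_of_dvd_card hpd
    by_cases hPtop : (P : Subgroup G) = ⊤
    · refine supersolvable_of_pgroup (p := p) fun g => ?_
      obtain ⟨k, hk⟩ := P.2 ⟨g, hPtop.symm ▸ Subgroup.mem_top g⟩
      exact ⟨k, congrArg Subtype.val hk⟩
    obtain ⟨B, hB⟩ := Subgroup.exists_right_complement'_of_coprime P.card_coprime_index
    have hsub : ∀ H : Subgroup G, H ≠ ⊤ → Cfsg.IsSupersolvable H := fun H hH =>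
      ih (Nat.lt_succ_iff.mp ((CfsgLib.Coprime.card_lt_of_ne_top hH).trans_le hG))
        (forall_subgroup_orders h)
    have hBtop : B ≠ ⊤ := fun ht => hPne (Subgroup.isComplement'_top_right.mp (ht ▸ hB))
    have hGP : Cfsg.IsSupersolvable (G ⧸ (P : Subgroup G)) :=
      supersolvable_congr hB.symm.QuotientMulEquiv.symm (hsub B hBtop)
    apply supersolvable_of_prime_index
    intro M hM
    set f := QuotientGroup.mk' (P : Subgroup G)
    have hsurj : Function.Surjective f := QuotientGroup.mk'_surjective _
    by_cases hPM : (P : Subgroup G) ≤ M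
    · have hker : f.ker ≤ M := (QuotientGroup.ker_mk' _).le.trans hPM
      have hco : IsCoatom (M.map f) := by
        refine ⟨fun htop => hM.1 ?_, fun K hK => ?_⟩
        · have := congrArg (Subgroup.comap f) htop
          rwa [Subgroup.comap_map_eq_self hker, Subgroup.comap_top] at this
        · have hKc : M < K.comap f :=
            lt_of_le_of_ne (Subgroup.map_le_iff_le_comap.mp hK.le) fun he => hK.ne (by
              rw [he, Subgroup.map_comap_eq_self_of_surjective hsurj])
          rw [← Subgroup.map_comap_eq_self_of_surjective hsurj K, hM.2 _ hKc,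
            Subgroup.map_top_of_surjective f hsurj]
      have := prime_index_of_isCoatom hGP hco
      rwa [Subgroup.index_map_eq _ hsurj hker] at this
    -- `M` contains a complement of `P`, and meets `P` in a normal subgroup `R`
    have hMPtop : M ⊔ (P : Subgroup G) = ⊤ :=
      hM.2 _ (lt_of_le_of_ne le_sup_left fun he => hPM (he ▸ le_sup_right))
    have hMnP : M ≤ Subgroup.normalizer ((P : Subgroup G) : Set G) := Subgroup.le_normalizer_of_normal
    have hcard := CfsgLib.Coprime.card_sup_mul_card_inf hMnP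
    rw [hMPtop, Subgroup.card_top, ← M.card_mul_index, mul_assoc] at hcard
    have hidx : M.index * Nat.card ↥(M ⊓ (P : Subgroup G)) = Nat.card (P : Subgroup G) :=
      Nat.eq_of_mul_eq_mul_left Nat.card_pos hcard
    set R := M ⊓ (P : Subgroup G) with hR
    have hne1 : M.index ≠ 1 := fun h1 => hM.1 (Subgroup.index_eq_one.mp h1)
    have hRP : R < (P : Subgroup G) :=
      lt_of_le_of_ne inf_le_right fun he => hPM (he ▸ inf_le_left)
    have hRn : R.Normal := by
      rw [← Subgroup.normalizer_eq_top_iff]
      refine hM.2 _ (lt_of_le_of_ne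
        (CfsgLib.Coprime.le_normalizer_inf_inf Subgroup.le_normalizer hMnP) fun he => ?_)
      have : Group.IsNilpotent (P : Subgroup G) := P.2.isNilpotent
      have hlt : R.subgroupOf (P : Subgroup G) < ⊤ :=
        lt_top_iff_ne_top.mpr fun ht => hRP.not_ge (Subgroup.subgroupOf_eq_top.mp ht)
      obtain ⟨x, hx, hxR⟩ :=
        SetLike.exists_of_lt (Group.normalizerCondition_of_isNilpotent _ hlt)
      rw [← Subgroup.subgroupOf_normalizer_eq inf_le_right, Subgroup.mem_subgroupOf, ← he] at hx
      exact hxR (Subgroup.mem_subgroupOf.mpr ⟨hx, x.2⟩)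
    obtain ⟨m, hm⟩ := IsPGroup.iff_card.mp P.2
    obtain ⟨k, -, hk⟩ := (Nat.dvd_prime_pow hp).mp (hm ▸ Dvd.intro _ hidx : M.index ∣ p ^ m)
    rcases k with _ | _ | k
    · exact absurd hk hne1
    · rw [hk]; simpa using hp
    exfalso
    -- a proper subgroup `L = S B` with `R S = P`
    obtain ⟨j, hj⟩ : ∃ j, Nat.card R = p ^ j := IsPGroup.iff_card.mp (P.2.to_le inf_le_right)
    have hcP : Nat.card (P : Subgroup G) = p ^ (k + 1 + 1) * p ^ j := by rw [← hidx, hk, hj]
    have hd : p ^ (j + 1) * Nat.card B ∣ Nat.card (⊤ : Subgroup G) := by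
      rw [Subgroup.card_top, ← hB.card_mul_card, hcP, ← pow_add]
      exact Nat.mul_dvd_mul_right (pow_dvd_pow p (by omega)) _
    obtain ⟨L₀, hL₀⟩ := h ⊤ _ hd
    set L := L₀.map (⊤ : Subgroup G).subtype with hLdef
    have hL : Nat.card L = p ^ (j + 1) * Nat.card B :=
      (Nat.card_congr (L₀.equivMapOfInjective _ (Subgroup.subtype_injective _)).toEquiv).symm.trans
        hL₀
    have hLtop : L ≠ ⊤ := by
      intro ht
      rw [ht, Subgroup.card_top, ← hB.card_mul_card, hcP, ← pow_add] at hL
      have := Nat.pow_right_injective hp.two_le (Nat.eq_of_mul_eq_mul_right Nat.card_pos hL)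
      omega
    set S := L ⊓ (P : Subgroup G) with hS
    -- `|S| = p ^ (j + 1)`
    have hLnP : L ≤ Subgroup.normalizer ((P : Subgroup G) : Set G) := Subgroup.le_normalizer_of_normal
    have hcopB : (Nat.card (P : Subgroup G)).Coprime (Nat.card B) := by
      rw [← hB.symm.index_eq_card]; exact P.card_coprime_index
    have hPj : p ^ (j + 1) ∣ Nat.card (P : Subgroup G) :=
      hcP ▸ (pow_add p _ _) ▸ pow_dvd_pow p (by omega)
    have hLP : L ⊔ (P : Subgroup G) = ⊤ := by
      apply (Subgroup.card_eq_iff_eq_top _).mp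
      refine Nat.dvd_antisymm (Subgroup.card_subgroup_dvd_card _) ?_
      rw [← hB.card_mul_card]
      exact hcopB.mul_dvd_of_dvd_of_dvd (Subgroup.card_dvd_of_le le_sup_right)
        ((hL ▸ dvd_mul_left _ _).trans (Subgroup.card_dvd_of_le (le_sup_left : L ≤ L ⊔ _)))
    have hScard : Nat.card S = p ^ (j + 1) := by
      have h2 := CfsgLib.Coprime.card_sup_mul_card_inf hLnP
      rw [hLP, Subgroup.card_top, hL, ← hB.card_mul_card] at h2
      refine Nat.eq_of_mul_eq_mul_left
        (Nat.mul_pos (Nat.card_pos (α := (P : Subgroup G))) (Nat.card_pos (α := B))) ?_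
      rw [show Nat.card ↥S = Nat.card ↥(L ⊓ (P : Subgroup G)) from rfl, h2]
      ring
    have hLs := hsub L hLtop
    -- `P / R` is abelian, and is a chief factor
    have hirrN : ∀ T : Subgroup G, R < T → T ≤ (P : Subgroup G) → T.Normal → T = (P : Subgroup G) := by
      intro T hRT hTP hTn
      have hMT : M ⊔ T = ⊤ := hM.2 _ (lt_of_le_of_ne le_sup_left fun he =>
        hRT.not_ge (le_inf (le_sup_right.trans he.ge) hTP))
      refine le_antisymm hTP fun x hx => ?_
      obtain ⟨u, hu, v, hv, rfl⟩ := Subgroup.mem_sup_of_normal_right.mp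
        (hMT ▸ Subgroup.mem_top x)
      exact T.mul_mem (hRT.le ⟨hu, ((P : Subgroup G).mul_mem_cancel_right (hTP hv)).mp hx⟩) hv
    have hPd : ∀ x ∈ (P : Subgroup G), ∀ y ∈ (P : Subgroup G), x * y * x⁻¹ * y⁻¹ ∈ R := by
      set D := ⁅(P : Subgroup G), (P : Subgroup G)⁆ ⊔ R with hD
      have hDP : D ≤ (P : Subgroup G) := sup_le (Subgroup.commutator_le_self _) inf_le_right
      rcases (le_sup_right : R ≤ D).lt_or_eq with hlt | heq
      · exfalso
        have hDeq := hirrN D hlt hDP (Subgroup.sup_normal _ _)
        have : Group.IsNilpotent (P : Subgroup G) := P.2.isNilpotent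
        have htop : R.subgroupOf (P : Subgroup G) ⊔ commutator (P : Subgroup G) = ⊤ := by
          apply Subgroup.map_injective (P : Subgroup G).subtype_injective
          rw [Subgroup.map_sup, Subgroup.map_subgroupOf_eq_of_le inf_le_right,
            Subgroup.map_subtype_commutator, ← MonoidHom.range_eq_map, Subgroup.range_subtype,
            sup_comm]
          exact hDeq
        have hfr : commutator (P : Subgroup G) ≤ frattini (P : Subgroup G) := by
          rw [frattini, Order.radical, le_iInf₂_iff]
          exact fun U hU => CfsgLib.Coprime.commutator_le_coatom hU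
        exact hRP.not_ge (Subgroup.subgroupOf_eq_top.mp
          (frattini_nongenerating (top_le_iff.mp (htop.ge.trans (sup_le_sup_left hfr _)))))
      · intro x hx y hy
        exact heq.symm ▸ Subgroup.mem_sup_left (Subgroup.commutator_mem_commutator hx hy)
    have hirr : ∀ T : Subgroup G, R < T → T ≤ (P : Subgroup G) →
        L ≤ Subgroup.normalizer (T : Set G) → T = (P : Subgroup G) := by
      intro T hRT hTP hLT
      refine hirrN T hRT hTP ?_
      rw [← Subgroup.normalizer_eq_top_iff, eq_top_iff, ← hLP]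
      refine sup_le hLT fun x hx => ?_
      have key : ∀ z ∈ (P : Subgroup G), ∀ y ∈ T, z * y * z⁻¹ ∈ T := fun z hz y hy => by
        simpa using T.mul_mem (hRT.le (hPd z hz y (hTP hy))) hy
      rw [Subgroup.mem_normalizer_iff]
      refine fun y => ⟨key x hx y, fun hy => ?_⟩
      simpa [mul_assoc] using key x⁻¹ ((P : Subgroup G).inv_mem hx) _ hy
    have hLS : L ≤ Subgroup.normalizer (S : Set G) :=
      CfsgLib.Coprime.le_normalizer_inf_inf Subgroup.le_normalizer hLnP
    have hSR : ¬ S ≤ R := fun hle => by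
      have h3 := Subgroup.card_dvd_of_le hle
      rw [hScard, hj, Nat.pow_dvd_pow_iff_le_right hp.one_lt] at h3
      omega
    -- in `L`, take a minimal normal subgroup above `R ⊓ S`, inside `S`
    have hSn : (S.subgroupOf L).Normal := Subgroup.normal_subgroupOf_of_le_normalizer hLS
    have hRSn : ((R ⊓ S).subgroupOf L).Normal := Subgroup.normal_subgroupOf_of_le_normalizer
      (CfsgLib.Coprime.le_normalizer_inf_inf Subgroup.le_normalizer_of_normal hLS)
    set g := QuotientGroup.mk' ((R ⊓ S).subgroupOf L) with hg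
    obtain ⟨Z, hZn, hZp, hZle⟩ := exists_prime_normal_le
      (supersolvable_quotient (hsub L hLtop) ((R ⊓ S).subgroupOf L))
      (hSn.map g (QuotientGroup.mk'_surjective _)) (fun h0 => by
        rw [Subgroup.map_eq_bot_iff, QuotientGroup.ker_mk'] at h0
        exact hSR fun x hx =>
          (h0 (Subgroup.mem_subgroupOf.mpr hx : (⟨x, hx.1⟩ : L) ∈ S.subgroupOf L)).1)
    have hSp : IsPGroup p (S.subgroupOf L) :=
      ((P.2.to_le inf_le_right : IsPGroup p S)).comap_of_injective L.subtype L.subtype_injective
    have hZc : Nat.card Z = p := by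
      obtain ⟨e, he⟩ := IsPGroup.iff_card.mp ((hSp.map g).to_le hZle)
      exact (Nat.prime_dvd_prime_iff_eq hZp hp).mp (hZp.dvd_of_dvd_pow he.dvd)
    set T₀ := Z.comap g ⊓ S.subgroupOf L with hT₀
    have hT₀R : (R ⊓ S).subgroupOf L ≤ T₀ :=
      le_inf ((QuotientGroup.ker_mk' _).symm.le.trans (MonoidHom.ker_le_comap g Z))
        (Subgroup.comap_mono inf_le_right)
    have hmap : T₀.map g = Z := by
      refine le_antisymm (Subgroup.map_le_iff_le_comap.mpr inf_le_left) fun z hz => ?_
      obtain ⟨y, hy, rfl⟩ := hZle hz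
      exact ⟨y, ⟨hz, hy⟩, rfl⟩
    set T₁ := T₀.map L.subtype with hT₁
    have hT₁S : T₁ ≤ S := by rintro _ ⟨y, hy, rfl⟩; exact hy.2
    have hcT₁ : Nat.card T₁ = Nat.card ↥(R ⊓ S) * p := by
      rw [hT₁, ← Nat.card_congr (T₀.equivMapOfInjective _ L.subtype_injective).toEquiv, ← hZc,
        ← hmap, hg, CfsgLib.Coprime.card_map_mk',
        ← Nat.card_congr (Subgroup.subgroupOfEquivOfLe
          (inf_le_right.trans inf_le_left : R ⊓ S ≤ L)).toEquiv, ← Subgroup.relIndex_bot_left,
        ← Subgroup.relIndex_bot_left, Subgroup.relIndex_mul_relIndex _ _ _ bot_le hT₀R]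
    have hT₁R : T₁ ⊓ R = R ⊓ S := by
      refine le_antisymm (le_inf inf_le_right (inf_le_left.trans hT₁S))
        (le_inf (fun x hx => ?_) inf_le_left)
      exact ⟨⟨x, hx.2.1⟩, hT₀R hx, rfl⟩
    have hcT : Nat.card ↥(T₁ ⊔ R) = p * Nat.card R := by
      have h4 := CfsgLib.Coprime.card_sup_mul_card_inf
        (Subgroup.le_normalizer_of_normal (K := T₁) (H := R))
      rw [hT₁R, hcT₁] at h4
      refine Nat.eq_of_mul_eq_mul_right (Nat.card_pos (α := ↥(R ⊓ S))) ?_
      rw [h4]; ring
    have hRT : R < T₁ ⊔ R := lt_of_le_of_ne le_sup_right fun he => by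
      rw [← he] at hcT
      have : p * Nat.card R = 1 * Nat.card R := by rw [one_mul, ← hcT]
      exact hp.ne_one (Nat.eq_of_mul_eq_mul_right Nat.card_pos this)
    have hTP := hirr _ hRT (sup_le (hT₁S.trans inf_le_right) inf_le_right)
      (CfsgLib.Coprime.le_normalizer_sup_sup
        ((Subgroup.normal_subgroupOf_iff_le_normalizer (Subgroup.map_subtype_le T₀)).mp (by
          rw [← Subgroup.comap_subtype, Subgroup.comap_map_eq_self_of_injective L.subtype_injective]
          exact Subgroup.normal_inf_normal _ _))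
        Subgroup.le_normalizer_of_normal)
    rw [hTP, hcP, hj, ← pow_succ', ← pow_add] at hcT
    have := Nat.pow_right_injective hp.two_le hcT
    omega

/-- **McLain's theorem**: if every subgroup satisfies the converse of Lagrange, the group is
supersolvable. -/
theorem supersolvable_of_orders [Finite G] (h : ∀ H : Subgroup G, Cfsg.HasSubgroupOfEveryOrder H) :
    Cfsg.IsSupersolvable G :=
  supersolvable_of_orders_aux _ le_rfl h

end CfsgLib.SolvStruct
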