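import Cfsg.Agent.Lib.SolvStruct.FourPrimesLucido
import Cfsg.Agent.S4142

/-!
Camina pairs: Frobenius, or kernel of prime power order, or quotient of prime power order.
-/

set_option autoImplicit false
set_option linter.unusedSectionVars false

namespace CfsgLib.CaminaPairs

open CfsgLib.FourPrimes
open scoped commutatorElement

universe u

variable {G : Type u} [Group G] [Finite G] {N : Subgroup G} [N.Normal]

/-- Every coset of `N` outside `N` lies in one conjugacy class. -/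
def Cam (N : Subgroup G) : Prop := ∀ g : G, g ∉ N → ∀ n ∈ N, ∃ x : G, x * g * x⁻¹ = g * n

theorem eq_one_of_coprime (h : Cam N) {g n : G} (hg : g ∉ N) (hn : n ∈ N) (hc : Commute g n)
    (hcop : (orderOf g).Coprime (orderOf n)) : n = 1 := by
  obtain ⟨x, hx⟩ := h g hg n hn
  have h1 : orderOf (g * n) = orderOf g := by rw [← hx, orderOf_conj']
  rw [hc.orderOf_mul_eq_mul_orderOf_of_coprime hcop] at h1
  exact orderOf_eq_one_iff.mp ((mul_eq_left₀ (orderOf_pos g).ne').mp h1)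

theorem not_fixes_of_ne (h : Cam N) {p t : ℕ} [Fact p.Prime] [Fact t.Prime] (htp : t ≠ p) {g : G}
    (hg : g ∉ N) (hgp : IsPGroup p (Subgroup.zpowers g)) {T : Subgroup G} (hT : IsPGroup t T)
    (hTN : T ≤ N) : ¬ Fixes T g := by
  intro hfix
  obtain ⟨v, hv, hvo, hvg⟩ := fixes_prime hT hfix
  obtain ⟨k, hk⟩ := IsPGroup.iff_orderOf.mp hgp ⟨g, Subgroup.mem_zpowers g⟩
  rw [Subgroup.orderOf_mk] at hk
  refine ne_one_of_orderOf Fact.out hvo (eq_one_of_coprime h hg (hTN hv) hvg.symm ?_)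
  rw [hk, hvo]
  exact Nat.Coprime.pow_left _ ((Nat.coprime_primes Fact.out Fact.out).mpr htp.symm)

theorem isPGroup_zpowers_of_dvd {p k : ℕ} [Fact p.Prime] {g : G} (h : orderOf g ∣ p ^ k) :
    IsPGroup p (Subgroup.zpowers g) := by
  obtain ⟨j, -, hj⟩ := (Nat.dvd_prime_pow Fact.out).mp h
  exact IsPGroup.of_card (n := j) (by rw [Nat.card_zpowers, hj])

theorem exists_rep {M : Subgroup G} (hM : M ⊔ N = ⊤) (y : G ⧸ N) :
    ∃ m ∈ M, (m : G ⧸ N) = y := by
  have h1 : M.map (QuotientGroup.mk' N) = ⊤ := by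
    have h2 := congrArg (Subgroup.map (QuotientGroup.mk' N)) hM
    rw [Subgroup.map_sup, QuotientGroup.map_mk'_self, sup_bot_eq,
      Subgroup.map_top_of_surjective _ (QuotientGroup.mk'_surjective N)] at h2
    exact h2
  obtain ⟨m, hm, hmy⟩ := Subgroup.mem_map.mp (h1.symm ▸ Subgroup.mem_top y : y ∈ M.map _)
  exact ⟨m, hm, hmy⟩

/-- If `u` in a supplement `M` fixes nothing in `M ∩ N`, it fixes nothing in `N`. -/
theorem fpf_of_supplement (h : Cam N) {M : Subgroup G} (hM : M ⊔ N = ⊤) {u : G} (huM : u ∈ M)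
    (huN : u ∉ N) (hfix : ∀ x ∈ M, x ∈ N → Commute x u → x = 1) :
    ∀ x ∈ N, Commute x u → x = 1 := by
  have hcard := (Cfsg.Agent.S4142.result N).mp h u huN
  set C := Subgroup.centralizer ({u} : Set G) with hC
  set Cb := Subgroup.centralizer ({(u : G ⧸ N)} : Set (G ⧸ N)) with hCb
  let L := M ⊓ N
  let δ : L → L := fun x => ⟨u⁻¹ * (x : G) * u * (x : G)⁻¹,
    ⟨M.mul_mem (M.mul_mem (M.mul_mem (M.inv_mem huM) x.2.1) huM) (M.inv_mem x.2.1),
      N.mul_mem (by simpa using ‹N.Normal›.conj_mem _ x.2.2 u⁻¹) (N.inv_mem x.2.2)⟩⟩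
  have hδ : Function.Injective δ := by
    intro x y hxy
    have h1 : u⁻¹ * (x : G) * u * (x : G)⁻¹ = u⁻¹ * (y : G) * u * (y : G)⁻¹ :=
      congrArg Subtype.val hxy
    have h2 : Commute ((y : G)⁻¹ * (x : G)) u := by
      show (y : G)⁻¹ * (x : G) * u = u * ((y : G)⁻¹ * (x : G))
      calc (y : G)⁻¹ * (x : G) * u = (y : G)⁻¹ * u * (u⁻¹ * (x : G) * u * (x : G)⁻¹) * (x : G) := by
            group
        _ = (y : G)⁻¹ * u * (u⁻¹ * (y : G) * u * (y : G)⁻¹) * (x : G) := by rw [h1]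
        _ = _ := by group
    exact Subtype.ext (inv_mul_eq_one.mp (hfix _ (M.mul_mem (M.inv_mem y.2.1) x.2.1)
      (N.mul_mem (N.inv_mem y.2.2) x.2.2) h2)).symm
  have hcover : Cb ≤ (C ⊓ M).map (QuotientGroup.mk' N) := by
    intro y hy
    obtain ⟨m, hmM, rfl⟩ := exists_rep hM y
    have hm1 : u⁻¹ * m * u * m⁻¹ ∈ L := by
      refine ⟨M.mul_mem (M.mul_mem (M.mul_mem (M.inv_mem huM) hmM) huM) (M.inv_mem hmM), ?_⟩
      show u⁻¹ * m * u * m⁻¹ ∈ N
      rw [← QuotientGroup.eq_one_iff]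
      have h1 : (m : G ⧸ N) * (u : G ⧸ N) = (u : G ⧸ N) * (m : G ⧸ N) :=
        Subgroup.mem_centralizer_singleton_iff.mp hy
      simp only [QuotientGroup.mk_mul, QuotientGroup.mk_inv]
      rw [mul_assoc (u : G ⧸ N)⁻¹, h1]
      group
    obtain ⟨x, hx⟩ := Finite.injective_iff_surjective.mp hδ ⟨_, hm1⟩
    have hx' : u⁻¹ * (x : G) * u * (x : G)⁻¹ = u⁻¹ * m * u * m⁻¹ := congrArg Subtype.val hx
    refine ⟨(x : G)⁻¹ * m, ⟨Subgroup.mem_centralizer_singleton_iff.mpr ?_,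
      M.mul_mem (M.inv_mem x.2.1) hmM⟩, ?_⟩
    · calc (x : G)⁻¹ * m * u = (x : G)⁻¹ * u * (u⁻¹ * m * u * m⁻¹) * m := by group
        _ = (x : G)⁻¹ * u * (u⁻¹ * (x : G) * u * (x : G)⁻¹) * m := by rw [hx']
        _ = _ := by group
    · show (((x : G)⁻¹ * m : G) : G ⧸ N) = _
      rw [QuotientGroup.mk_mul, QuotientGroup.mk_inv, (QuotientGroup.eq_one_iff (x : G)).mpr x.2.2,
        inv_one, one_mul]
  have hle : Nat.card C ≤ Nat.card (C ⊓ M : Subgroup G) := by
    rw [hcard]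
    refine (Subgroup.card_le_of_le hcover).trans ?_
    exact Nat.le_of_dvd Nat.card_pos (Subgroup.card_map_dvd _ _)
  have hCM : C ⊓ M = C := Subgroup.eq_of_le_of_card_ge inf_le_left hle
  intro x hx hxu
  have : x ∈ C ⊓ M := hCM.symm ▸ Subgroup.mem_centralizer_singleton_iff.mpr hxu.eq
  exact hfix x this.2 hx hxu

/-- The quotient has two independent commuting elements of order `p` when `p` divides both orders. -/
theorem pairIn_quotient (h : Cam N) {p : ℕ} [hp : Fact p.Prime] (hpi : p ∣ N.index)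
    (hpN : p ∣ Nat.card N) : PairIn p (⊤ : Subgroup (G ⧸ N)) := by
  by_contra hno
  haveI : Fintype G := Fintype.ofFinite G
  obtain ⟨P⟩ : Nonempty (Sylow p G) := inferInstance
  -- an element of order p of the centre of P in N
  obtain ⟨n, hn⟩ := exists_prime_orderOf_dvd_card' p hpN
  have hno' : orderOf (n : G) = p := by rw [Subgroup.orderOf_coe, hn]
  obtain ⟨R, hR⟩ := (isPGroup_zpowers hno').exists_le_sylow
  obtain ⟨g₁, hg₁⟩ := MulAction.exists_smul_eq G R P
  have hnP : g₁ * n * g₁⁻¹ ∈ (P : Subgroup G) := by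
    rw [← hg₁, Sylow.coe_subgroup_smul]
    exact Subgroup.smul_mem_pointwise_smul (n : G) (MulAut.conj g₁) (R : Subgroup G)
      (hR (Subgroup.mem_zpowers _))
  have hXne : N.subgroupOf (P : Subgroup G) ≠ ⊥ := fun hb => by
    have h1 : (⟨_, hnP⟩ : (P : Subgroup G)) ∈ N.subgroupOf (P : Subgroup G) :=
      ‹N.Normal›.conj_mem _ n.2 g₁
    rw [hb, Subgroup.mem_bot] at h1
    exact ne_one_of_orderOf hp.out ((orderOf_conj' g₁ (n : G)).trans hno') (congrArg Subtype.val h1)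
  obtain ⟨⟨c₀, hc₀⟩, hc₀1⟩ := Subgroup.ne_bot_iff_exists_ne_one.mp
    (PGroups.inf_center_ne_bot P.isPGroup' hXne)
  have hc₀N : ((c₀ : (P : Subgroup G)) : G) ∈ N := hc₀.1
  obtain ⟨k, hk⟩ := IsPGroup.iff_orderOf.mp P.isPGroup' c₀
  have hk0 : k ≠ 0 := by
    rintro rfl
    rw [pow_zero, orderOf_eq_one_iff] at hk
    exact hc₀1 (Subtype.ext hk)
  set c : G := ((c₀ : (P : Subgroup G)) : G) ^ (orderOf c₀ / p) with hcdef
  have hco : orderOf c = p := by
    rw [hcdef, ← Subgroup.orderOf_coe c₀]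
    exact orderOf_pow_orderOf_div (orderOf_pos _).ne'
      (by rw [Subgroup.orderOf_coe, hk]; exact dvd_pow_self p hk0)
  have hcN : c ∈ N := N.pow_mem hc₀N _
  have hcP : ∀ y ∈ (P : Subgroup G), Commute c y := fun y hy =>
    Commute.pow_left (show Commute ((c₀ : (P : Subgroup G)) : G) y from
      (congrArg Subtype.val (Subgroup.mem_center_iff.mp hc₀.2 ⟨y, hy⟩)).symm) _
  -- an element of largest order of the image of P
  set Pb : Sylow p (G ⧸ N) := P.mapSurjective (QuotientGroup.mk'_surjective N) with hPb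
  haveI : Nonempty (Pb : Subgroup (G ⧸ N)) := ⟨1⟩
  obtain ⟨gb, hgb⟩ := Finite.exists_max fun y : (Pb : Subgroup (G ⧸ N)) => orderOf (y : G ⧸ N)
  set o := orderOf (gb : G ⧸ N) with ho
  have ho1 : 1 < o := by
    obtain ⟨y, hy⟩ := exists_prime_orderOf_dvd_card' (G := G ⧸ N) p hpi
    obtain ⟨R', hR'⟩ := (isPGroup_zpowers hy).exists_le_sylow
    obtain ⟨d, hd⟩ := MulAction.exists_smul_eq (G ⧸ N) R' Pb
    have hyP : d * y * d⁻¹ ∈ (Pb : Subgroup (G ⧸ N)) := by
      rw [← hd, Sylow.coe_subgroup_smul]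
      exact Subgroup.smul_mem_pointwise_smul y (MulAut.conj d) (R' : Subgroup _)
        (hR' (Subgroup.mem_zpowers _))
    have := hgb ⟨_, hyP⟩
    simp only [orderOf_conj', hy] at this
    have := hp.out.two_le
    omega
  obtain ⟨g, hgP, hgg⟩ : ∃ g ∈ (P : Subgroup G), (g : G ⧸ N) = (gb : G ⧸ N) := by
    obtain ⟨g, hg, hgg⟩ := Subgroup.mem_map.mp (by
      simpa [hPb] using gb.2 : (gb : G ⧸ N) ∈ (P : Subgroup G).map (QuotientGroup.mk' N))
    exact ⟨g, hg, hgg⟩
  have hgN : g ∉ N := fun hg => by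
    rw [← QuotientGroup.eq_one_iff, hgg] at hg
    rw [ho, hg, orderOf_one] at ho1
    exact absurd ho1 (lt_irrefl 1)
  have hcard := (Cfsg.Agent.S4142.result N).mp h g hgN
  set Cb := Subgroup.centralizer ({(g : G ⧸ N)} : Set (G ⧸ N)) with hCb
  obtain ⟨S⟩ : Nonempty (Sylow p Cb) := inferInstance
  -- the Sylow subgroup of the centraliser is generated by the image of g
  have hSle : (S : Subgroup Cb).map Cb.subtype ≤ Subgroup.zpowers (g : G ⧸ N) := by
    rintro _ ⟨r, hr, rfl⟩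
    set A := Subgroup.zpowers (g : G ⧸ N) ⊔ Subgroup.zpowers (r : G ⧸ N) with hA
    have hrg : Commute (r : G ⧸ N) (g : G ⧸ N) :=
      Subgroup.mem_centralizer_singleton_iff.mp r.2
    have hgp : IsPGroup p (Subgroup.zpowers (g : G ⧸ N)) :=
      Pb.isPGroup'.to_le (Subgroup.zpowers_le.mpr (hgg ▸ gb.2))
    have hrp : IsPGroup p (Subgroup.zpowers (r : G ⧸ N)) :=
      (S.isPGroup'.map Cb.subtype).to_le
        (Subgroup.zpowers_le.mpr (Subgroup.mem_map_of_mem Cb.subtype hr))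
    have hnorm : Subgroup.zpowers (g : G ⧸ N) ≤
        Subgroup.normalizer (Subgroup.zpowers (r : G ⧸ N) : Set (G ⧸ N)) := by
      refine (Subgroup.zpowers_le.mpr ?_).trans (Subgroup.centralizer_le_normalizer _)
      intro v hv
      obtain ⟨i, rfl⟩ := Subgroup.mem_zpowers_iff.mp hv
      exact (hrg.zpow_left i).eq
    have hAp : IsPGroup p A := IsPGroup.to_sup_of_normal_right' hgp hrp hnorm
    have hAc : ∀ x ∈ A, ∀ y ∈ A, Commute x y := by
      have key : ∀ z : G ⧸ N, Commute z (g : G ⧸ N) → Commute z (r : G ⧸ N) →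
          A ≤ Subgroup.centralizer ({z} : Set (G ⧸ N)) := fun z h1 h2 => sup_le
        (Subgroup.zpowers_le.mpr (Subgroup.mem_centralizer_singleton_iff.mpr h1.eq.symm))
        (Subgroup.zpowers_le.mpr (Subgroup.mem_centralizer_singleton_iff.mpr h2.eq.symm))
      intro x hx y hy
      have h1 : Commute y (g : G ⧸ N) := (Subgroup.mem_centralizer_singleton_iff.mp
        (key _ (Commute.refl _) hrg.symm hy))
      have h2 : Commute y (r : G ⧸ N) := (Subgroup.mem_centralizer_singleton_iff.mp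
        (key _ hrg (Commute.refl _) hy))
      exact Subgroup.mem_centralizer_singleton_iff.mp (key y h1 h2 hx)
    haveI : IsMulCommutative A := ⟨⟨fun x y => Subtype.ext (hAc x x.2 y y.2)⟩⟩
    have hA1 : A ≠ ⊥ := fun hb => by
      have hmem : (g : G ⧸ N) ∈ A := Subgroup.mem_sup_left (Subgroup.mem_zpowers _)
      rw [hb, Subgroup.mem_bot] at hmem
      exact hgN ((QuotientGroup.eq_one_iff g).mp hmem)
    obtain ⟨z, hz, hzo, -⟩ := exists_central_order hAp hA1
    have hAcyc : IsCyclic A := PGroups.isCyclic_of_abelian_of_unique hAp (z := ⟨z, hz⟩)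
      (fun y hy => mem_zpowers_coe (mem_zpowers_of_no_pair hAp
        (fun ⟨x, _, x', _, hxx⟩ => hno ⟨x, Subgroup.mem_top _, x', Subgroup.mem_top _, hxx⟩)
        hz hzo y.2 (congrArg Subtype.val hy)))
      (Subtype.ext (by rw [SubmonoidClass.coe_pow, ← hzo]; exact pow_orderOf_eq_one z))
    obtain ⟨⟨a, ha⟩, hgen⟩ := IsCyclic.exists_generator (α := A)
    have hga : (g : G ⧸ N) ∈ Subgroup.zpowers a :=
      coe_zpowers (hgen ⟨_, Subgroup.mem_sup_left (Subgroup.mem_zpowers _)⟩)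
    have hra : (r : G ⧸ N) ∈ Subgroup.zpowers a :=
      coe_zpowers (hgen ⟨_, Subgroup.mem_sup_right (Subgroup.mem_zpowers _)⟩)
    obtain ⟨R', hR'⟩ := hAp.exists_le_sylow
    obtain ⟨d, hd⟩ := MulAction.exists_smul_eq (G ⧸ N) R' Pb
    have haP : d * a * d⁻¹ ∈ (Pb : Subgroup (G ⧸ N)) := by
      rw [← hd, Sylow.coe_subgroup_smul]
      exact Subgroup.smul_mem_pointwise_smul a (MulAut.conj d) (R' : Subgroup _) (hR' ha)
    have hle2 := hgb ⟨_, haP⟩
    simp only [orderOf_conj'] at hle2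
    have heq : Subgroup.zpowers (g : G ⧸ N) = Subgroup.zpowers a :=
      Subgroup.eq_of_le_of_card_ge (Subgroup.zpowers_le.mpr hga)
        (by rw [Nat.card_zpowers, Nat.card_zpowers, hgg]; exact hle2)
    exact heq ▸ hra
  -- a larger p-subgroup of the centraliser of g
  set K := Subgroup.zpowers g ⊔ Subgroup.zpowers c with hK
  have hKp : IsPGroup p K :=
    P.isPGroup'.to_le (sup_le (Subgroup.zpowers_le.mpr hgP) (Subgroup.zpowers_le.mpr (by
      exact (P : Subgroup G).pow_mem (c₀ : (P : Subgroup G)).2 _)))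
  have hKC : K ≤ Subgroup.centralizer ({g} : Set G) := sup_le
    (Subgroup.zpowers_le.mpr (Subgroup.mem_centralizer_singleton_iff.mpr rfl))
    (Subgroup.zpowers_le.mpr (Subgroup.mem_centralizer_singleton_iff.mpr (hcP g hgP).eq))
  obtain ⟨j, hj⟩ := IsPGroup.iff_card.mp hKp
  obtain ⟨i, hi⟩ := IsPGroup.iff_card.mp S.isPGroup'
  have hdvd : p ^ j ∣ Nat.card S := by
    rw [Sylow.card_eq_multiplicity S]
    refine pow_dvd_pow p ((hp.out.pow_dvd_iff_le_factorization Nat.card_pos.ne').mp ?_)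
    rw [← hj, ← hcard]
    exact Subgroup.card_dvd_of_le hKC
  have hSo : Nat.card S ≤ o := by
    rw [← Subgroup.card_map_of_injective Cb.subtype_injective]
    refine (Subgroup.card_le_of_le hSle).trans ?_
    rw [Nat.card_zpowers, hgg]
  have hbig : o * p ≤ Nat.card K := by
    set f := (QuotientGroup.mk' N).comp K.subtype with hf
    have hc1 : Nat.card K = Nat.card f.range * Nat.card f.ker := by
      rw [← Nat.card_congr (QuotientGroup.quotientKerEquivRange f).toEquiv,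
        ← Subgroup.card_eq_card_quotient_mul_card_subgroup]
    have hr : o ≤ Nat.card f.range := by
      rw [ho, ← Nat.card_zpowers]
      refine Subgroup.card_le_of_le (Subgroup.zpowers_le.mpr
        ⟨⟨g, Subgroup.mem_sup_left (Subgroup.mem_zpowers g)⟩, hgg⟩)
    have hkr : p ≤ Nat.card f.ker := by
      have hmem : (⟨c, Subgroup.mem_sup_right (Subgroup.mem_zpowers c)⟩ : K) ∈ f.ker :=
        MonoidHom.mem_ker.mpr ((QuotientGroup.eq_one_iff c).mpr hcN)
      calc p = orderOf (⟨c, Subgroup.mem_sup_right (Subgroup.mem_zpowers c)⟩ : K) := by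
            rw [Subgroup.orderOf_mk, hco]
        _ ≤ _ := Nat.le_of_dvd Nat.card_pos (Subgroup.orderOf_dvd_natCard f.ker hmem)
    rw [hc1]
    exact Nat.mul_le_mul hr hkr
  have h2 := Nat.le_of_dvd Nat.card_pos hdvd
  rw [← hj] at h2
  have h3 := hp.out.two_le
  have : o * 2 ≤ o * p := Nat.mul_le_mul le_rfl h3
  omega

/-- The key configuration is impossible. -/
theorem pair_absurd (h : Cam N) {p t : ℕ} [Fact p.Prime] [Fact t.Prime] (htp : t ≠ p)
    (hpi : p ∣ N.index) (hpN : p ∣ Nat.card N) {M T : Subgroup G} (hM : M ⊔ N = ⊤)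
    (hT : IsPGroup t T) (hT1 : T ≠ ⊥) (hTN : T ≤ N)
    (hMT : M ≤ Subgroup.normalizer (T : Set G))
    (hX : ∀ x ∈ M, x ∈ N → IsPGroup p (Subgroup.zpowers x) → ∀ v ∈ T, Commute x v) : False := by
  obtain ⟨b₀, -, c₀, -, hbo, hco, hbc, hcn⟩ := pairIn_quotient h hpi hpN
  set f := (QuotientGroup.mk' N).comp M.subtype with hf
  have hsurj : Function.Surjective f := fun y => by
    obtain ⟨m, hm, hmy⟩ := exists_rep hM y
    exact ⟨⟨m, hm⟩, hmy⟩
  obtain ⟨Q⟩ : Nonempty (Sylow p M) := inferInstance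
  set Qb := Q.mapSurjective hsurj with hQb
  have hnorm : Subgroup.zpowers b₀ ≤ Subgroup.normalizer (Subgroup.zpowers c₀ : Set (G ⧸ N)) := by
    refine (Subgroup.zpowers_le.mpr ?_).trans (Subgroup.centralizer_le_normalizer _)
    intro v hv
    obtain ⟨k, rfl⟩ := Subgroup.mem_zpowers_iff.mp hv
    exact ((hbc.zpow_right k).eq).symm
  obtain ⟨R, hR⟩ := (IsPGroup.to_sup_of_normal_right' (isPGroup_zpowers hbo)
    (isPGroup_zpowers hco) hnorm).exists_le_sylow
  obtain ⟨d, hd⟩ := MulAction.exists_smul_eq (G ⧸ N) R Qb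
  have hmemQ : ∀ y ∈ (R : Subgroup (G ⧸ N)),
      d * y * d⁻¹ ∈ (Q : Subgroup M).map f := by
    intro y hy
    have : d * y * d⁻¹ ∈ (Qb : Subgroup (G ⧸ N)) := by
      rw [← hd, Sylow.coe_subgroup_smul]
      exact Subgroup.smul_mem_pointwise_smul y (MulAut.conj d) (R : Subgroup _) hy
    simpa [hQb] using this
  obtain ⟨b, hb, hbb⟩ := hmemQ b₀ (hR (Subgroup.mem_sup_left (Subgroup.mem_zpowers _)))
  obtain ⟨c, hc, hcc⟩ := hmemQ c₀ (hR (Subgroup.mem_sup_right (Subgroup.mem_zpowers _)))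
  have hbb' : ((b : G) : G ⧸ N) = d * b₀ * d⁻¹ := hbb
  have hcc' : ((c : G) : G ⧸ N) = d * c₀ * d⁻¹ := hcc
  have hQp : ∀ {x : M}, x ∈ (Q : Subgroup M) → IsPGroup p (Subgroup.zpowers (x : G)) := fun hx => by
    refine (Q.isPGroup'.map M.subtype).to_le (Subgroup.zpowers_le.mpr ?_)
    exact Subgroup.mem_map_of_mem M.subtype hx
  have hp : IsPair p ((b : G) : G ⧸ N) ((c : G) : G ⧸ N) := by
    refine ⟨?_, ?_, ?_, fun hm => hcn ?_⟩
    · rw [hbb', orderOf_conj', hbo]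
    · rw [hcc', orderOf_conj', hco]
    · rw [hbb', hcc']; exact commute_conj hbc
    · rw [hbb', hcc'] at hm
      obtain ⟨k, hk⟩ := Subgroup.mem_zpowers_iff.mp hm
      refine Subgroup.mem_zpowers_iff.mpr ⟨k, ?_⟩
      rw [conj_zpow] at hk
      exact mul_left_cancel (mul_right_cancel hk)
  set ρ := T.normalizerMonoidHom
  have htriv : ∀ {x : M}, x ∈ (Q : Subgroup M) → ((x : G) : G ⧸ N) = 1 →
      ρ ⟨x, hMT x.2⟩ = 1 := fun {x} hx h1 =>
    (act_eq_one_iff _).mpr (hX x x.2 ((QuotientGroup.eq_one_iff (x : G)).mp h1) (hQp hx))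
  have hne : ∀ {x : M}, x ∈ (Q : Subgroup M) → ((x : G) : G ⧸ N) ≠ 1 →
      ∀ v, ρ ⟨x, hMT x.2⟩ v = v → v = 1 := fun {x} hx h1 v hv =>
    fpf_of_not_fixes (not_fixes_of_ne h htp (fun hn => h1 ((QuotientGroup.eq_one_iff _).mpr hn))
      (hQp hx) hT hTN) _ rfl v hv
  obtain ⟨⟨v, hv⟩, hv1⟩ := Subgroup.ne_bot_iff_exists_ne_one.mp hT1
  have hbfpf := hne hb (fun h1 => ne_one_of_orderOf Fact.out hp.1 h1)
  have hb1 : ρ ⟨b, hMT b.2⟩ ≠ 1 := fun hh => hv1 (hbfpf ⟨v, hv⟩ (by rw [hh]; rfl))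
  have hpow : ∀ {x : M}, x ∈ (Q : Subgroup M) → orderOf ((x : G) : G ⧸ N) = p →
      ρ ⟨x, hMT x.2⟩ ^ p = 1 := fun {x} hx ho => by
    rw [← map_pow]
    have := htriv (x := x ^ p) (pow_mem hx p) (by
      rw [SubmonoidClass.coe_pow, QuotientGroup.mk_pow, ← ho]
      exact pow_orderOf_eq_one _)
    exact this
  have hcomm : Commute (ρ ⟨b, hMT b.2⟩) (ρ ⟨c, hMT c.2⟩) := by
    rw [← commutatorElement_eq_one_iff_commute, ← map_commutatorElement]
    have := htriv (x := ⁅b, c⁆) (mul_mem (mul_mem (mul_mem hb hc) (inv_mem hb)) (inv_mem hc)) (by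
      show QuotientGroup.mk' N ((⁅b, c⁆ : M) : G) = 1
      rw [show ((⁅b, c⁆ : M) : G) = ⁅(b : G), (c : G)⁆ by simp [commutatorElement_def],
        map_commutatorElement, commutatorElement_eq_one_iff_commute]
      exact hp.2.2.1)
    exact this
  refine hb1 (FpfPairs.pair_trivial' hT (MonoidHom.id (MulAut T)) Fact.out htp.symm
    (b := ρ ⟨b, hMT b.2⟩) (c := ρ ⟨c, hMT c.2⟩)
    (orderOf_eq_prime (hpow hb hp.1) hb1) (hpow hc hp.2.1) hcomm ?_)
  intro i w hw
  refine hne (x := c * b ^ i) (mul_mem hc (pow_mem hb i)) (fun h1 => ?_) w ?_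
  · refine (hp.orderOf_mul Fact.out i).2 ?_
    rw [← QuotientGroup.mk_pow, ← QuotientGroup.mk_mul]
    exact (show (((c * b ^ i : M) : G) : G ⧸ N) = 1 from h1).symm ▸ one_mem _
  · rw [MonoidHom.id_apply, ← map_pow, ← map_mul] at hw
    exact hw

theorem exists_prime_ne {n : ℕ} (h1 : n ≠ 1) (h : ¬ IsPrimePow n) (hn : n ≠ 0) (p : ℕ) :
    ∃ t : ℕ, t.Prime ∧ t ∣ n ∧ t ≠ p := by
  by_contra hcon
  push Not at hcon
  obtain ⟨q, hq, hqn⟩ := Nat.exists_prime_and_dvd h1
  refine h (isPrimePow_iff_unique_prime_dvd.mpr ⟨q, ⟨hq, hqn⟩, fun y hy => ?_⟩)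
  rw [hcon y hy.1 hy.2, hcon q hq hqn]

/-- An element of prime power order outside `N` in a supplement. -/
theorem exists_lift {M : Subgroup G} (hM : M ⊔ N = ⊤) {s : ℕ} [hs : Fact s.Prime]
    (hsi : s ∣ N.index) : ∃ u ∈ M, u ∉ N ∧ IsPGroup s (Subgroup.zpowers u) := by
  obtain ⟨y, hy⟩ := exists_prime_orderOf_dvd_card' (G := G ⧸ N) s hsi
  obtain ⟨m, hm, rfl⟩ := exists_rep hM y
  obtain ⟨e, r, hr, he⟩ := Nat.exists_eq_pow_mul_and_not_dvd (orderOf_pos m).ne' s hs.out.ne_one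
  refine ⟨m ^ r, M.pow_mem hm r, fun hN => hr ?_, isPGroup_zpowers_of_dvd (k := e) ?_⟩
  · rw [← hy]
    refine orderOf_dvd_of_pow_eq_one ?_
    rw [← QuotientGroup.mk_pow, QuotientGroup.eq_one_iff]
    exact hN
  · refine orderOf_dvd_of_pow_eq_one ?_
    rw [← pow_mul, mul_comm r, ← he, pow_orderOf_eq_one]

theorem exists_minimal {D : Subgroup G} (hD : D ⊔ N = ⊤) :
    ∃ M ≤ D, M ⊔ N = ⊤ ∧ Group.IsNilpotent ↥(M ⊓ N) := by
  haveI : Nonempty {M : Subgroup G // M ≤ D ∧ M ⊔ N = ⊤} := ⟨⟨D, le_rfl, hD⟩⟩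
  obtain ⟨⟨M, hMD, hM⟩, hmin⟩ :=
    Finite.exists_min fun M : {M : Subgroup G // M ≤ D ∧ M ⊔ N = ⊤} => Nat.card M.1
  refine ⟨M, hMD, hM, ?_⟩
  have hle : N.subgroupOf M ≤ frattini M := by
    refine le_iInf₂ fun A hA => ?_
    by_contra hnot
    have htop : A ⊔ N.subgroupOf M = ⊤ := hA.2 _ (left_lt_sup.mpr hnot)
    have hAN : A.map M.subtype ⊔ N = ⊤ := by
      refine top_le_iff.mp (hM ▸ sup_le ?_ le_sup_right)
      calc M = (⊤ : Subgroup M).map M.subtype := by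
            rw [← MonoidHom.range_eq_map, Subgroup.range_subtype]
        _ = (A ⊔ N.subgroupOf M).map M.subtype := by rw [htop]
        _ ≤ _ := by
            rw [Subgroup.map_sup]
            exact sup_le_sup le_rfl (Subgroup.map_le_iff_le_comap.mpr le_rfl)
    have h1 := hmin ⟨A.map M.subtype, (Subgroup.map_subtype_le A).trans hMD, hAN⟩
    have h2 : A.map M.subtype = M :=
      Subgroup.eq_of_le_of_card_ge (Subgroup.map_subtype_le A) h1
    refine hA.1 (Subgroup.map_injective M.subtype_injective ?_)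
    rw [h2, ← MonoidHom.range_eq_map, Subgroup.range_subtype]
  haveI := frattini_nilpotent (G := M)
  have h3 := Base.isNilpotent_of_le hle inferInstance
  haveI := h3
  let e : (N.subgroupOf M) ≃* ↥(M ⊓ N) :=
    { toFun := fun x => ⟨(x : M), (x : M).2, x.2⟩
      invFun := fun x => ⟨⟨(x : G), x.2.1⟩, x.2.2⟩
      left_inv := fun _ => rfl
      right_inv := fun _ => rfl
      map_mul' := fun _ _ => rfl }
  exact Group.nilpotent_of_mulEquiv e

theorem mem_core_of_nilpotent {L : Subgroup G} [Group.IsNilpotent L] {p : ℕ} [Fact p.Prime] {x : G}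
    (hx : x ∈ L) (hxp : IsPGroup p (Subgroup.zpowers x)) : x ∈ core L p := by
  have hp' : IsPGroup p (Subgroup.zpowers (⟨x, hx⟩ : L)) :=
    IsPGroup.iff_orderOf.mpr fun g => by
      obtain ⟨k, hk⟩ := Subgroup.mem_zpowers_iff.mp g.2
      obtain ⟨n, hn⟩ := IsPGroup.iff_orderOf.mp hxp ⟨x ^ k, Subgroup.zpow_mem_zpowers x k⟩
      refine ⟨n, ?_⟩
      rw [← hn, Subgroup.orderOf_mk, ← Subgroup.orderOf_coe, ← Subgroup.orderOf_coe, ← hk]
      simp
  obtain ⟨S, hS⟩ := hp'.exists_le_sylow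
  haveI : (S : Subgroup L).Normal := inferInstance
  exact ⟨⟨x, hx⟩, Base.le_pCore S.isPGroup' (hS (Subgroup.mem_zpowers _)), rfl⟩

theorem core_le_normalizer {M L : Subgroup G} (h : M ≤ Subgroup.normalizer (L : Set G)) (p : ℕ) :
    M ≤ Subgroup.normalizer (core L p : Set G) :=
  h.trans (Base.normalizer_le_normalizer_map_subtype L _)

/-- Every prime dividing both orders divides every supplement's intersection with `N`. -/
theorem exists_order_inter (h : Cam N) {M : Subgroup G} (hM : M ⊔ N = ⊤) {s : ℕ} [hs : Fact s.Prime]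
    (hsi : s ∣ N.index) (hsN : s ∣ Nat.card N) : ∃ w ∈ M, w ∈ N ∧ orderOf w = s := by
  by_contra hcon
  push Not at hcon
  obtain ⟨u, huM, huN, hus⟩ := exists_lift hM hsi
  have hfix : ∀ x ∈ N, Commute x u → x = 1 := fpf_of_supplement h hM huM huN fun x hxM hxN hxu => by
    by_contra hx1
    obtain ⟨q, hq, hqx⟩ := Nat.exists_prime_and_dvd (fun h' => hx1 (orderOf_eq_one_iff.mp h'))
    haveI := Fact.mk hq
    set y := x ^ (orderOf x / q) with hy
    have hyo : orderOf y = q := orderOf_pow_orderOf_div (orderOf_pos x).ne' hqx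
    have hqs : q = s := by
      by_contra hqs
      exact not_fixes_of_ne h hqs huN hus (isPGroup_zpowers hyo)
        (Subgroup.zpowers_le.mpr (N.pow_mem hxN _))
        ⟨y, Subgroup.mem_zpowers y, ne_one_of_orderOf hq hyo, hxu.pow_left _⟩
    exact hcon y (M.pow_mem hxM _) (N.pow_mem hxN _) (hqs ▸ hyo)
  -- a Sylow subgroup containing u meets N in its centre
  obtain ⟨R, hR⟩ := hus.exists_le_sylow
  obtain ⟨n, hn⟩ := exists_prime_orderOf_dvd_card' s hsN
  have hno : orderOf (n : G) = s := by rw [Subgroup.orderOf_coe, hn]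
  obtain ⟨R', hR'⟩ := (isPGroup_zpowers hno).exists_le_sylow
  obtain ⟨d, hd⟩ := MulAction.exists_smul_eq G R' R
  have hnR : d * n * d⁻¹ ∈ (R : Subgroup G) := by
    rw [← hd, Sylow.coe_subgroup_smul]
    exact Subgroup.smul_mem_pointwise_smul (n : G) (MulAut.conj d) (R' : Subgroup G)
      (hR' (Subgroup.mem_zpowers _))
  have hXne : N.subgroupOf (R : Subgroup G) ≠ ⊥ := fun hb => by
    have h1 : (⟨_, hnR⟩ : (R : Subgroup G)) ∈ N.subgroupOf (R : Subgroup G) :=
      ‹N.Normal›.conj_mem _ n.2 d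
    rw [hb, Subgroup.mem_bot] at h1
    exact ne_one_of_orderOf hs.out ((orderOf_conj' d (n : G)).trans hno) (congrArg Subtype.val h1)
  obtain ⟨⟨z, hz⟩, hz1⟩ := Subgroup.ne_bot_iff_exists_ne_one.mp
    (PGroups.inf_center_ne_bot R.isPGroup' hXne)
  refine hz1 (Subtype.ext (Subtype.ext (hfix (z : G) hz.1 ?_)))
  exact (congrArg Subtype.val (Subgroup.mem_center_iff.mp hz.2 ⟨u, hR (Subgroup.mem_zpowers u)⟩)).symm

theorem camina_trichotomy (hN1 : N ≠ ⊥) (hN2 : N ≠ ⊤) (h : Cam N) :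
    (∀ x ∈ N, x ≠ 1 → Subgroup.centralizer ({x} : Set G) ≤ N) ∨ IsPrimePow (Nat.card N) ∨
      IsPrimePow N.index := by
  by_contra hcon
  push Not at hcon
  obtain ⟨⟨x, hxN, hx1, hxC⟩, hNp, hIp⟩ := hcon
  obtain ⟨g, hgC, hgN⟩ := SetLike.not_le_iff_exists.mp hxC
  -- a prime dividing both orders
  obtain ⟨p, hp, hpi, hpN⟩ : ∃ p : ℕ, p.Prime ∧ p ∣ N.index ∧ p ∣ Nat.card N := by
    by_contra hno
    push Not at hno
    have hcop : (orderOf (g : G ⧸ N)).Coprime (Nat.card N) := Nat.coprime_of_dvd fun k hk h1 h2 =>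
      hno k hk (h1.trans (orderOf_dvd_natCard (g : G ⧸ N))) h2
    have hgo : 1 < orderOf (g : G ⧸ N) := by
      refine (Nat.two_le_iff _).mpr ⟨(orderOf_pos _).ne', fun h1 => hgN ?_⟩
      exact (QuotientGroup.eq_one_iff g).mp (orderOf_eq_one_iff.mp h1)
    obtain ⟨q, hq, hqo⟩ := Nat.exists_prime_and_dvd hgo.ne'
    haveI := Fact.mk hq
    obtain ⟨e, r, hr, he⟩ := Nat.exists_eq_pow_mul_and_not_dvd (orderOf_pos g).ne' q hq.ne_one
    have hgr : g ^ r ∉ N := fun hN => hr (hqo.trans (orderOf_dvd_of_pow_eq_one (by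
      rw [← QuotientGroup.mk_pow, QuotientGroup.eq_one_iff]; exact hN)))
    refine hx1 (eq_one_of_coprime h hgr hxN
      ((show Commute g x from Subgroup.mem_centralizer_singleton_iff.mp hgC).pow_left r) ?_)
    have h1 : orderOf (g ^ r) ∣ q ^ e :=
      orderOf_dvd_of_pow_eq_one (by rw [← pow_mul, mul_comm r, ← he, pow_orderOf_eq_one])
    refine Nat.Coprime.of_dvd h1 (Subgroup.orderOf_dvd_natCard N hxN) ?_
    exact Nat.Coprime.pow_left _ (hq.coprime_iff_not_dvd.mpr fun hd =>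
      hno q hq (hqo.trans (orderOf_dvd_natCard (g : G ⧸ N))) hd)
  haveI := Fact.mk hp
  by_cases hex : ∃ s : ℕ, s.Prime ∧ s ≠ p ∧ s ∣ N.index ∧ s ∣ Nat.card N
  · obtain ⟨s, hs, hsp, hsi, hsN⟩ := hex
    haveI := Fact.mk hs
    obtain ⟨M, -, hM, hnil⟩ := exists_minimal (D := (⊤ : Subgroup G)) (N := N) (by rw [top_sup_eq])
    haveI := hnil
    set L := M ⊓ N with hL
    have hML : M ≤ Subgroup.normalizer (L : Set G) := fun g hg =>
      Subgroup.mem_normalizer_iff.mpr fun y => ⟨fun hy =>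
        ⟨M.mul_mem (M.mul_mem hg hy.1) (M.inv_mem hg), ‹N.Normal›.conj_mem y hy.2 g⟩, fun hy =>
        ⟨by simpa [mul_assoc] using M.mul_mem (M.mul_mem (M.inv_mem hg) hy.1) hg,
          by simpa [mul_assoc] using ‹N.Normal›.conj_mem _ hy.2 g⁻¹⟩⟩
    obtain ⟨w, hwM, hwN, hwo⟩ := exists_order_inter h hM hsi hsN
    have hw : w ∈ core L s := mem_core_of_nilpotent ⟨hwM, hwN⟩ (isPGroup_zpowers hwo)
    have hT1 : core L s ≠ ⊥ := fun hb =>
      ne_one_of_orderOf hs hwo (Subgroup.mem_bot.mp (hb ▸ hw))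
    refine pair_absurd h hsp hpi hpN hM (isPGroup_core L s) hT1
      ((core_le L s).trans inf_le_right) (core_le_normalizer hML s) fun y hyM hyN hyp v hv => ?_
    exact commute_of_disjoint_normalised
      (disjoint_of_pgroups hsp.symm (isPGroup_core L p) (isPGroup_core L s))
      ((core_le L s).trans (le_normalizer_core L p)) ((core_le L p).trans (le_normalizer_core L s))
      y (mem_core_of_nilpotent ⟨hyM, hyN⟩ hyp) v hv
  push Not at hex
  obtain ⟨t, ht, htN, htp⟩ := exists_prime_ne (fun h1 => hN1 (Subgroup.card_eq_one.mp h1)) hNp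
    Nat.card_pos.ne' p
  obtain ⟨s, hs, hsi, hsp⟩ := exists_prime_ne (fun h1 => hN2 (Subgroup.index_eq_one.mp h1)) hIp
    Subgroup.index_ne_zero_of_finite p
  haveI := Fact.mk ht
  haveI := Fact.mk hs
  have hsN : ¬ s ∣ Nat.card N := hex s hs hsp hsi
  have hts : t ≠ s := fun h' => hsN (h' ▸ htN)
  obtain ⟨T₀⟩ : Nonempty (Sylow t N) := inferInstance
  set T := (T₀ : Subgroup N).map N.subtype with hTdef
  obtain ⟨M, hMD, hM, hnil⟩ := exists_minimal (N := N) (Sylow.normalizer_sup_eq_top T₀)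
  haveI := hnil
  set L := M ⊓ N with hL
  have hML : M ≤ Subgroup.normalizer (L : Set G) := fun g hg =>
    Subgroup.mem_normalizer_iff.mpr fun y => ⟨fun hy =>
      ⟨M.mul_mem (M.mul_mem hg hy.1) (M.inv_mem hg), ‹N.Normal›.conj_mem y hy.2 g⟩, fun hy =>
      ⟨by simpa [mul_assoc] using M.mul_mem (M.mul_mem (M.inv_mem hg) hy.1) hg,
        by simpa [mul_assoc] using ‹N.Normal›.conj_mem _ hy.2 g⁻¹⟩⟩
  have hT : IsPGroup t T := T₀.isPGroup'.map N.subtype
  have hT1 : T ≠ ⊥ := fun hb => by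
    rw [hTdef, Subgroup.map_eq_bot_iff_of_injective _ N.subtype_injective] at hb
    exact T₀.ne_bot_of_dvd_card htN hb
  have hTN : T ≤ N := Subgroup.map_subtype_le _
  obtain ⟨u, huM, huN, huo⟩ : ∃ u ∈ M, u ∉ N ∧ orderOf u = s := by
    obtain ⟨u, huM, huN, hus⟩ := exists_lift hM hsi
    obtain ⟨k, hk⟩ := IsPGroup.iff_orderOf.mp hus ⟨u, Subgroup.mem_zpowers u⟩
    rw [Subgroup.orderOf_mk] at hk
    have hk0 : k ≠ 0 := by
      rintro rfl
      rw [pow_zero, orderOf_eq_one_iff] at hk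
      exact huN (hk ▸ one_mem N)
    have hw : orderOf (u ^ (orderOf u / s)) = s :=
      orderOf_pow_orderOf_div (orderOf_pos u).ne' (hk ▸ dvd_pow_self s hk0)
    refine ⟨_, M.pow_mem huM _, fun hN => hsN ?_, hw⟩
    exact hw ▸ Subgroup.orderOf_dvd_natCard N hN
  have hus : IsPGroup s (Subgroup.zpowers u) := isPGroup_zpowers huo
  have hXT : ∀ y ∈ core L p, ∀ v ∈ T, Commute y v := by
    refine kernel_cent hT (core L p) (x := u) (huo ▸ hs) (hMD huM)
      ((core_le L p).trans (inf_le_left.trans hMD))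
      (fun y hy => (Subgroup.mem_normalizer_iff.mp (core_le_normalizer hML p huM) y).mp hy)
      (fun y hy hc => ?_) (not_dvd_card_of_isPGroup ht htp (isPGroup_core L p))
      (not_fixes_of_ne h hts huN hus hT hTN)
    by_contra hy1
    exact not_fixes_of_ne h hsp.symm huN hus (isPGroup_core L p)
      ((core_le L p).trans inf_le_right) ⟨y, hy, hy1, hc.symm⟩
  exact pair_absurd h htp hpi hpN hM hT hT1 hTN hMD fun y hyM hyN hyp =>
    hXT y (mem_core_of_nilpotent ⟨hyM, hyN⟩ hyp)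

end CfsgLib.CaminaPairs
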