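import Cfsg.Agent.Lib.Base.MinimalNormal
import Mathlib.GroupTheory.GroupAction.Primitive

/-!
# Regular normal subgroups of primitive solvable groups
-/

namespace CfsgLib.SolvStruct

open Cfsg CfsgLib.Base

variable {G : Type*} [Group G] {Ω : Type*} [MulAction G Ω]

/-- A nontrivial normal subgroup of a faithful primitive group is transitive. -/
theorem isPretransitive_of_normal_of_ne_bot [FaithfulSMul G Ω]
    (hprim : MulAction.IsPreprimitive G Ω) (M : Subgroup G) [M.Normal] (hM : M ≠ ⊥) :
    MulAction.IsPretransitive M Ω := by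
  haveI := hprim
  refine MulAction.IsQuasiPreprimitive.isPretransitive_of_normal (G := G) fun h => hM ?_
  rw [Subgroup.eq_bot_iff_forall]
  intro m hm
  refine FaithfulSMul.eq_of_smul_eq_smul (α := Ω) fun x => ?_
  have hx : x ∈ MulAction.fixedPoints M Ω := h ▸ Set.mem_univ x
  rw [one_smul]
  exact hx ⟨m, hm⟩

/-- An abelian transitive subgroup of a faithful group is regular. -/
theorem eq_one_of_smul_eq_of_abelian [FaithfulSMul G Ω] (M : Subgroup G) [IsMulCommutative M]
    (ht : MulAction.IsPretransitive M Ω) {ω : Ω} {m : G} (hm : m ∈ M) (h : m • ω = ω) :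
    m = 1 := by
  refine FaithfulSMul.eq_of_smul_eq_smul (α := Ω) fun x => ?_
  obtain ⟨⟨k, hk⟩, hkx⟩ := ht.exists_smul_eq ω x
  have hkx' : k • ω = x := hkx
  have hcomm : m * k = k * m :=
    congrArg Subtype.val ((inferInstance : IsMulCommutative M).is_comm.comm
      (⟨m, hm⟩ : M) ⟨k, hk⟩)
  rw [one_smul, ← hkx', smul_smul, hcomm, ← smul_smul, h]

/-- A transitive subgroup together with a point stabiliser generates the group. -/
theorem exists_mul_stabilizer (M : Subgroup G) (ht : MulAction.IsPretransitive M Ω) (ω : Ω)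
    (g : G) : ∃ m ∈ M, ∃ h ∈ MulAction.stabilizer G ω, g = m * h := by
  obtain ⟨⟨k, hk⟩, hkx⟩ := ht.exists_smul_eq ω (g • ω)
  have hkx' : k • ω = g • ω := hkx
  refine ⟨k, hk, k⁻¹ * g, ?_, (mul_inv_cancel_left k g).symm⟩
  rw [MulAction.mem_stabilizer_iff, mul_smul, ← hkx', inv_smul_smul]

end CfsgLib.SolvStruct
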