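import Cfsg.Agent.Lib.SolvStruct.Supersolvable
import Cfsg.Agent.Lib.Coprime.Action
import Cfsg.Agent.Lib.FgsC.Basic

/-!
Supersolvable groups: nilpotency of the derived subgroup, Huppert's theorem and consequences.
-/

set_option autoImplicit false

open scoped Pointwise commutatorElement

namespace CfsgLib.SolvStruct

universe u

variable {G : Type u} [Group G]

/-- Commutators, and `(p-1)`-th powers, centralize every normal subgroup of prime order `p`. -/
theorem mem_centralizer_of_prime_normal [Finite G] {R : Subgroup G} [R.Normal]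
    (hR : (Nat.card R).Prime) {y : G}
    (hy : y ∈ commutator G ∨ ∃ z : G, y = z ^ (Nat.card R - 1)) :
    y ∈ Subgroup.centralizer (R : Set G) := by
  have := isCyclic_of_card_prime hR
  let c : G →* MulAut R := MulAut.conjNormal
  have hker : ∀ g, c g = 1 → g ∈ Subgroup.centralizer (R : Set G) := by
    intro g hg
    rw [Subgroup.mem_centralizer_iff]
    intro r hr
    have h := congrArg Subtype.val (DFunLike.congr_fun hg ⟨r, hr⟩)
    simp only [c, MulAut.conjNormal_apply, MulAut.one_apply] at h
    calc r * g = g * r * g⁻¹ * g := by rw [h]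
      _ = g * r := by group
  apply hker
  let e := IsCyclic.mulAutMulEquiv R
  rcases hy with hy | ⟨z, rfl⟩
  · let d : G →* (ZMod (Nat.card R))ˣ := e.toMonoidHom.comp c
    have := Abelianization.commutator_subset_ker d hy
    exact e.injective ((MonoidHom.mem_ker.mp this).trans (map_one e).symm)
  · rw [map_pow, ← Nat.totient_prime hR, ← IsCyclic.card_mulAut]
    exact pow_card_eq_one'

theorem map_mk'_mem_commutator {N : Subgroup G} [N.Normal] {y : G} (hy : y ∈ commutator G) :
    QuotientGroup.mk' N y ∈ commutator (G ⧸ N) := by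
  have h := Subgroup.mem_map_of_mem (QuotientGroup.mk' N) hy
  rwa [commutator_def, Subgroup.map_commutator,
    Subgroup.map_top_of_surjective _ (QuotientGroup.mk'_surjective N), ← commutator_def] at h

theorem isNilpotent_commutator_aux (n : ℕ) : ∀ {G : Type u} [Group G] [Finite G],
    Nat.card G ≤ n → Cfsg.IsSupersolvable G → Group.IsNilpotent (commutator G) := by
  induction n with
  | zero =>
    intro G _ _ hG
    exact absurd hG (Nat.not_le.mpr Nat.card_pos)
  | succ n ih =>
    intro G _ _ hG h
    rcases subsingleton_or_nontrivial G with hs | hs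
    · infer_instance
    obtain ⟨N, hN, hNp⟩ := exists_prime_normal h
    have hlt : Nat.card (G ⧸ N) ≤ n :=
      Nat.lt_succ_iff.mp ((card_quotient_lt' (ne_bot_of_card_prime hNp)).trans_le hG)
    have hi := ih hlt (supersolvable_quotient h N)
    let f : commutator G →* commutator (G ⧸ N) :=
      MonoidHom.mk' (fun x => ⟨QuotientGroup.mk' N x, map_mk'_mem_commutator x.2⟩)
        fun a b => Subtype.ext (map_mul _ _ _)
    have := hi
    refine Subgroup.isNilpotent_of_ker_le_center f ?_
    intro x hx
    have hxN : (x : G) ∈ N := by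
      have := congrArg Subtype.val (MonoidHom.mem_ker.mp hx)
      exact (QuotientGroup.eq_one_iff _).mp this
    rw [Subgroup.mem_center_iff]
    intro y
    exact Subtype.ext
      (Subgroup.mem_centralizer_iff.mp (mem_centralizer_of_prime_normal hNp (Or.inl y.2)) _ hxN).symm

/-- The derived subgroup of a finite supersolvable group is nilpotent. -/
theorem isNilpotent_commutator [Finite G] (h : Cfsg.IsSupersolvable G) :
    Group.IsNilpotent (commutator G) :=
  isNilpotent_commutator_aux _ le_rfl h

theorem centralizes_pgroup_aux (p : ℕ) (n : ℕ) : ∀ {G : Type u} [Group G] [Finite G],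
    Nat.card G ≤ n → Cfsg.IsSupersolvable G → p.Prime → ∀ P : Subgroup G, P.Normal → IsPGroup p P →
      ∀ y : G, (orderOf y).Coprime p → (y ∈ commutator G ∨ ∃ z : G, y = z ^ (p - 1)) →
        y ∈ Subgroup.centralizer (P : Set G) := by
  induction n with
  | zero =>
    intro G _ _ hG
    exact absurd hG (Nat.not_le.mpr Nat.card_pos)
  | succ n ih =>
    intro G _ _ hG h hp P hP hPp y hyo hy
    rcases eq_or_ne P ⊥ with rfl | hne
    · rw [Subgroup.mem_centralizer_iff]
      intro r hr
      rw [Subgroup.mem_bot.mp hr, one_mul, mul_one]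
    obtain ⟨R, hR, hRp, hRP⟩ := exists_prime_normal_le h hP hne
    have := Fact.mk hp
    have hcard : Nat.card R = p := by
      obtain ⟨k, hk⟩ := IsPGroup.iff_card.mp (hPp.to_le hRP)
      exact ((Nat.prime_dvd_prime_iff_eq hRp hp).mp (hRp.dvd_of_dvd_pow hk.dvd))
    have hyR : y ∈ Subgroup.centralizer (R : Set G) :=
      mem_centralizer_of_prime_normal hRp (hcard.symm ▸ hy)
    set f := QuotientGroup.mk' R
    have hsurj : Function.Surjective f := QuotientGroup.mk'_surjective R
    have hlt : Nat.card (G ⧸ R) ≤ n :=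
      Nat.lt_succ_iff.mp ((card_quotient_lt' (ne_bot_of_card_prime hRp)).trans_le hG)
    have hi := ih hlt (supersolvable_quotient h R) hp (P.map f) (hP.map f hsurj) (hPp.map f) (f y)
      (hyo.coprime_dvd_left (orderOf_map_dvd f y))
      (hy.imp map_mk'_mem_commutator fun ⟨z, hz⟩ => ⟨f z, by rw [hz, map_pow]⟩)
    set A := Subgroup.zpowers y with hA
    have hAP : A ≤ Subgroup.normalizer (P : Set G) := Subgroup.le_normalizer_of_normal
    have hcop : (Nat.card A).Coprime (Nat.card P) := by
      obtain ⟨k, hk⟩ := IsPGroup.iff_card.mp hPp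
      rw [hA, Nat.card_zpowers, hk]
      exact Nat.Coprime.pow_right k hyo
    have hsolv : Group.IsSolvable A := Group.isSolvable_of_comm fun a b => mul_comm' a b
    have h1 : ⁅P, A⁆ ≤ R := by
      rw [← QuotientGroup.ker_mk' R, ← Subgroup.map_eq_bot_iff, Subgroup.map_commutator,
        Subgroup.commutator_eq_bot_iff_le_centralizer, Subgroup.le_centralizer_iff,
        MonoidHom.map_zpowers, Subgroup.zpowers_le]
      exact hi
    have h2 : ⁅R, A⁆ = ⊥ := by
      rw [Subgroup.commutator_eq_bot_iff_le_centralizer, Subgroup.le_centralizer_iff,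
        Subgroup.zpowers_le]
      exact hyR
    have h3 : ⁅P, A⁆ = ⊥ := by
      rw [← CfsgLib.Coprime.commutator_commutator_eq hAP hcop (Or.inl hsolv), ← le_bot_iff]
      exact (Subgroup.commutator_mono h1 le_rfl).trans h2.le
    rw [Subgroup.commutator_eq_bot_iff_le_centralizer, Subgroup.le_centralizer_iff] at h3
    exact h3 (Subgroup.mem_zpowers y)

/-- In a supersolvable group, `p'`-elements that are commutators or `(p-1)`-th powers centralize
every normal `p`-subgroup. -/
theorem centralizes_pgroup [Finite G] (h : Cfsg.IsSupersolvable G) {p : ℕ} (hp : p.Prime)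
    {P : Subgroup G} (hP : P.Normal) (hPp : IsPGroup p P) {y : G} (hyo : (orderOf y).Coprime p)
    (hy : y ∈ commutator G ∨ ∃ z : G, y = z ^ (p - 1)) :
    y ∈ Subgroup.centralizer (P : Set G) :=
  centralizes_pgroup_aux p _ le_rfl h hp P hP hPp y hyo hy

/-- If every maximal subgroup has prime index, the Sylow subgroup for the largest prime is
normal. -/
theorem sylow_normal_of_prime_index [Finite G] (h : ∀ M : Subgroup G, IsCoatom M → M.index.Prime)
    {p : ℕ} [hp : Fact p.Prime] (hmax : ∀ q : ℕ, q.Prime → q ∣ Nat.card G → q ≤ p)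
    (P : Sylow p G) : (P : Subgroup G).Normal := by
  by_contra hn
  rw [← Subgroup.normalizer_eq_top_iff] at hn
  obtain ⟨M, hM, hle⟩ := (eq_top_or_exists_le_coatom (Subgroup.normalizer (P : Set G))).resolve_left hn
  have hq := h M hM
  have hqp : M.index ≤ p := hmax _ hq M.index_dvd_card
  have hmod := CfsgLib.FgsC.index_modEq_one_of_normalizer_le P M hle
  rcases hqp.lt_or_eq with h1 | h1
  · exact hq.ne_one (Nat.ModEq.eq_of_lt_of_lt hmod h1 hp.out.one_lt)
  · rw [h1] at hmod
    have := (Nat.modEq_iff_dvd' hp.out.one_lt.le).mp hmod.symm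
    rw [Nat.dvd_sub_iff_right hp.out.one_lt.le dvd_rfl, Nat.dvd_one] at this
    exact hp.out.ne_one this

/-- Maximal subgroups of prime index are inherited by quotients. -/
theorem prime_index_quotient [Finite G] (h : ∀ M : Subgroup G, IsCoatom M → M.index.Prime)
    (N : Subgroup G) [N.Normal] (M : Subgroup (G ⧸ N)) (hM : IsCoatom M) : M.index.Prime := by
  set f := QuotientGroup.mk' N
  have hsurj : Function.Surjective f := QuotientGroup.mk'_surjective N
  have hco : IsCoatom (M.comap f) := by
    refine ⟨fun htop => hM.1 ?_, fun K hK => ?_⟩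
    · rw [← Subgroup.map_comap_eq_self_of_surjective hsurj M, htop,
        Subgroup.map_top_of_surjective f hsurj]
    · have hker : f.ker ≤ K := (MonoidHom.ker_le_comap f M).trans hK.le
      have hlt : M < K.map f := by
        rw [← Subgroup.map_comap_eq_self_of_surjective hsurj M]
        refine lt_of_le_of_ne (Subgroup.map_mono hK.le) fun he => hK.ne ?_
        rw [← Subgroup.comap_map_eq_self hker, ← he,
          Subgroup.map_comap_eq_self_of_surjective hsurj M]
      rw [← Subgroup.comap_map_eq_self hker, hM.2 _ hlt, Subgroup.comap_top]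
  have := h _ hco
  rwa [Subgroup.index_comap_of_surjective _ hsurj] at this

/-- A nontrivial finite group has a largest prime divisor of its order. -/
theorem exists_max_prime {G : Type u} [Finite G] [Nontrivial G] :
    ∃ p : ℕ, p.Prime ∧ p ∣ Nat.card G ∧ ∀ q : ℕ, q.Prime → q ∣ Nat.card G → q ≤ p := by
  have hne : (Nat.card G).primeFactors.Nonempty :=
    Nat.nonempty_primeFactors.mpr Finite.one_lt_card
  refine ⟨(Nat.card G).primeFactors.max' hne, Nat.prime_of_mem_primeFactors (Finset.max'_mem _ _),
    Nat.dvd_of_mem_primeFactors (Finset.max'_mem _ _), fun q hq hd => ?_⟩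
  exact Finset.le_max' _ q (Nat.mem_primeFactors.mpr ⟨hq, hd, Nat.card_pos.ne'⟩)

theorem isSolvable_of_prime_index_aux (n : ℕ) : ∀ {G : Type u} [Group G] [Finite G],
    Nat.card G ≤ n → (∀ M : Subgroup G, IsCoatom M → M.index.Prime) → Group.IsSolvable G := by
  induction n with
  | zero =>
    intro G _ _ hG
    exact absurd hG (Nat.not_le.mpr Nat.card_pos)
  | succ n ih =>
    intro G _ _ hG h
    rcases subsingleton_or_nontrivial G with hs | hs
    · infer_instance
    obtain ⟨p, hp, hpd, hmax⟩ := exists_max_prime (G := G)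
    have := Fact.mk hp
    obtain ⟨P⟩ : Nonempty (Sylow p G) := inferInstance
    have hn := sylow_normal_of_prime_index h hmax P
    have hne : (P : Subgroup G) ≠ ⊥ := P.ne_bot_of_dvd_card hpd
    have hlt : Nat.card (G ⧸ (P : Subgroup G)) ≤ n :=
      Nat.lt_succ_iff.mp ((card_quotient_lt' hne).trans_le hG)
    have := ih hlt (prime_index_quotient h _)
    have : Group.IsNilpotent (P : Subgroup G) := P.2.isNilpotent
    have : Group.IsSolvable (P : Subgroup G) := inferInstance
    exact Group.isSolvable_of_ker_le_range (P : Subgroup G).subtype (QuotientGroup.mk' (P : Subgroup G))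
      (by rw [QuotientGroup.ker_mk', Subgroup.range_subtype])

/-- A finite group all of whose maximal subgroups have prime index is solvable. -/
theorem isSolvable_of_prime_index [Finite G] (h : ∀ M : Subgroup G, IsCoatom M → M.index.Prime) :
    Group.IsSolvable G :=
  isSolvable_of_prime_index_aux _ le_rfl h

/-- A linear map `T` with `T ^ (p - 1) = 1` on a nonzero `ZMod p`-space has an eigenvector. -/
theorem exists_eigen {p : ℕ} [hp : Fact p.Prime] {V : Type*} [AddCommGroup V] [Module (ZMod p) V]
    [Module.Finite (ZMod p) V] [Nontrivial V] (T : V →ₗ[ZMod p] V) (hT₀ : ∀ v, T^[p - 1] v = v) :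
    ∃ (c : ZMod p) (v : V), v ≠ 0 ∧ T v = c • v := by
  have hT : T ^ (p - 1) = 1 := LinearMap.ext fun x => by
    rw [Module.End.pow_apply]
    exact hT₀ x
  classical
  open Polynomial in
  have hroots : ∃ c : ZMod p, (minpoly (ZMod p) T).IsRoot c := by
    set q := minpoly (ZMod p) T with hq
    have hdvd : q ∣ X ^ p - X := by
      refine minpoly.dvd _ _ ?_
      rw [map_sub, map_pow, aeval_X, sub_eq_zero]
      calc T ^ p = T ^ ((p - 1) + 1) := by rw [Nat.sub_add_cancel hp.out.one_lt.le]
        _ = T := by rw [pow_succ, hT, one_mul]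
    have hprod : (X ^ p - X : (ZMod p)[X]) = ∏ c : ZMod p, (X - C c) := by
      have hr := FiniteField.roots_X_pow_card_sub_X (ZMod p)
      rw [ZMod.card] at hr
      rw [← prod_multiset_X_sub_C_of_monic_of_roots_card_eq (p := (X ^ p - X : (ZMod p)[X]))
        (monic_X_pow_sub (by rw [degree_X]; exact mod_cast hp.out.one_lt))
        (by rw [hr, FiniteField.X_pow_card_sub_X_natDegree_eq _ hp.out.one_lt]
            simp [ZMod.card]), hr]
      rfl
    have hint : IsIntegral (ZMod p) T := Algebra.IsIntegral.isIntegral T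
    by_contra hcon
    simp only [not_exists] at hcon
    have hu : IsUnit q := by
      refine IsCoprime.isUnit_of_dvd' (x := q) (IsCoprime.prod_right fun c _ => ?_) dvd_rfl
        (hprod ▸ hdvd)
      rw [isCoprime_comm, (irreducible_X_sub_C c).coprime_iff_not_dvd, dvd_iff_isRoot]
      exact hcon c
    exact minpoly.not_isUnit (ZMod p) T hu
  obtain ⟨c, hc⟩ := hroots
  obtain ⟨v, hv⟩ := (Module.End.hasEigenvalue_iff_isRoot.mpr hc).exists_hasEigenvector
  exact ⟨c, v, hv.2, hv.apply_eq_smul⟩

/-- An additive map with `T^[p-1] = id` on a finite nonzero group of exponent `p` has an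
eigenvector. -/
theorem exists_nsmul_eigen {p : ℕ} [hp : Fact p.Prime] {V : Type*} [AddCommGroup V] [Finite V]
    [Nontrivial V] (hV : ∀ v : V, p • v = 0) (T : V →+ V) (hT : ∀ v, T^[p - 1] v = v) :
    ∃ (c : ℕ) (v : V), v ≠ 0 ∧ T v = c • v := by
  let : Module (ZMod p) V := AddCommGroup.zmodModule hV
  have hfin : Module.Finite (ZMod p) V := Module.Finite.of_finite
  let T' : V →ₗ[ZMod p] V := T.toZModLinearMap p
  obtain ⟨c, v, hv, hTv⟩ := @exists_eigen p hp V _ _ hfin _ T' hT
  refine ⟨c.val, v, hv, ?_⟩
  rw [← Nat.cast_smul_eq_nsmul (ZMod p), ZMod.natCast_zmod_val]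
  exact hTv

/-- An element acting on a nontrivial abelian group of exponent `p` with order dividing `p - 1`
fixes some cyclic subgroup. -/
theorem exists_pow_eigen {p : ℕ} [hp : Fact p.Prime] {W : Type*} [CommGroup W] [Finite W]
    [Nontrivial W] (hW : ∀ w : W, w ^ p = 1) (β : MulAut W) (hβ : β ^ (p - 1) = 1) :
    ∃ (c : ℕ) (w : W), w ≠ 1 ∧ β w = w ^ c := by
  have hiter : ∀ (n : ℕ) (x : Additive W),
      (β.toMonoidHom.toAdditive)^[n] x = Additive.ofMul ((β ^ n) x.toMul) := by
    intro n
    induction n with
    | zero => intro x; rfl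
    | succ n ih =>
      intro x
      rw [Function.iterate_succ_apply', ih, pow_succ']
      rfl
  have : Nontrivial (Additive W) := Additive.toMul.nontrivial
  have : Finite (Additive W) := Finite.of_equiv W Additive.ofMul
  obtain ⟨c, v, hv, hTv⟩ := exists_nsmul_eigen (V := Additive W) (fun v => hW v.toMul)
    β.toMonoidHom.toAdditive (fun v => by rw [hiter, hβ]; rfl)
  exact ⟨c, v.toMul, fun h => hv (Additive.toMul.injective h), congrArg Additive.toMul hTv⟩

theorem supersolvable_of_prime_index_aux (n : ℕ) : ∀ {G : Type u} [Group G] [Finite G],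
    Nat.card G ≤ n → (∀ M : Subgroup G, IsCoatom M → M.index.Prime) → Cfsg.IsSupersolvable G := by
  classical
  induction n with
  | zero =>
    intro G _ _ hG
    exact absurd hG (Nat.not_le.mpr Nat.card_pos)
  | succ n ih =>
    intro G _ _ hG h
    rcases subsingleton_or_nontrivial G with hs | hs
    · exact supersolvable_of_subsingleton
    obtain ⟨p, hp, hpd, hmax⟩ := exists_max_prime (G := G)
    have := Fact.mk hp
    obtain ⟨P⟩ : Nonempty (Sylow p G) := inferInstance
    have hPn := sylow_normal_of_prime_index h hmax P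
    have hPne : (P : Subgroup G) ≠ ⊥ := P.ne_bot_of_dvd_card hpd
    -- a minimal normal subgroup inside the centre of `P`
    set ZP := (Subgroup.center (P : Subgroup G)).map (P : Subgroup G).subtype with hZP
    have hZPn : ZP.Normal := inferInstance
    have hZPne : ZP ≠ ⊥ := by
      have : Nontrivial (P : Subgroup G) := (Subgroup.nontrivial_iff_ne_bot _).mpr hPne
      intro h0
      rw [hZP, Subgroup.map_eq_bot_iff, Subgroup.ker_subtype, le_bot_iff] at h0
      exact P.2.bot_lt_center.ne' h0
    obtain ⟨N, ⟨hNn, hNne, hNle⟩, hmin⟩ := (Set.toFinite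
      {N : Subgroup G | N.Normal ∧ N ≠ ⊥ ∧ N ≤ ZP}).exists_minimal ⟨ZP, hZPn, hZPne, le_rfl⟩
    have hsub : ∀ K : Subgroup G, K.Normal → K ≤ N → K = ⊥ ∨ K = N := fun K hK hKN =>
      or_iff_not_imp_left.mpr fun hKne => le_antisymm hKN (hmin ⟨hK, hKne, hKN.trans hNle⟩ hKN)
    have hPN : ∀ x ∈ N, ∀ u ∈ (P : Subgroup G), x * u = u * x := by
      intro x hx u hu
      obtain ⟨z, hz, rfl⟩ := hNle hx
      exact (congrArg Subtype.val (Subgroup.mem_center_iff.mp hz ⟨u, hu⟩)).symm
    have hNP : N ≤ (P : Subgroup G) := hNle.trans (Subgroup.map_subtype_le _)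
    have hNab : ∀ a ∈ N, ∀ b ∈ N, a * b = b * a := fun a ha b hb => hPN a ha b (hNP hb)
    have hNpG : IsPGroup p N := P.2.to_le hNP
    have hNexp : ∀ x ∈ N, x ^ p = 1 := by
      let K : Subgroup G :=
        { carrier := {x | x ∈ N ∧ x ^ p = 1}
          one_mem' := ⟨N.one_mem, one_pow p⟩
          mul_mem' := fun {a b} ha hb => ⟨N.mul_mem ha.1 hb.1, by
            rw [(Commute.mul_pow (hNab a ha.1 b hb.1) p), ha.2, hb.2, one_mul]⟩
          inv_mem' := fun {a} ha => ⟨N.inv_mem ha.1, by rw [inv_pow, ha.2, inv_one]⟩ }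
      have hKn : K.Normal := ⟨fun x hx g => ⟨hNn.conj_mem x hx.1 g, by
        rw [conj_pow, hx.2, mul_one, mul_inv_cancel]⟩⟩
      have hKne : K ≠ ⊥ := by
        have hd : p ∣ Nat.card N := by
          obtain ⟨k, hk⟩ := IsPGroup.iff_card.mp hNpG
          rcases k with _ | k
          · exact absurd (Subgroup.card_eq_one.mp (by simpa using hk)) hNne
          · exact hk ▸ dvd_pow_self p k.succ_ne_zero
        obtain ⟨x, hx⟩ := exists_prime_orderOf_dvd_card' p hd
        intro h0
        have hmem : (x : G) ∈ K := ⟨x.2, by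
          rw [← hx, ← Subgroup.orderOf_coe]; exact pow_orderOf_eq_one _⟩
        rw [h0, Subgroup.mem_bot] at hmem
        rw [← Subgroup.orderOf_coe, hmem, orderOf_one] at hx
        exact hp.one_lt.ne hx
      intro x hx
      rw [← (hsub K hKn fun y hy => hy.1).resolve_left hKne] at hx
      exact hx.2
    have hq : Cfsg.IsSupersolvable (G ⧸ N) :=
      ih (Nat.lt_succ_iff.mp ((card_quotient_lt' hNne).trans_le hG)) (prime_index_quotient h N)
    -- it suffices that `N` be cyclic
    suffices hcyc : IsCyclic N from supersolvable_of_cyclic_normal N hq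
    by_cases hΦ : N ≤ frattini G
    swap
    · obtain ⟨M, hM, hNM⟩ : ∃ M : Subgroup G, IsCoatom M ∧ ¬ N ≤ M := by
        by_contra hcon
        simp only [not_exists, not_and, not_not] at hcon
        exact hΦ (le_iInf₂ hcon)
      have htop : M ⊔ N = ⊤ := hM.2 _ (lt_of_le_of_ne le_sup_left
        fun he => hNM (he ▸ le_sup_right))
      have hinf : M ⊓ N = ⊥ := by
        have hn : (M ⊓ N).Normal := by
          rw [← Subgroup.normalizer_eq_top_iff, eq_top_iff, ← htop]
          refine sup_le (CfsgLib.Coprime.le_normalizer_inf_inf Subgroup.le_normalizer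
            Subgroup.le_normalizer_of_normal) fun a ha => ?_
          rw [Subgroup.mem_normalizer_iff]
          intro y
          constructor
          · intro hy
            rwa [hNab a ha y hy.2, mul_inv_cancel_right]
          · intro hy
            have hyN : y ∈ N := by
              simpa [mul_assoc] using hNn.conj_mem _ hy.2 a⁻¹
            rwa [hNab a ha y hyN, mul_inv_cancel_right] at hy
        rcases hsub _ hn inf_le_right with h1 | h1
        · exact h1
        · exact absurd (h1 ▸ inf_le_left) hNM
      have hcard := CfsgLib.Coprime.card_sup_of_inf_eq_bot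
        (Subgroup.le_normalizer_of_normal (K := M) (H := N)) hinf
      rw [htop, Subgroup.card_top, ← M.card_mul_index] at hcard
      have hi : M.index = Nat.card N := Nat.eq_of_mul_eq_mul_left Nat.card_pos hcard
      exact isCyclic_of_card_prime (hi ▸ h M hM)
    -- the Frattini case
    have hidxP : (Nat.card (P : Subgroup G)).Coprime (P : Subgroup G).index := P.card_coprime_index
    obtain ⟨B, hB⟩ := Subgroup.exists_right_complement'_of_coprime hidxP
    have hBcop : ∀ y ∈ B, (orderOf y).Coprime p := by
      intro y hy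
      have hd : orderOf y ∣ (P : Subgroup G).index := by
        rw [hB.symm.index_eq_card, show orderOf y = orderOf (⟨y, hy⟩ : B) from Subgroup.orderOf_coe (⟨y, hy⟩ : B)]
        exact orderOf_dvd_natCard _
      exact ((Nat.Prime.coprime_iff_not_dvd hp).mpr fun hd' => P.not_dvd_index (hd'.trans hd)).symm
    set f := QuotientGroup.mk' N with hf
    have hsurj : Function.Surjective f := QuotientGroup.mk'_surjective N
    set K := B ⊓ (Subgroup.centralizer (((P : Subgroup G).map f : Subgroup (G ⧸ N)) : Set (G ⧸ N))).comap f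
      with hK
    have hPf : ((P : Subgroup G).map f).Normal := hPn.map f hsurj
    have hBK : B ≤ Subgroup.normalizer (K : Set G) :=
      CfsgLib.Coprime.le_normalizer_inf_inf Subgroup.le_normalizer Subgroup.le_normalizer_of_normal
    have hKcop : (Nat.card K).Coprime (Nat.card N) := by
      refine (hidxP.symm.coprime_dvd_left ?_).coprime_dvd_right (Subgroup.card_dvd_of_le hNP)
      rw [hB.symm.index_eq_card]
      exact Subgroup.card_dvd_of_le inf_le_left
    set Cp := (P : Subgroup G) ⊓ Subgroup.centralizer (K : Set G) with hCp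
    have hNs : Group.IsSolvable N :=
      Group.isSolvable_of_comm fun a b => Subtype.ext (hNab a a.2 b b.2)
    have hPCN : (P : Subgroup G) ≤ Cp ⊔ N := by
      intro u hu
      obtain ⟨c, hc, huc⟩ := CfsgLib.Coprime.exists_centralizing_in_coset
        (A := K) (N := N) Subgroup.le_normalizer_of_normal hKcop (Or.inr hNs) (k := u) fun a ha => by
          rw [← QuotientGroup.eq_one_iff, ← QuotientGroup.mk'_apply, ← hf]
          have h1 := Subgroup.mem_centralizer_iff.mp ha.2 (f u) ⟨u, hu, rfl⟩
          simp only [map_mul, map_inv]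
          rw [← h1]
          group
      have hcP : c ∈ (P : Subgroup G) := by
        have := (P : Subgroup G).mul_mem hu (hNP huc)
        rwa [mul_inv_cancel_left] at this
      have := Subgroup.mul_mem_sup (show c ∈ Cp from ⟨hcP, hc⟩) (N.inv_mem huc)
      simpa [mul_assoc] using this
    have htop : (P : Subgroup G) ⊔ B = ⊤ := hB.sup_eq_top
    have hBC : B ≤ Subgroup.normalizer ((Subgroup.centralizer (K : Set G) : Subgroup G) : Set G) :=
      CfsgLib.Coprime.le_normalizer_centralizer hBK
    have hNK : N ≤ Subgroup.centralizer (K : Set G) := by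
      have hnorm : (N ⊓ Subgroup.centralizer (K : Set G)).Normal := by
        rw [← Subgroup.normalizer_eq_top_iff, eq_top_iff, ← htop]
        refine sup_le (fun u hu => ?_)
          (CfsgLib.Coprime.le_normalizer_inf_inf Subgroup.le_normalizer_of_normal hBC)
        rw [Subgroup.mem_normalizer_iff]
        intro y
        constructor
        · intro hy
          rwa [← hPN y hy.1 u hu, mul_inv_cancel_right]
        · intro hy
          have hyN : y ∈ N := by simpa [mul_assoc] using hNn.conj_mem _ hy.1 u⁻¹
          rwa [← hPN y hyN u hu, mul_inv_cancel_right] at hy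
      rcases hsub _ hnorm inf_le_left with h1 | h1
      swap
      · exact inf_eq_left.mp h1
      exfalso
      have hBCp : B ≤ Subgroup.normalizer (Cp : Set G) :=
        CfsgLib.Coprime.le_normalizer_inf_inf Subgroup.le_normalizer_of_normal hBC
      have hL : (B ⊔ Cp) ⊔ N = ⊤ := by
        refine top_le_iff.mp (htop ▸ sup_le (hPCN.trans ?_) (le_sup_left.trans le_sup_left))
        exact sup_le_sup_right le_sup_right N
      have hLtop : B ⊔ Cp = ⊤ :=
        frattini_nongenerating (top_le_iff.mp (hL.ge.trans (sup_le_sup_left hΦ _)))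
      have hd := CfsgLib.Coprime.card_sup_dvd hBCp
      rw [hLtop, Subgroup.card_top, ← hB.card_mul_card, mul_comm] at hd
      have heq : Cp = (P : Subgroup G) := Subgroup.eq_of_le_of_card_ge inf_le_left
        (Nat.le_of_dvd Nat.card_pos (Nat.dvd_of_mul_dvd_mul_left Nat.card_pos hd))
      exact hNne (le_bot_iff.mp (h1 ▸ le_inf le_rfl (hNP.trans (heq.ge.trans inf_le_right))))
    -- `B` acts on `N` through commuting maps of order dividing `p - 1`
    have hmemK : ∀ y ∈ B, (f y ∈ commutator (G ⧸ N) ∨ ∃ z, f y = z ^ (p - 1)) → y ∈ K := by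
      intro y hy hy'
      exact ⟨hy, centralizes_pgroup hq hp hPf (P.2.map f)
        ((hBcop y hy).coprime_dvd_left (orderOf_map_dvd f y)) hy'⟩
    have hfix : ∀ y ∈ K, ∀ x ∈ N, y * x * y⁻¹ = x := by
      intro y hy x hx
      rw [Subgroup.mem_centralizer_iff.mp (hNK hx) y hy]
      group
    open scoped IsMulCommutative in
    have : IsMulCommutative N := ⟨⟨fun a b => Subtype.ext (hNab a a.2 b b.2)⟩⟩
    have : Nontrivial N := (Subgroup.nontrivial_iff_ne_bot N).mpr hNne
    let ρ : B →* MulAut N := (MulAut.conjNormal (H := N)).comp B.subtype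
    have hρ : ∀ (b : B) (x : N), ((ρ b x : N) : G) = (b : G) * x * (b : G)⁻¹ := fun b x =>
      MulAut.conjNormal_apply _ _
    have hscal : ∀ b : B, ∃ c : ℕ, ∀ x : N, (b : G) * x * (b : G)⁻¹ = (x : G) ^ c := by
      intro b
      have hb : ρ b ^ (p - 1) = 1 := by
        rw [← map_pow]
        ext x
        rw [hρ]
        exact hfix _ (hmemK _ (b ^ (p - 1)).2 (Or.inr ⟨f b, map_pow f _ _⟩)) x x.2
      open scoped IsMulCommutative in
      obtain ⟨c, w, hw1, hw⟩ := exists_pow_eigen (W := N)
        (fun x => Subtype.ext (hNexp x x.2)) (ρ b) hb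
      refine ⟨c, fun x => ?_⟩
      let W : Subgroup G :=
        { carrier := {x | x ∈ N ∧ (b : G) * x * (b : G)⁻¹ = x ^ c}
          one_mem' := ⟨N.one_mem, by simp⟩
          mul_mem' := fun {u v} hu hv => ⟨N.mul_mem hu.1 hv.1, by
            rw [(Commute.mul_pow (hNab u hu.1 v hv.1) c), ← hu.2, ← hv.2]; group⟩
          inv_mem' := fun {u} hu => ⟨N.inv_mem hu.1, by rw [inv_pow, ← hu.2]; group⟩ }
      have hWB : ∀ (b' : B) (x : G), x ∈ W → (b' : G) * x * (b' : G)⁻¹ ∈ W := by
        intro b' x hx
        refine ⟨hNn.conj_mem x hx.1 b', ?_⟩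
        have hk : ⁅(b : G), (b' : G)⁆ ∈ K := by
          refine hmemK _ (B.mul_mem (B.mul_mem (B.mul_mem b.2 b'.2) (B.inv_mem b.2))
            (B.inv_mem b'.2)) (Or.inl ?_)
          rw [map_commutatorElement]
          exact Subgroup.commutator_mem_commutator (Subgroup.mem_top _) (Subgroup.mem_top _)
        have h1 := hfix _ hk _ (hNn.conj_mem _ (hNn.conj_mem x hx.1 b) b')
        calc (b : G) * ((b' : G) * x * (b' : G)⁻¹) * (b : G)⁻¹
            = ⁅(b : G), (b' : G)⁆ * ((b' : G) * ((b : G) * x * (b : G)⁻¹) * (b' : G)⁻¹)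
                * ⁅(b : G), (b' : G)⁆⁻¹ := by rw [commutatorElement_def]; group
          _ = (b' : G) * ((b : G) * x * (b : G)⁻¹) * (b' : G)⁻¹ := h1
          _ = ((b' : G) * x * (b' : G)⁻¹) ^ c := by rw [hx.2, conj_pow]
      have hWn : W.Normal := by
        rw [← Subgroup.normalizer_eq_top_iff, eq_top_iff, ← htop]
        refine sup_le (fun u hu => ?_) (fun b' hb' => ?_)
        · rw [CfsgLib.Coprime.mem_normalizer_iff_conj_smul]
          ext y
          rw [CfsgLib.Coprime.mem_conj_smul]
          constructor
          · intro hy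
            have e : u⁻¹ * y * u = y := by
              have := hPN _ hy.1 u hu
              calc u⁻¹ * y * u = u * (u⁻¹ * y * u) * u⁻¹ * 1 := by
                    rw [← this]; group
                _ = y := by group
            rwa [e] at hy
          · intro hy
            rwa [show u⁻¹ * y * u = y by rw [mul_assoc, hPN y hy.1 u hu]; group]
        · rw [Subgroup.mem_normalizer_iff]
          intro y
          refine ⟨hWB ⟨b', hb'⟩ y, fun hy => ?_⟩
          simpa [mul_assoc] using hWB ⟨b', hb'⟩⁻¹ _ hy
      have hWN : W = N := by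
        refine (hsub W hWn fun x hx => hx.1).resolve_left fun h0 => hw1 ?_
        have hmem : (w : G) ∈ W := ⟨w.2, by
          rw [← hρ, hw, SubmonoidClass.coe_pow]⟩
        rw [h0, Subgroup.mem_bot] at hmem
        exact Subtype.ext hmem
      exact (hWN.symm ▸ x.2 : (x : G) ∈ W).2
    obtain ⟨v, hv⟩ := exists_ne (1 : N)
    have hVn : (Subgroup.zpowers (v : G)).Normal := by
      rw [← Subgroup.normalizer_eq_top_iff, eq_top_iff, ← htop]
      refine sup_le (fun u hu => ?_) (fun b hb => ?_)
      · rw [CfsgLib.Coprime.mem_normalizer_iff_conj_smul, CfsgLib.Coprime.conj_smul_eq_map,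
          MonoidHom.map_zpowers]
        congr 1
        rw [MulEquiv.coe_toMonoidHom, MulAut.conj_apply, ← hPN v v.2 u hu, mul_inv_cancel_right]
      · obtain ⟨c, hc⟩ := hscal ⟨b, hb⟩
        rw [CfsgLib.Coprime.mem_normalizer_iff_conj_smul]
        refine Subgroup.eq_of_le_of_card_ge ?_ (le_of_eq (CfsgLib.Coprime.card_conj_smul _ _).symm)
        rw [CfsgLib.Coprime.conj_smul_eq_map, MonoidHom.map_zpowers, Subgroup.zpowers_le,
          MulEquiv.coe_toMonoidHom, MulAut.conj_apply]
        rw [show b * (v : G) * b⁻¹ = (v : G) ^ c from hc v]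
        exact Subgroup.pow_mem _ (Subgroup.mem_zpowers _) c
    have hVN := (hsub _ hVn (Subgroup.zpowers_le.mpr v.2)).resolve_left
      fun h0 => hv (Subtype.ext (Subgroup.zpowers_eq_bot.mp h0))
    rw [← hVN]
    infer_instance

/-- **Huppert's theorem**: if all maximal subgroups have prime index, the group is
supersolvable. -/
theorem supersolvable_of_prime_index [Finite G]
    (h : ∀ M : Subgroup G, IsCoatom M → M.index.Prime) : Cfsg.IsSupersolvable G :=
  supersolvable_of_prime_index_aux _ le_rfl h

end CfsgLib.SolvStruct
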