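import Mathlib.LinearAlgebra.Matrix.GeneralLinearGroup.Card
import Mathlib.FieldTheory.Finite.GaloisField
import Cfsg.Agent.Lib.Recog.TransLinearSolvable
import Cfsg.Agent.Lib.FgsC.HallCount

/-!
Solvable linear groups of dimension at least three that are transitive on lines and on planes.
-/

set_option autoImplicit false
set_option linter.unusedSectionVars false

open Module

namespace CfsgLib.SolvStruct.PlaneTransitive

universe u v

variable {p : ℕ} [Fact p.Prime] {V : Type u} [AddCommGroup V] [Module (ZMod p) V] [Finite V]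

theorem zmod3_pow5 : ∀ z : ZMod 3, z ^ 5 = 1 → z = 1 := by decide

theorem zmod2_ne_zero : ∀ z : ZMod 2, z ≠ 0 → z = 1 := by decide

/-- The scalar maps. -/
def scalarHom : (ZMod p)ˣ →* (V ≃ₗ[ZMod p] V) where
  toFun c := LinearEquiv.smulOfUnit c
  map_one' := by ext x; simp [LinearEquiv.smulOfUnit]
  map_mul' a b := by ext x; simp [LinearEquiv.smulOfUnit, mul_smul]

theorem scalarHom_apply (c : (ZMod p)ˣ) (v : V) : scalarHom c v = (c : ZMod p) • v := by
  simp [scalarHom, LinearEquiv.smulOfUnit, Units.smul_def]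

theorem scalar_comm (c : (ZMod p)ˣ) (g : V ≃ₗ[ZMod p] V) : scalarHom c * g = g * scalarHom c := by
  ext v
  simp [scalarHom_apply]

/-- Number of planes times the number of bases of a plane. -/
theorem card_planes {n : ℕ} (hn : finrank (ZMod p) V = n) (h2 : 2 ≤ n) :
    Nat.card {W : Submodule (ZMod p) V // finrank (ZMod p) W = 2} * ((p ^ 2 - 1) * (p ^ 2 - p)) =
      (p ^ n - 1) * (p ^ n - p) := by
  classical
  let X := {s : Fin 2 → V // LinearIndependent (ZMod p) s}
  let P := {W : Submodule (ZMod p) V // finrank (ZMod p) W = 2}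
  let f : X → P := fun s => ⟨Submodule.span (ZMod p) (Set.range s.1), by
    rw [finrank_span_eq_card s.2, Fintype.card_fin]⟩
  have hX : Nat.card X = (p ^ n - 1) * (p ^ n - p) := by
    show Nat.card {s : Fin 2 → V // LinearIndependent (ZMod p) s} = _
    rw [card_linearIndependent (hn ▸ h2), hn, ZMod.card, Fin.prod_univ_two]
    simp
  have hfib : ∀ W : P, Nat.card {s : X // f s = W} = (p ^ 2 - 1) * (p ^ 2 - p) := by
    intro W
    let e : {s : X // f s = W} ≃ {s : Fin 2 → W.1 // LinearIndependent (ZMod p) s} :=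
      { toFun := fun s => ⟨fun i => ⟨s.1.1 i, by
            have := congrArg Subtype.val s.2
            exact this ▸ Submodule.subset_span ⟨i, rfl⟩⟩,
          LinearIndependent.of_comp W.1.subtype s.1.2⟩
        invFun := fun t => ⟨⟨fun i => (t.1 i : V), t.2.map' W.1.subtype W.1.ker_subtype⟩,
          Subtype.ext (Submodule.eq_of_le_of_finrank_eq
            (Submodule.span_le.2 (by rintro _ ⟨i, rfl⟩; exact (t.1 i).2)) (by
              rw [W.2]
              show finrank (ZMod p) (Submodule.span (ZMod p)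
                (Set.range fun i => (t.1 i : V))) = 2
              rw [finrank_span_eq_card (R := ZMod p) (M := V) (b := fun i => (t.1 i : V))
                (t.2.map' W.1.subtype W.1.ker_subtype), Fintype.card_fin]))⟩
        left_inv := fun s => rfl
        right_inv := fun t => rfl }
    rw [Nat.card_congr e, card_linearIndependent W.2.ge, W.2, ZMod.card, Fin.prod_univ_two]
    simp
  haveI : Finite (Submodule (ZMod p) V) :=
    Finite.of_injective (fun W => (W : Set V)) SetLike.coe_injective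
  haveI : Fintype P := Fintype.ofFinite _
  rw [← hX, Nat.card_congr (Equiv.sigmaFiberEquiv f).symm, Nat.card_sigma,
    Finset.sum_congr rfl (fun W _ => hfib W), Finset.sum_const, Finset.card_univ,
    smul_eq_mul, ← Nat.card_eq_fintype_card]

/-- The linear group is a divisor of the order of `GL`. -/
theorem card_dvd_GL {n : ℕ} (hn : finrank (ZMod p) V = n) (M : Subgroup (V ≃ₗ[ZMod p] V)) :
    Nat.card M ∣ ∏ i : Fin n, (p ^ n - p ^ (i : ℕ)) := by
  classical
  let b : Basis (Fin n) (ZMod p) V := finBasisOfFinrankEq (ZMod p) V hn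
  have h := Nat.card_congr
    ((LinearMap.GeneralLinearGroup.generalLinearEquiv (ZMod p) V).symm.trans
      (Units.mapEquiv (LinearMap.toMatrixAlgEquiv b).toMulEquiv)).toEquiv
  have h2 := Matrix.card_GL_field (𝔽 := ZMod p) n
  rw [ZMod.card] at h2
  rw [← h2, ← h]
  exact M.card_subgroup_dvd_card

/-- No solvable subgroup of `GL₄(3)` has order divisible by `65`. -/
theorem not_dvd_65 [Fact (Nat.Prime 3)] {W : Type u} [AddCommGroup W] [Module (ZMod 3) W] [Finite W]
    (hn : finrank (ZMod 3) W = 4) (M : Subgroup (W ≃ₗ[ZMod 3] W)) [Group.IsSolvable M] :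
    ¬ 65 ∣ Nat.card M := by
  intro h65
  haveI : Finite (W ≃ₗ[ZMod 3] W) := Finite.of_injective (fun g => (g : W → W))
    DFunLike.coe_injective
  have hGL : Nat.card M ∣ 24261120 := by
    have := card_dvd_GL hn M
    norm_num [Fin.prod_univ_four] at this
    exact this
  obtain ⟨k, hk⟩ := h65
  have hcop : Nat.Coprime 65 k := by
    rw [show (65 : ℕ) = 5 * 13 from rfl]
    refine Nat.Coprime.mul_left ((Nat.prime_five.coprime_iff_not_dvd).2 fun h => ?_)
      (((by norm_num : Nat.Prime 13).coprime_iff_not_dvd).2 fun h => ?_) <;>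
    · have h' := (Nat.mul_dvd_mul_left 65 h).trans (hk ▸ hGL)
      norm_num at h'
  obtain ⟨J, hJ⟩ := CfsgLib.FgsC.HallCount.exists_hall_card (G := M) hk hcop
  haveI : Fact (Nat.Prime 5) := ⟨Nat.prime_five⟩
  haveI : Fact (Nat.Prime 13) := ⟨by norm_num⟩
  haveI : Finite J := inferInstance
  obtain ⟨x, hx⟩ := exists_prime_orderOf_dvd_card' (G := J) 13 (by rw [hJ]; norm_num)
  obtain ⟨y, hy⟩ := exists_prime_orderOf_dvd_card' (G := J) 5 (by rw [hJ]; norm_num)
  have hnorm : ∀ (r : ℕ) [Fact r.Prime], (r = 5 ∨ r = 13) → ∀ P : Sylow r J,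
      (P : Subgroup J).Normal := by
    intro r _ hr P
    have h1 := card_sylow_modEq_one r J
    have h2 : Nat.card (Sylow r J) ∣ 65 := hJ ▸ Sylow.card_eq_index_normalizer P ▸
      Subgroup.index_dvd_card _
    have h3 : Nat.card (Sylow r J) = 1 := by
      have h5 := Sylow.card_dvd_index P
      have hcardP := P.card_eq_multiplicity
      rw [hJ] at hcardP
      have hidx := (P : Subgroup J).card_mul_index
      rw [hJ, hcardP] at hidx
      have hmem : Nat.card (Sylow r J) ∈ Nat.divisors 65 := Nat.mem_divisors.2 ⟨h2, by norm_num⟩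
      rw [show Nat.divisors 65 = {1, 5, 13, 65} by decide] at hmem
      simp only [Finset.mem_insert, Finset.mem_singleton] at hmem
      rcases hr with rfl | rfl <;> rcases hmem with e | e | e | e <;> rw [e] at h1 <;>
        first
        | exact e
        | exact absurd h1 (by decide)
        | (exfalso
           rw [e] at h5
           norm_num [Nat.factorization_mul, Nat.Prime.factorization] at hidx
           have h6 := Nat.mul_dvd_mul_left (r := r) h5
           omega)
    haveI := (Nat.card_eq_one_iff_unique.1 h3).1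
    exact Subgroup.normalizer_eq_top_iff.1
      (Subgroup.index_eq_one.1 ((Sylow.card_eq_index_normalizer P).symm.trans h3))
  obtain ⟨P, hP⟩ := (IsPGroup.of_card (p := 13) (n := 1)
    (G := Subgroup.zpowers x) (by rw [Nat.card_zpowers, hx, pow_one])).exists_le_sylow
  obtain ⟨Q, hQ⟩ := (IsPGroup.of_card (p := 5) (n := 1)
    (G := Subgroup.zpowers y) (by rw [Nat.card_zpowers, hy, pow_one])).exists_le_sylow
  have hxy : Commute x y := Subgroup.commute_of_normal_of_disjoint _ _ (hnorm 13 (Or.inr rfl) P)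
    (hnorm 5 (Or.inl rfl) Q) (IsPGroup.disjoint_of_ne 13 5 (by norm_num) _ _ P.2 Q.2) x y
    (hP (Subgroup.mem_zpowers x)) (hQ (Subgroup.mem_zpowers y))
  set t : W ≃ₗ[ZMod 3] W := ((x : M) : W ≃ₗ[ZMod 3] W) with ht
  set s : W ≃ₗ[ZMod 3] W := ((y : M) : W ≃ₗ[ZMod 3] W) with hs
  have hts : ∀ w, t (s w) = s (t w) := fun w =>
    LinearEquiv.congr_fun (congrArg (fun z : J => ((z : M) : W ≃ₗ[ZMod 3] W)) hxy.eq) w
  have hord : ∀ z : J, orderOf ((z : M) : W ≃ₗ[ZMod 3] W) = orderOf z := fun z => by
    rw [Subgroup.orderOf_coe, Subgroup.orderOf_coe]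
  -- fixed points of an element of prime order
  have hfix : ∀ (r : ℕ) [Fact r.Prime] (g : W ≃ₗ[ZMod 3] W), orderOf g = r →
      ∃ k, k < 4 ∧ Nat.card (LinearMap.eqLocus (g : W →ₗ[ZMod 3] W) LinearMap.id) = 3 ^ k ∧
        3 ^ k % r = 81 % r := by
    intro r _ g hg
    set F := LinearMap.eqLocus (g : W →ₗ[ZMod 3] W) LinearMap.id with hF
    have hcard : Nat.card W = 81 := by
      rw [Module.natCard_eq_pow_finrank (K := ZMod 3), hn, Nat.card_zmod]; norm_num
    refine ⟨finrank (ZMod 3) F, lt_of_le_of_ne (hn ▸ Submodule.finrank_le F) fun h4 => ?_,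
      by rw [Module.natCard_eq_pow_finrank (K := ZMod 3), Nat.card_zmod], ?_⟩
    · have htop : F = ⊤ := Submodule.eq_top_of_finrank_eq (h4.trans hn.symm)
      have : g = 1 := LinearEquiv.ext fun w => by
        have : w ∈ F := htop ▸ Submodule.mem_top
        exact this
      rw [this, orderOf_one] at hg
      exact (Fact.out : r.Prime).one_lt.ne hg
    · have hz : IsPGroup r (Subgroup.zpowers g) :=
        IsPGroup.of_card (n := 1) (by rw [Nat.card_zpowers, hg, pow_one])
      have h1 := hz.card_modEq_card_fixedPoints W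
      have h2 : Nat.card (MulAction.fixedPoints (Subgroup.zpowers g) W) = Nat.card F := by
        refine Nat.card_congr (Equiv.subtypeEquivRight fun w => ⟨fun h => h ⟨g, Subgroup.mem_zpowers g⟩,
          fun h => ?_⟩)
        rintro ⟨z, hz⟩
        have hw : g ∈ MulAction.stabilizer (W ≃ₗ[ZMod 3] W) w := h
        exact Subgroup.zpowers_le.2 hw hz
      rw [h2, hcard, Module.natCard_eq_pow_finrank (K := ZMod 3), Nat.card_zmod] at h1
      exact h1.symm
  obtain ⟨k1, hk1, hc1, hm1⟩ := hfix 13 t ((hord x).trans hx)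
  obtain ⟨k2, hk2, hc2, hm2⟩ := hfix 5 s ((hord y).trans hy)
  obtain rfl : k1 = 1 := by interval_cases k1 <;> simp_all
  obtain rfl : k2 = 0 := by interval_cases k2 <;> simp_all
  set F := LinearMap.eqLocus (t : W →ₗ[ZMod 3] W) LinearMap.id with hF
  obtain ⟨w, hw, hw0⟩ := (Submodule.ne_bot_iff F).1 fun h => by
    rw [h] at hc1; simp at hc1
  have hspan : F = Submodule.span (ZMod 3) {w} := by
    refine (Submodule.eq_of_le_of_finrank_eq ((Submodule.span_singleton_le_iff_mem w F).2 hw) ?_).symm
    rw [finrank_span_singleton hw0]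
    rw [Module.natCard_eq_pow_finrank (K := ZMod 3), Nat.card_zmod] at hc1
    exact (Nat.pow_right_injective (by norm_num) hc1).symm
  have hsw : s w ∈ Submodule.span (ZMod 3) ({w} : Set W) := hspan ▸ (show t (s w) = s w by
    rw [hts, show t w = w from hw])
  obtain ⟨c, hc⟩ := Submodule.mem_span_singleton.1 hsw
  have hit : ∀ i : ℕ, (s ^ i) w = c ^ i • w := fun i => by
    induction i with
    | zero => simp
    | succ i ih => rw [pow_succ, LinearEquiv.mul_apply, ← hc, map_smul, ih, smul_smul, pow_succ']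
  have h5 : c ^ 5 • w = (1 : ZMod 3) • w := by
    rw [← hit 5, one_smul, ← (hord y).trans hy, pow_orderOf_eq_one]; rfl
  have hc5 : c ^ 5 = 1 := smul_left_injective (ZMod 3) hw0 h5
  have hc1' : c = 1 := zmod3_pow5 c hc5
  have : w ∈ LinearMap.eqLocus (s : W →ₗ[ZMod 3] W) LinearMap.id := by
    show s w = w
    rw [← hc, hc1', one_smul]
  rw [pow_zero, Nat.card_eq_one_iff_unique] at hc2
  exact hw0 (congrArg Subtype.val (hc2.1.elim ⟨w, this⟩ 0))

theorem arith {p n : ℕ} (hp : p.Prime) (hn : 3 ≤ n) (h : (p ^ (n - 1) - 1) ∣ n * (p ^ 2 - 1))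
    (h43 : ¬ (p = 3 ∧ n = 4)) : n = 3 ∨ (n = 5 ∧ p = 2) := by
  have h2 := hp.two_le
  have hp2 : 4 ≤ p ^ 2 := by nlinarith
  rcases (show n = 3 ∨ n = 4 ∨ n = 5 ∨ 6 ≤ n by omega) with rfl | rfl | rfl | h6
  · exact Or.inl rfl
  · exfalso
    have hle := Nat.le_of_dvd (by omega) h
    have hp4 : p ≤ 4 := by
      by_contra hlt
      have h1 : 5 * p ^ 2 ≤ p ^ 3 := by
        rw [pow_succ' p 2]; exact Nat.mul_le_mul_right _ (by omega)
      simp only [show 4 - 1 = 3 from rfl] at hle
      omega
    interval_cases p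
    all_goals revert h43 h hp
    all_goals norm_num
  · have hle := Nat.le_of_dvd (by omega) h
    have hp4 : p ≤ 2 := by
      by_contra hlt
      have h1 : 9 * p ^ 2 ≤ p ^ 4 := by
        rw [show p ^ 4 = p ^ 2 * p ^ 2 by ring]; exact Nat.mul_le_mul_right _ (by nlinarith)
      simp only [show 5 - 1 = 4 from rfl] at hle
      omega
    exact Or.inr ⟨rfl, by omega⟩
  · exfalso
    have hle := Nat.le_of_dvd (Nat.mul_pos (by omega) (by omega)) h
    have h1 : ∀ m, 3 ≤ m → m + 4 ≤ 2 ^ m := by
      intro m hm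
      induction m, hm using Nat.le_induction with
      | base => norm_num
      | succ m hm ih => rw [pow_succ]; omega
    have h3 : p ^ 2 * 2 ^ (n - 3) ≤ p ^ (n - 1) := by
      rw [show n - 1 = 2 + (n - 3) by omega, pow_add]
      exact Nat.mul_le_mul_left _ (Nat.pow_le_pow_left h2 _)
    have h4 : p ^ 2 * (n + 1) ≤ p ^ 2 * 2 ^ (n - 3) :=
      Nat.mul_le_mul_left _ (by have := h1 (n - 3) (by omega); omega)
    rw [Nat.mul_sub, Nat.mul_comm n (p ^ 2)] at hle
    rw [Nat.mul_add, Nat.mul_one] at h4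
    omega

theorem small_arith {p n : ℕ} (hp : p.Prime) (h3 : 3 ≤ n)
    (hsmall : p ^ n = 9 ∨ p ^ n = 25 ∨ p ^ n = 49 ∨ p ^ n = 121 ∨ p ^ n = 529 ∨ p ^ n = 81) :
    p = 3 ∧ n = 4 := by
  have hp2 := hp.two_le
  have h529 : p ^ n ≤ 529 := by rcases hsmall with h | h | h | h | h | h <;> omega
  have hp8 : p ≤ 8 := by
    by_contra hlt
    have h1 : p ^ 3 ≤ p ^ n := Nat.pow_le_pow_right (by omega) h3
    have h2 : 9 ^ 3 ≤ p ^ 3 := Nat.pow_le_pow_left (by omega) 3
    omega
  have hn9 : n ≤ 9 := by
    by_contra hlt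
    have h1 : 2 ^ 10 ≤ 2 ^ n := Nat.pow_le_pow_right (by omega) (by omega)
    have h2 : 2 ^ n ≤ p ^ n := Nat.pow_le_pow_left hp2 n
    omega
  interval_cases p <;> interval_cases n <;> first | omega | norm_num at hsmall

theorem card_ringAut' {F : Type} [Field F] [Finite F] [CharP F p] {n : ℕ}
    (hF : Nat.card F = p ^ n) : Nat.card (F ≃+* F) = n := by
  letI : Algebra (ZMod p) F := ZMod.algebra F p
  haveI : Module.Finite (ZMod p) F := Module.Finite.of_finite
  have h1 : Nat.card F = p ^ Module.finrank (ZMod p) F := by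
    rw [Module.natCard_eq_pow_finrank (K := ZMod p), Nat.card_zmod]
  have e : (F ≃+* F) ≃ (F ≃ₐ[ZMod p] F) :=
    { toFun := fun τ => AlgEquiv.ofRingEquiv (f := τ) (fun a => by
        exact RingHom.congr_fun (Subsingleton.elim ((τ : F →+* F).comp (algebraMap (ZMod p) F))
          (algebraMap (ZMod p) F)) a)
      invFun := fun τ => τ.toRingEquiv
      left_inv := fun τ => rfl
      right_inv := fun τ => rfl }
  rw [Nat.card_congr e, IsGalois.card_aut_eq_finrank]
  exact Nat.pow_right_injective (Fact.out : p.Prime).two_le (h1.symm.trans hF)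

/-- The structure theorem. -/
theorem main {L : Type v} [Group L] [Finite L] (hsol : Group.IsSolvable L)
    (ρ : L →* (V ≃ₗ[ZMod p] V)) (hρ : Function.Injective ρ) {n : ℕ}
    (hn : finrank (ZMod p) V = n) (h3 : 3 ≤ n)
    (htr : ∀ W W' : Submodule (ZMod p) V, finrank (ZMod p) W = finrank (ZMod p) W' →
      ∃ l : L, W.map (ρ l : V →ₗ[ZMod p] V) = W') :
    ∃ (e : V ≃+ GaloisField p n) (σ : L →* (GaloisField p n ≃+* GaloisField p n)),
      (∀ l, ∃ a : GaloisField p n, a ≠ 0 ∧ ∀ v, e (ρ l v) = a * σ l (e v)) ∧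
      ((n = 3 ∧ (p = 2 → Nat.card L = 21 ∨ (Nat.card L = 7 ∧ ∀ l, σ l = 1))) ∨
        (n = 5 ∧ p = 2 ∧ Nat.card L = 155)) := by
  classical
  haveI : Finite (V ≃ₗ[ZMod p] V) := Finite.of_injective (fun g => (g : V → V))
    DFunLike.coe_injective
  haveI : Nontrivial V := Module.nontrivial_of_finrank_pos (R := ZMod p) (by omega)
  let ψ : L × (ZMod p)ˣ →* (V ≃ₗ[ZMod p] V) :=
    MonoidHom.noncommCoprod ρ scalarHom fun l c => (scalar_comm c (ρ l)).symm
  set M := ψ.range with hM
  haveI := hsol
  haveI hMsol : Group.IsSolvable M :=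
    Group.isSolvable_of_surjective (f := ψ.rangeRestrict) ψ.rangeRestrict_surjective
  have hρM : ∀ l, ρ l ∈ M := fun l => ⟨(l, 1), by show ρ l * scalarHom 1 = ρ l; rw [map_one, mul_one]⟩
  have hcM : ∀ c, scalarHom c ∈ M := fun c => ⟨(1, c), by show ρ 1 * scalarHom c = scalarHom c; rw [map_one, one_mul]⟩
  -- transitivity on non-zero vectors
  have htrans : ∀ v w : V, v ≠ 0 → w ≠ 0 → ∃ g : M, (g : V ≃ₗ[ZMod p] V) v = w := by
    intro v w hv hw
    obtain ⟨l, hl⟩ := htr (Submodule.span (ZMod p) {v}) (Submodule.span (ZMod p) {w})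
      (by rw [finrank_span_singleton hv, finrank_span_singleton hw])
    rw [Submodule.map_span, Set.image_singleton] at hl
    obtain ⟨c, hc⟩ := Submodule.mem_span_singleton.1 (hl ▸ Submodule.mem_span_singleton_self w)
    have hc0 : c ≠ 0 := fun h => hw (by rw [← hc, h, zero_smul])
    refine ⟨⟨scalarHom (Units.mk0 c hc0) * ρ l, mul_mem (hcM _) (hρM l)⟩, ?_⟩
    show scalarHom (Units.mk0 c hc0) (ρ l v) = w
    rw [scalarHom_apply]
    exact hc
  -- the number of planes
  set P := {W : Submodule (ZMod p) V // finrank (ZMod p) W = 2} with hP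
  letI : MulAction M P :=
    { smul := fun g W => ⟨W.1.map ((g : V ≃ₗ[ZMod p] V) : V →ₗ[ZMod p] V), by
        rw [LinearEquiv.finrank_map_eq]; exact W.2⟩
      one_smul := fun W => Subtype.ext (Submodule.map_id W.1)
      mul_smul := fun g h W => Subtype.ext (Submodule.map_comp _ _ W.1) }
  haveI : MulAction.IsPretransitive M P := ⟨fun W W' => by
    obtain ⟨l, hl⟩ := htr W.1 W'.1 (W.2.trans W'.2.symm)
    exact ⟨⟨ρ l, hρM l⟩, Subtype.ext hl⟩⟩
  have hB : Nat.card P * ((p ^ 2 - 1) * (p ^ 2 - p)) = (p ^ n - 1) * (p ^ n - p) :=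
    card_planes hn (by omega)
  have hPne : Nonempty P := by
    by_contra hne
    rw [not_nonempty_iff] at hne
    rw [Nat.card_of_isEmpty, zero_mul] at hB
    have h1 : p ^ 1 < p ^ n := Nat.pow_lt_pow_right (Fact.out : p.Prime).one_lt (by omega)
    rw [pow_one] at h1
    have := (Fact.out : p.Prime).two_le
    rcases Nat.mul_eq_zero.1 hB.symm with h | h <;> omega
  obtain ⟨W0⟩ := hPne
  have hdiv : Nat.card P * (p - 1) ∣ Nat.card M := by
    rw [← MulAction.index_stabilizer_of_transitive M W0, ← Subgroup.index_mul_card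
      (MulAction.stabilizer M W0)]
    refine Nat.mul_dvd_mul_left _ ?_
    let sc : (ZMod p)ˣ →* MulAction.stabilizer M W0 :=
      { toFun := fun c => ⟨⟨scalarHom c, hcM c⟩, Subtype.ext (by
          show W0.1.map ((scalarHom c : V ≃ₗ[ZMod p] V) : V →ₗ[ZMod p] V) = W0.1
          apply Submodule.eq_of_le_of_finrank_eq
          · rintro _ ⟨v, hv, rfl⟩
            show scalarHom c v ∈ W0.1
            rw [scalarHom_apply]
            exact W0.1.smul_mem _ hv
          · exact LinearEquiv.finrank_map_eq _ _)⟩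
        map_one' := Subtype.ext (Subtype.ext scalarHom.map_one)
        map_mul' := fun a b => Subtype.ext (Subtype.ext (scalarHom.map_mul a b)) }
    have hinj : Function.Injective sc := fun a b h => by
      obtain ⟨v, hv⟩ := exists_ne (0 : V)
      have := LinearEquiv.congr_fun (congrArg (fun z : MulAction.stabilizer M W0 =>
        ((z : M) : V ≃ₗ[ZMod p] V)) h) v
      have h2 : (a : ZMod p) • v = (b : ZMod p) • v := by
        rw [← scalarHom_apply, ← scalarHom_apply]; exact this
      exact Units.ext (smul_left_injective (ZMod p) hv h2)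
    have := Subgroup.card_dvd_of_injective sc hinj
    rwa [Nat.card_units, Nat.card_zmod] at this
  have hcard : Nat.card V = p ^ n := by
    rw [Module.natCard_eq_pow_finrank (K := ZMod p), hn, Nat.card_zmod]
  rcases CfsgLib.Recog.TransLinear.semilinear_or_small
      (R := ({ toFun := fun g => ((g : V ≃ₗ[ZMod p] V) : V →ₗ[ZMod p] V)
               map_one' := rfl
               map_mul' := fun _ _ => rfl } : M →* Module.End (ZMod p) V))
      (fun a b h => Subtype.ext (LinearEquiv.toLinearMap_injective h)) hMsol htrans with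
    ⟨F, _, _, e0, hsl⟩ | hsmall
  · -- the semilinear case
    have hFc : Fintype.card F = p ^ n := by
      rw [← Nat.card_eq_fintype_card, ← Nat.card_congr e0.toEquiv, hcard]
    haveI : NeZero n := ⟨by omega⟩
    haveI : Fintype (GaloisField p n) := Fintype.ofFinite _
    have hGc : Nat.card (GaloisField p n) = p ^ n := GaloisField.card p n (by omega)
    let i : F ≃+* GaloisField p n := FiniteField.ringEquivOfCardEq (by
      rw [hFc, ← hGc, Nat.card_eq_fintype_card])
    let e : V ≃+ GaloisField p n := e0.trans i.toAddEquiv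
    have hsl' : ∀ g : M, ∃ (a : GaloisField p n) (σ : GaloisField p n ≃+* GaloisField p n),
        ∀ v, e ((g : V ≃ₗ[ZMod p] V) v) = a * σ (e v) := fun g => by
      obtain ⟨a, σ, h⟩ := hsl g
      refine ⟨i a, (i.symm.trans σ).trans i, fun v => ?_⟩
      show i (e0 ((g : V ≃ₗ[ZMod p] V) v)) = i a * i (σ (i.symm (i (e0 v))))
      rw [RingEquiv.symm_apply_apply, ← map_mul]
      exact congrArg i (h v)
    choose a σ hσ using hsl'
    have ha : ∀ g, a g ≠ 0 := fun g h => by
      obtain ⟨v, hv⟩ := exists_ne (0 : V)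
      have h1 := hσ g v
      rw [h, zero_mul, EmbeddingLike.map_eq_zero_iff, LinearEquiv.map_eq_zero_iff] at h1
      exact hv h1
    have huniq : ∀ (g : M) (b : GaloisField p n) (τ : GaloisField p n ≃+* GaloisField p n),
        (∀ v, e ((g : V ≃ₗ[ZMod p] V) v) = b * τ (e v)) → b = a g ∧ τ = σ g := by
      intro g b τ h
      have h1 : ∀ x, a g * σ g x = b * τ x := fun x => by
        have := (hσ g (e.symm x)).symm.trans (h (e.symm x))
        rwa [AddEquiv.apply_symm_apply] at this
      have hb : b = a g := by simpa using (h1 1).symm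
      exact ⟨hb, RingEquiv.ext fun x => mul_left_cancel₀ (ha g) (by rw [h1 x, hb])⟩
    have hmul : ∀ g h : M, a (g * h) = a g * σ g (a h) ∧ σ (g * h) = σ g * σ h := fun g h => by
      obtain ⟨h1, h2⟩ := huniq (g * h) (a g * σ g (a h)) (σ g * σ h) fun v => by
        show e ((g : V ≃ₗ[ZMod p] V) ((h : V ≃ₗ[ZMod p] V) v)) = _
        rw [hσ g, hσ h, map_mul, mul_assoc]
        rfl
      exact ⟨h1.symm, h2.symm⟩
    let π : M →* (GaloisField p n ≃+* GaloisField p n) :=
      MonoidHom.mk' σ fun g h => (hmul g h).2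
    let α : π.ker →* (GaloisField p n)ˣ :=
      MonoidHom.mk' (fun g => Units.mk0 (a g.1) (ha g.1)) fun g h => Units.ext (by
        show a (g.1 * h.1) = a g.1 * a h.1
        rw [(hmul g.1 h.1).1, show σ g.1 = 1 from g.2]; rfl)
    have hα : Function.Injective α := fun g h hgh => by
      refine Subtype.ext (Subtype.ext (LinearEquiv.ext fun v => e.injective ?_))
      rw [hσ g.1 v, hσ h.1 v, show a g.1 = a h.1 from congrArg Units.val hgh,
        show σ g.1 = 1 from g.2, show σ h.1 = 1 from h.2]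
    have hMd : Nat.card M ∣ n * (p ^ n - 1) := by
      rw [← π.ker.index_mul_card, Subgroup.index_ker]
      refine Nat.mul_dvd_mul ?_ ?_
      · have h1 := π.range.card_subgroup_dvd_card
        rwa [card_ringAut' hGc] at h1
      · have h1 := Subgroup.card_dvd_of_injective α hα
        rwa [Nat.card_units, hGc] at h1
    have hp2 := (Fact.out : p.Prime).two_le
    -- arithmetic
    have hkey : (p ^ (n - 1) - 1) ∣ n * (p ^ 2 - 1) := by
      have e1 : p ^ n - p = p * (p ^ (n - 1) - 1) := by
        rw [Nat.mul_sub, mul_one, ← pow_succ', show n - 1 + 1 = n by omega]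
      have e2 : p ^ 2 - p = p * (p - 1) := by rw [Nat.mul_sub, mul_one, sq]
      have hb : Nat.card P * (p - 1) * (p ^ 2 - 1) = (p ^ n - 1) * (p ^ (n - 1) - 1) :=
        Nat.eq_of_mul_eq_mul_left (show 0 < p by omega) (by
          rw [e1, e2] at hB
          calc p * (Nat.card P * (p - 1) * (p ^ 2 - 1))
              = Nat.card P * ((p ^ 2 - 1) * (p * (p - 1))) := by ring
            _ = _ := hB
            _ = p * ((p ^ n - 1) * (p ^ (n - 1) - 1)) := by ring)
      have h1 := Nat.mul_dvd_mul_right (hdiv.trans hMd) (p ^ 2 - 1)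
      rw [hb] at h1
      have hpos : 0 < p ^ n - 1 := by
        have := Nat.one_lt_pow (show n ≠ 0 by omega) (show 1 < p by omega); omega
      refine (Nat.mul_dvd_mul_iff_left hpos).1 (h1.trans (dvd_of_eq ?_))
      ring
    have hn3 : n = 3 ∨ (n = 5 ∧ p = 2) := by
      refine arith Fact.out h3 hkey ?_
      rintro ⟨rfl, rfl⟩
      norm_num at hkey
    let σL : L →* (GaloisField p n ≃+* GaloisField p n) :=
      π.comp (ρ.codRestrict M hρM)
    refine ⟨e, σL, fun l => ⟨a ⟨ρ l, hρM l⟩, ha _, fun v => hσ ⟨ρ l, hρM l⟩ v⟩, ?_⟩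
    have hLM : p = 2 → Nat.card L = Nat.card M := fun h2 => by
      refine Nat.card_eq_of_bijective (ρ.codRestrict M hρM)
        ⟨fun x y h => hρ (congrArg Subtype.val h), ?_⟩
      rintro ⟨_, ⟨⟨l, c⟩, rfl⟩⟩
      refine ⟨l, Subtype.ext ?_⟩
      subst h2
      show ρ l = ρ l * scalarHom c
      rw [show c = 1 from Units.ext (zmod2_ne_zero c c.ne_zero),
        map_one, mul_one]
    rcases hn3 with rfl | ⟨rfl, rfl⟩
    · refine Or.inl ⟨rfl, ?_⟩
      intro h2
      subst h2
      norm_num at hB hdiv hMd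
      rw [show Nat.card P = 7 by omega] at hdiv
      have h21 : Nat.card M ∣ 21 := hMd
      rw [hLM rfl]
      have hmem : Nat.card M ∈ Nat.divisors 21 := Nat.mem_divisors.2 ⟨h21, by norm_num⟩
      rw [show Nat.divisors 21 = {1, 3, 7, 21} by decide] at hmem
      simp only [Finset.mem_insert, Finset.mem_singleton] at hmem
      rcases hmem with h | h | h | h
      · rw [h] at hdiv; norm_num at hdiv
      · rw [h] at hdiv; norm_num at hdiv
      · refine Or.inr ⟨h, fun l => orderOf_eq_one_iff.1 ?_⟩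
        refine Nat.eq_one_of_dvd_coprimes (show Nat.Coprime 7 3 by norm_num) ?_ ?_
        · rw [← h, ← hLM rfl]
          exact (orderOf_map_dvd σL l).trans (orderOf_dvd_natCard l)
        · have h3' := card_ringAut' hGc
          exact (orderOf_dvd_natCard (σL l)).trans (dvd_of_eq h3')
      · exact Or.inl h
    · refine Or.inr ⟨rfl, rfl, ?_⟩
      norm_num at hB hdiv hMd
      rw [show Nat.card P = 155 by omega] at hdiv
      rw [hLM rfl]
      exact Nat.dvd_antisymm hMd hdiv
  · -- the exceptional orders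
    exfalso
    rw [hcard] at hsmall
    simp only [Set.mem_insert_iff, Set.mem_singleton_iff] at hsmall
    have hp2 := (Fact.out : p.Prime).two_le
    have hpn : p = 3 ∧ n = 4 := small_arith (Fact.out : p.Prime) h3 hsmall
    obtain ⟨rfl, rfl⟩ := hpn
    norm_num at hB
    rw [show Nat.card P = 130 by omega] at hdiv
    exact not_dvd_65 hn M ((by norm_num : 65 ∣ 130 * (3 - 1)).trans hdiv)

end CfsgLib.SolvStruct.PlaneTransitive
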