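import Mathlib
import Cfsg.Prelude.Def_SolvableStructure

/-!
Finite abelian groups have subgroups of every order dividing the group order.
-/

set_option autoImplicit false

namespace CfsgLib.SolvStruct

universe u

theorem hasSubgroupOfEveryOrder_comm_aux (n : ℕ) : ∀ {A : Type u} [CommGroup A] [Finite A],
    Nat.card A ≤ n → Cfsg.HasSubgroupOfEveryOrder A := by
  induction n with
  | zero =>
    intro A _ _ hA
    exact absurd hA (Nat.not_le.mpr Nat.card_pos)
  | succ n ih =>
    intro A _ _ hA d hd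
    rcases eq_or_ne d 1 with rfl | hd1
    · exact ⟨⊥, Subgroup.card_bot⟩
    obtain ⟨p, hp, hpd⟩ := Nat.exists_prime_and_dvd hd1
    have := Fact.mk hp
    obtain ⟨e, rfl⟩ := hpd
    obtain ⟨x, hx⟩ := exists_prime_orderOf_dvd_card' p ((dvd_mul_right p e).trans hd)
    set N := Subgroup.zpowers x with hN
    have hcN : Nat.card N = p := by rw [hN, Nat.card_zpowers, hx]
    have hcard : Nat.card A = p * Nat.card (A ⧸ N) := by
      rw [← hcN, ← Subgroup.index_eq_card, N.card_mul_index]
    have hlt : Nat.card (A ⧸ N) ≤ n := by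
      have h2 : 2 * Nat.card (A ⧸ N) ≤ Nat.card A := hcard ▸ Nat.mul_le_mul_right _ hp.two_le
      have h3 : 0 < Nat.card (A ⧸ N) := Nat.card_pos
      omega
    obtain ⟨H, hH⟩ := ih hlt e (Nat.dvd_of_mul_dvd_mul_left hp.pos (hcard ▸ hd))
    refine ⟨H.comap (QuotientGroup.mk' N), ?_⟩
    have h := (H.comap (QuotientGroup.mk' N)).card_mul_index
    rw [Subgroup.index_comap_of_surjective _ (QuotientGroup.mk'_surjective N), hcard,
      ← H.card_mul_index, hH, ← mul_assoc] at h
    exact Nat.eq_of_mul_eq_mul_right (Nat.pos_of_ne_zero Subgroup.index_ne_zero_of_finite) h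

theorem hasSubgroupOfEveryOrder_comm {A : Type u} [CommGroup A] [Finite A] :
    Cfsg.HasSubgroupOfEveryOrder A :=
  hasSubgroupOfEveryOrder_comm_aux _ le_rfl

end CfsgLib.SolvStruct
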