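import Cfsg.Agent.Lib.SolvStruct.AbelianConjComplement

/-!
# Solvable groups in which abelian subgroups of equal order are conjugate: the main theorem
-/

set_option autoImplicit false

open scoped Pointwise

namespace CfsgLib.SolvStruct.AbConj

open Subgroup CfsgLib.Base Cfsg

universe u

variable {G : Type u} [Group G]

/-- induction step through a solvable normal subgroup -/
theorem conj_of_quotient [Finite G] {N : Subgroup G} [N.Normal] (hN : Group.IsSolvable N)
    (hQ : Homog (G ⧸ N)) {A B : Subgroup G} (hc : Nat.card A = Nat.card B)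
    (hinf : Nat.card ↥(A ⊓ N) = Nat.card ↥(B ⊓ N))
    (hcase : (Nat.card N).Coprime (Nat.card A) ∨ N ≤ A) :
    ∃ g : G, MulAut.conj g • A = B := by
  set f := QuotientGroup.mk' N with hf
  have hfc : Nat.card ↥(A.map f) = Nat.card ↥(B.map f) := by
    have h1 := card_map_mk'_mul N A
    have h2 := card_map_mk'_mul N B
    rw [← hc, ← hinf] at h2
    exact Nat.eq_of_mul_eq_mul_left Nat.card_pos (h1.trans h2.symm)
  obtain ⟨g', hg⟩ := hQ _ _ hfc
  obtain ⟨g, rfl⟩ := QuotientGroup.mk'_surjective N g'
  rw [CfsgLib.Coprime.conj_smul_map] at hg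
  have hg' := congrArg (Subgroup.comap f) hg
  rw [comap_map_eq, comap_map_eq, hf, QuotientGroup.ker_mk'] at hg'
  rcases hcase with hcop | hle
  · have hcard : Nat.card ↥(MulAut.conj g • A) = Nat.card A := CfsgLib.Coprime.card_conj_smul g A
    obtain ⟨a, -, ha⟩ := CfsgLib.Coprime.sz_conj_rel (N := N) (H := MulAut.conj g • A) (K := B)
      (Subgroup.le_normalizer_of_normal (H := N)) (Subgroup.le_normalizer_of_normal (H := N))
      (by rwa [hcard]) (by rw [hcard, hc])
      (by rw [sup_comm, hg']; exact le_sup_left) (Or.inl hN)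
    exact ⟨a * g, by rw [map_mul, mul_smul]; exact ha⟩
  · refine ⟨g, ?_⟩
    have hNA : N ≤ MulAut.conj g • A := fun x hx => by
      rw [mem_smul_iff]
      refine hle ?_
      simpa using (inferInstance : N.Normal).conj_mem x hx g⁻¹
    have hNB : N ≤ B := by
      rw [inf_eq_right.mpr hle] at hinf
      exact (Subgroup.eq_of_le_of_card_ge inf_le_right hinf.le).ge.trans inf_le_left
    rwa [sup_eq_left.mpr hNA, sup_eq_left.mpr hNB] at hg'

/-- In a group with cyclic Sylow subgroups, subgroups of equal order are conjugate. -/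
theorem homog_of_isZGroup (n : ℕ) : ∀ (G : Type u) [Group G] [Finite G] [IsZGroup G],
    Nat.card G ≤ n → Homog G := by
  induction n with
  | zero =>
    intro G _ _ _ hG
    exact absurd hG (Nat.not_le.mpr Nat.card_pos)
  | succ n ih =>
    intro G _ _ _ hG A B hc
    rcases subsingleton_or_nontrivial G with hs | hs
    · exact ⟨1, Subsingleton.elim _ _⟩
    obtain ⟨N, hN⟩ := exists_isMinimalNormal (G := G)
    haveI := hN.normal
    obtain ⟨p, hp, hNc, hexp, hNp⟩ := hN.exists_prime inferInstance
    haveI := Fact.mk hp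
    haveI : IsCyclic N := IsPGroup.isCyclic_of_isZGroup hNp
    have hNcard : Nat.card N = p := le_antisymm
      (isCyclic_of_exponent_card hp inferInstance hexp)
      (Nat.le_of_dvd Nat.card_pos
        (hNp.card_eq_or_dvd.resolve_left fun h1 => hN.ne_bot (Subgroup.card_eq_one.mp h1)))
    have key : ∀ {C : Subgroup G}, p ∣ Nat.card C → N ≤ C := by
      intro C hC
      obtain ⟨a, ha⟩ := exists_prime_orderOf_dvd_card' p hC
      have hao : orderOf (a : G) = p := by rw [orderOf_coe]; exact ha
      have hpa : IsPGroup p (zpowers (a : G)) :=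
        IsPGroup.of_card (n := 1) (by rw [Nat.card_zpowers, hao, pow_one])
      obtain ⟨P, hP⟩ := hpa.exists_le_sylow
      have heq : zpowers (a : G) = N := CfsgLib.OddOrder.eq_of_card_eq_of_isCyclic
        (C := (P : Subgroup G)) hP (hNp.le_sylow_of_normal P)
        (by rw [Nat.card_zpowers, hao, hNcard])
      rw [← heq]
      exact zpowers_le.mpr a.2
    have hlt : Nat.card (G ⧸ N) ≤ n :=
      Nat.lt_succ_iff.mp ((CfsgLib.Coprime.card_quotient_lt hN.ne_bot).trans_le hG)
    by_cases hp' : p ∣ Nat.card A
    · refine conj_of_quotient inferInstance (ih _ hlt) hc ?_ (Or.inr (key hp'))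
      rw [inf_eq_right.mpr (key hp'), inf_eq_right.mpr (key (hc ▸ hp'))]
    · have hcA : (Nat.card N).Coprime (Nat.card A) := by
        rwa [hNcard, hp.coprime_iff_not_dvd]
      refine conj_of_quotient inferInstance (ih _ hlt) hc ?_ (Or.inl hcA)
      rw [CfsgLib.Coprime.inf_eq_bot_of_coprime hcA.symm,
        CfsgLib.Coprime.inf_eq_bot_of_coprime (hc ▸ hcA.symm)]

/-- the property passes to a complement of an abelian normal subgroup -/
theorem AbConj.complement (h : AbConj G) {F H : Subgroup G} [F.Normal]
    (hsup : F ⊔ H = ⊤) (hinf : F ⊓ H = ⊥) : AbConj H := by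
  intro A B hA hB hc
  have hmap : ∀ {C : Subgroup H}, Comm C → Comm (C.map H.subtype) := by
    rintro C hC _ ⟨a, ha, rfl⟩ _ ⟨b, hb, rfl⟩
    rw [← map_mul, ← map_mul, hC a ha b hb]
  obtain ⟨g, hg⟩ := h (A.map H.subtype) (B.map H.subtype) (hmap hA) (hmap hB)
    (by rw [Subgroup.card_map_of_injective H.subtype_injective,
      Subgroup.card_map_of_injective H.subtype_injective, hc])
  obtain ⟨f, hf, k, hk, rfl⟩ := Subgroup.mem_sup_of_normal_left.mp (hsup.ge (mem_top g))
  refine ⟨⟨k, hk⟩, map_injective H.subtype_injective ?_⟩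
  rw [← CfsgLib.Coprime.conj_smul_map, Subgroup.coe_subtype, ← hg, map_mul, mul_smul]
  have hfix : ∀ a ∈ MulAut.conj k • A.map H.subtype, f * a * f⁻¹ = a := by
    intro a ha
    have haH : a ∈ H := by
      rw [mem_smul_iff] at ha
      have h1 := map_subtype_le A ha
      have := mul_mem (mul_mem hk h1) (inv_mem hk)
      simpa [mul_assoc] using this
    have hb : f * a * f⁻¹ ∈ H := by
      refine map_subtype_le B ?_
      rw [← hg, map_mul, mul_smul, mem_smul_iff]
      simpa [mul_assoc] using ha
    have h1 : f * a * f⁻¹ * a⁻¹ ∈ F ⊓ H := Subgroup.mem_inf.mpr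
      ⟨by simpa [mul_assoc] using mul_mem hf ((inferInstance : F.Normal).conj_mem _ (inv_mem hf) a),
        mul_mem hb (inv_mem haH)⟩
    rw [hinf, mem_bot, mul_inv_eq_one] at h1
    exact h1
  ext x
  constructor
  · intro hx
    rw [mem_smul_iff]
    have := hfix x hx
    have h2 : f⁻¹ * x * f = x := by
      nth_rw 1 [← this]
      group
    rwa [h2]
  · intro hx
    rw [mem_smul_iff] at hx
    have := hfix _ hx
    have h2 : x = f⁻¹ * x * f := by
      nth_rw 1 [← this]
      group
    rw [h2]
    exact hx

theorem pCore_eq_of_isMinimalNormal [Finite G] {p : ℕ} [Fact p.Prime] {N : Subgroup G}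
    [N.Normal] (hN : IsPGroup p N) (hne : N ≠ ⊥) (hidx : (Nat.card N).Coprime N.index) :
    pCore p G = N := by
  haveI := pCore_normal p G
  refine le_antisymm ?_ (le_pCore hN)
  obtain ⟨k, hk⟩ := IsPGroup.iff_card.mp (isPGroup_pCore p G)
  have hp : p ∣ Nat.card N :=
    hN.card_eq_or_dvd.resolve_left fun h1 => hne (Subgroup.card_eq_one.mp h1)
  have h1 : N.relIndex (pCore p G) ∣ N.index := relIndex_dvd_index_of_normal _ _
  have h2 : N.relIndex (pCore p G) ∣ p ^ k := by
    rw [← hk]; exact relIndex_dvd_card N (pCore p G)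
  have h3 : (p ^ k).Coprime N.index := ((hidx.coprime_dvd_left hp)).pow_left k
  exact relIndex_eq_one.mp (Nat.eq_one_of_dvd_coprimes h3 h2 h1)

/-- the case in which every minimal normal subgroup is a Hall subgroup meeting `A` properly -/
theorem bad_case [Finite G] [Group.IsSolvable G] (h : AbConj G) {A B : Subgroup G}
    (hc : Nat.card A = Nat.card B)
    (hmin : ∀ N, IsMinimalNormal N → (Nat.card N).Coprime N.index ∧
      1 < Nat.card ↥(A ⊓ N) ∧ Nat.card ↥(A ⊓ N) < Nat.card N) :
    ∃ g : G, MulAut.conj g • A = B := by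
  haveI := fittingSubgroup_normal' G
  set F := fittingSubgroup G with hF
  have hcore : ∀ (p : ℕ) [Fact p.Prime], pCore p G ≠ ⊥ → IsMinimalNormal (pCore p G) := by
    intro p _ hb
    haveI := pCore_normal p G
    obtain ⟨N, hNle, hN⟩ := exists_isMinimalNormal_le hb
    haveI := hN.normal
    rw [pCore_eq_of_isMinimalNormal ((isPGroup_pCore p G).to_le hNle) hN.ne_bot (hmin N hN).1]
    exact hN
  have hNF : ∀ {N : Subgroup G}, IsMinimalNormal N → N ≤ F := fun {N} hN => by
    haveI := hN.normal
    haveI := hN.isMulCommutative inferInstance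
    exact le_fittingSubgroup_of_isMulCommutative
  have hFc : Comm F := by
    have h1 : F ≤ Subgroup.centralizer (F : Set G) := by
      rw [le_centralizer_iff]
      conv_lhs => rw [hF, fittingSubgroup_eq_iSup_pCore]
      refine iSup_le fun p => ?_
      rw [le_centralizer_iff]
      haveI := Fact.mk p.2
      by_cases hb : pCore (p : ℕ) G = ⊥
      · rw [hb]
        exact fun x _ => mem_centralizer_iff.mpr (by simp)
      · exact (hcore _ hb).fittingSubgroup_le_centralizer
    intro a ha b hb
    exact (mem_centralizer_iff.mp (h1 ha) b hb).symm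
  have hcop : (Nat.card F).Coprime F.index := by
    refine Nat.coprime_of_dvd fun p hp hpF hpi => ?_
    haveI := Fact.mk hp
    obtain ⟨x, hx⟩ := exists_prime_orderOf_dvd_card' p hpF
    have hxp : IsPGroup p (zpowers (x : G)) :=
      IsPGroup.of_card (n := 1) (by rw [Nat.card_zpowers, orderOf_coe, hx, pow_one])
    have hle := le_pCore_of_le_fitting hxp (zpowers_le.mpr x.2)
    have hne : pCore p G ≠ ⊥ := fun hb => by
      rw [hb, le_bot_iff, zpowers_eq_bot] at hle
      rw [← orderOf_coe, hle, orderOf_one] at hx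
      exact hp.one_lt.ne hx
    have hp1 : p ∣ Nat.card (pCore p G) :=
      (isPGroup_pCore p G).card_eq_or_dvd.resolve_left fun h1 => hne (Subgroup.card_eq_one.mp h1)
    exact hp.ne_one (Nat.eq_one_of_dvd_coprimes (hmin _ (hcore p hne)).1 hp1
      (hpi.trans (index_dvd_of_le (hNF (hcore p hne)))))
  obtain ⟨H, hH⟩ := Subgroup.exists_right_complement'_of_coprime (N := F) hcop
  have hinf : F ⊓ H = ⊥ := hH.disjoint.eq_bot
  have hcfg : Config H := by
    refine ⟨h, h.complement hH.sup_eq_top hinf, fun g => ?_, fun k hk hcen => ?_⟩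
    · obtain ⟨f, hf, k, hk, rfl⟩ := Subgroup.mem_sup_of_normal_left.mp (hH.sup_eq_top.ge (mem_top g))
      refine ⟨k, hk, fun N hN x hx => ?_⟩
      haveI := hN.normal
      have hx' : k * x * k⁻¹ ∈ F := hNF hN ((inferInstance : N.Normal).conj_mem x hx k)
      calc f * k * x * (f * k)⁻¹ = f * (k * x * k⁻¹) * f⁻¹ := by group
        _ = k * x * k⁻¹ := by rw [hFc f hf _ hx', mul_inv_cancel_right]
    · have hkC : k ∈ Subgroup.centralizer (F : Set G) := by
        have h1 : F ≤ Subgroup.centralizer ({k} : Set G) := by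
          rw [hF, fittingSubgroup_eq_iSup_pCore]
          refine iSup_le fun p => ?_
          haveI := Fact.mk p.2
          intro x hx
          rw [mem_centralizer_iff]
          rintro _ rfl
          by_cases hb : pCore (p : ℕ) G = ⊥
          · rw [hb, mem_bot] at hx; simp [hx]
          · exact hcen _ (hcore _ hb) x hx
        exact mem_centralizer_iff.mpr fun x hx => (mem_centralizer_iff.mp (h1 hx) k rfl).symm
      have hkF : k ∈ F ⊓ H := ⟨centralizer_fittingSubgroup_le hkC, hk⟩
      rwa [hinf, mem_bot] at hkF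
  have hgcd := fun C : Subgroup G => card_inf_eq_gcd F C hcop
  obtain ⟨g₀, hg₀⟩ := h (A ⊓ F) (B ⊓ F) (hFc.mono inf_le_right) (hFc.mono inf_le_right)
    (by rw [hgcd A, hgcd B, hc])
  set A₀ := MulAut.conj g₀ • A with hA₀
  have hA₀F : A₀ ⊓ F = B ⊓ F := by
    rw [hA₀, ← hg₀, Subgroup.smul_inf]
    congr 1
    exact (CfsgLib.Coprime.conj_smul_eq_self_of_mem_normalizer
      (by rw [normalizer_eq_top]; exact mem_top g₀)).symm
  set U := B ⊓ F with hU
  have hFnU : F ≤ Subgroup.normalizer (U : Set G) := by
    refine le_trans (fun f hf => mem_centralizer_iff.mpr fun x hx => ?_) (centralizer_le_normalizer _)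
    exact hFc x hx.2 f hf
  -- a complement of `U` in each of the two groups, inside `H`
  have hlift : ∀ C : Subgroup G, C ⊓ F = U → ∃ a ∈ F, ∃ D : Subgroup G,
      D ≤ H ⊓ Subgroup.normalizer (U : Set G) ∧ MulAut.conj a • C = U ⊔ D ∧
        Nat.card D * Nat.card U = Nat.card C := by
    intro C hC
    have hUC : U ≤ C := hC ▸ inf_le_left
    have hCU : C ≤ Subgroup.normalizer (U : Set G) := by
      intro c hcC
      rw [mem_normalizer_iff]
      intro x
      rw [← hC, mem_inf, mem_inf]
      refine and_congr ?_ ?_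
      · rw [Subgroup.mul_mem_cancel_right _ (inv_mem hcC), Subgroup.mul_mem_cancel_left _ hcC]
      · exact ⟨fun hx => (inferInstance : F.Normal).conj_mem x hx c, fun hx => by
          simpa [mul_assoc] using (inferInstance : F.Normal).conj_mem _ hx c⁻¹⟩
    haveI : (U.subgroupOf C).Normal := normal_subgroupOf_of_le_normalizer hCU
    have hidx : (U.subgroupOf C).index ∣ F.index := by
      rw [← relIndex, ← hC, inf_comm C F, inf_relIndex_right]
      exact relIndex_dvd_index_of_normal F C
    have hcU : Nat.card (U.subgroupOf C) = Nat.card U :=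
      Nat.card_congr (subgroupOfEquivOfLe hUC).toEquiv
    have hUF : Nat.card U ∣ Nat.card F := card_dvd_of_le inf_le_right
    obtain ⟨D, hD⟩ := Subgroup.exists_right_complement'_of_coprime (N := U.subgroupOf C)
      (by rw [hcU]; exact (hcop.coprime_dvd_left hUF).coprime_dvd_right hidx)
    have hcD : Nat.card ↥(D.map C.subtype) = (U.subgroupOf C).index := by
      rw [Subgroup.card_map_of_injective C.subtype_injective, hD.symm.index_eq_card]
    have hcopF : (Nat.card F).Coprime (Nat.card H) := by
      rwa [← hH.symm.index_eq_card]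
    obtain ⟨a, ha, haD⟩ := CfsgLib.Coprime.sz_conj_le (N := F) (H := H) (U := D.map C.subtype)
      (Subgroup.le_normalizer_of_normal (H := F)) (hH.sup_eq_top ▸ le_top) hcopF
      (by rw [hcD]; exact hcop.coprime_dvd_right hidx) (Or.inl inferInstance)
    have haU : MulAut.conj a • U = U :=
      CfsgLib.Coprime.conj_smul_eq_self_of_mem_normalizer (hFnU ha)
    refine ⟨a, ha, MulAut.conj a • D.map C.subtype, le_inf haD ?_, ?_, ?_⟩
    · intro x hx
      rw [mem_smul_iff] at hx
      have h1 := hCU (map_subtype_le D hx)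
      have := mul_mem (mul_mem (hFnU ha) h1) (inv_mem (hFnU ha))
      simpa [mul_assoc] using this
    · have h1 : U ⊔ D.map C.subtype = C := by
        conv_rhs => rw [← range_subtype C, MonoidHom.range_eq_map, ← hD.sup_eq_top,
          Subgroup.map_sup, map_subgroupOf_eq_of_le hUC]
      conv_lhs => rw [← h1]
      rw [Subgroup.smul_sup, haU]
    · rw [CfsgLib.Coprime.card_conj_smul, hcD, ← hcU, mul_comm, Subgroup.card_mul_index]
  obtain ⟨a, ha, D, hD, hAD, hcA⟩ := hlift A₀ hA₀F
  obtain ⟨b, hb, E, hE, hBE, hcB⟩ := hlift B rfl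
  have hDE : Nat.card D = Nat.card E := by
    refine Nat.eq_of_mul_eq_mul_right (Nat.card_pos (α := U)) ?_
    rw [hcA, hcB, hA₀, CfsgLib.Coprime.card_conj_smul, hc]
  set M := (Subgroup.normalizer (U : Set G)).subgroupOf H with hM
  haveI : IsZGroup M := hcfg.isCyclic_normalizer_sylow fun N hN => by
    have hUN : U ⊓ N = B ⊓ N := by rw [hU, inf_assoc, inf_eq_right.mpr (hNF hN)]
    haveI := hN.normal
    obtain ⟨hco, h1, h2⟩ := hmin N hN
    rw [hUN, card_inf_eq_gcd N B hco, ← hc, ← card_inf_eq_gcd N A hco]
    exact ⟨h1, h2⟩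
  have hMle : ∀ {X : Subgroup G}, X ≤ H ⊓ Subgroup.normalizer (U : Set G) →
      ((X.subgroupOf H).subgroupOf M).map (H.subtype.comp M.subtype) = X := by
    intro X hX
    have h1 : X.subgroupOf H ≤ M := fun x hx => (hX hx).2
    rw [← Subgroup.map_map, map_subgroupOf_eq_of_le h1,
      map_subgroupOf_eq_of_le (hX.trans inf_le_left)]
  have hcX : ∀ {X : Subgroup G}, X ≤ H ⊓ Subgroup.normalizer (U : Set G) →
      Nat.card ((X.subgroupOf H).subgroupOf M) = Nat.card X := fun {X} hX => by
    conv_rhs => rw [← hMle hX]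
    exact (Subgroup.card_map_of_injective (f := H.subtype.comp M.subtype)
      (fun a b hab => M.subtype_injective (H.subtype_injective hab))).symm
  obtain ⟨m, hm⟩ := homog_of_isZGroup _ M le_rfl ((D.subgroupOf H).subgroupOf M)
    ((E.subgroupOf H).subgroupOf M) (by rw [hcX hD, hcX hE, hDE])
  have hm' := CfsgLib.Coprime.conj_smul_map (H.subtype.comp M.subtype) m
    ((D.subgroupOf H).subgroupOf M)
  rw [hm, hMle hD, hMle hE] at hm'
  have hmU : MulAut.conj (H.subtype.comp M.subtype m) • U = U :=
    CfsgLib.Coprime.conj_smul_eq_self_of_mem_normalizer m.2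
  refine ⟨b⁻¹ * (H.subtype.comp M.subtype m) * a * g₀, ?_⟩
  rw [map_mul, map_mul, map_mul, mul_smul, mul_smul, mul_smul, ← hA₀, hAD, Subgroup.smul_sup,
    hmU, hm', ← hBE, ← mul_smul, ← map_mul, inv_mul_cancel, map_one, one_smul]

/-- **Abelian subgroups of equal order conjugate implies all such subgroups conjugate**, in finite
solvable groups. -/
theorem homog_of_abConj (n : ℕ) : ∀ (G : Type u) [Group G] [Finite G] [Group.IsSolvable G],
    Nat.card G ≤ n → AbConj G → Homog G := by
  induction n with
  | zero =>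
    intro G _ _ _ hG
    exact absurd hG (Nat.not_le.mpr Nat.card_pos)
  | succ n ih =>
    intro G _ _ _ hG h A B hc
    rcases subsingleton_or_nontrivial G with hs | hs
    · exact ⟨1, Subsingleton.elim _ _⟩
    -- the minimal normal subgroups
    have key : ∀ N, IsMinimalNormal N → (∃ g : G, MulAut.conj g • A = B) ∨
        ((Nat.card N).Coprime N.index ∧
          1 < Nat.card ↥(A ⊓ N) ∧ Nat.card ↥(A ⊓ N) < Nat.card N) := by
      intro N hN
      haveI := hN.normal
      obtain ⟨r, hr, hNc, hexp, hNr⟩ := hN.exists_prime inferInstance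
      haveI := Fact.mk hr
      obtain ⟨z, hz⟩ := exists_prime_orderOf_dvd_card' r
        (hNr.card_eq_or_dvd.resolve_left fun h1 => hN.ne_bot (Subgroup.card_eq_one.mp h1))
      have hzo : orderOf (z : G) = r := by rw [orderOf_coe]; exact hz
      have hlt : Nat.card (G ⧸ N) ≤ n :=
        Nat.lt_succ_iff.mp ((CfsgLib.Coprime.card_quotient_lt hN.ne_bot).trans_le hG)
      by_cases hcard : Nat.card N = r
      · left
        have hQ := ih _ hlt (h.quotient N hNr (Or.inr hcard))
        have key' : ∀ {C : Subgroup G}, r ∣ Nat.card C → N ≤ C := by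
          intro C hC
          obtain ⟨a, ha⟩ := exists_prime_orderOf_dvd_card' r hC
          have hao : orderOf (a : G) = r := by rw [orderOf_coe]; exact ha
          have haN : (a : G) ∈ N := h.mem_of_normal (hao.trans hzo.symm) z.2
          have heq : zpowers (a : G) = N := Subgroup.eq_of_le_of_card_ge (zpowers_le.mpr haN)
            (by rw [Nat.card_zpowers, hao, hcard])
          rw [← heq]
          exact zpowers_le.mpr a.2
        by_cases hr' : r ∣ Nat.card A
        · refine conj_of_quotient inferInstance hQ hc ?_ (Or.inr (key' hr'))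
          rw [inf_eq_right.mpr (key' hr'), inf_eq_right.mpr (key' (hc ▸ hr'))]
        · have hcA : (Nat.card N).Coprime (Nat.card A) := by
            rwa [hcard, hr.coprime_iff_not_dvd]
          refine conj_of_quotient inferInstance hQ hc ?_ (Or.inl hcA)
          rw [CfsgLib.Coprime.inf_eq_bot_of_coprime hcA.symm,
            CfsgLib.Coprime.inf_eq_bot_of_coprime (hc ▸ hcA.symm)]
      -- `N` is a Sylow subgroup
      obtain ⟨P, hP⟩ := hNr.exists_le_sylow
      have hPN : (P : Subgroup G) = N := by
        refine le_antisymm ?_ hP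
        have hNle : r < Nat.card N := lt_of_le_of_ne (by
          rw [← hz]; exact Nat.le_of_dvd Nat.card_pos (orderOf_dvd_natCard z)) (Ne.symm hcard)
        have hncyc : ¬ IsCyclic N := fun hcy => by
          have := isCyclic_of_exponent_card hr hcy hexp
          omega
        rcases h.sylowShape P with hcy | ⟨hPexp, -⟩ | ⟨rfl, hQ⟩
        · exact absurd (isCyclic_of_injective (Subgroup.inclusion hP) (inclusion_injective hP)) hncyc
        · intro x hx
          by_cases hx1 : x = 1
          · rw [hx1]; exact one_mem N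
          exact h.mem_of_normal ((orderOf_eq_prime (hPexp x hx) hx1).trans hzo.symm) z.2
        · exfalso
          rcases hQ.isCyclic_or_eq hP with hcy | he
          · exact hncyc hcy
          · obtain ⟨x, hx, hx4⟩ := hQ.exists_four
            have := orderOf_dvd_of_pow_eq_one (hexp x (he ▸ hx))
            rw [hx4] at this
            norm_num at this
      have hco : (Nat.card N).Coprime N.index := by
        rw [← hPN]
        exact P.card_coprime_index
      have hQ := ih _ hlt (h.quotient N hNr (Or.inl hco))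
      have hinf : Nat.card ↥(A ⊓ N) = Nat.card ↥(B ⊓ N) := by
        rw [card_inf_eq_gcd N A hco, card_inf_eq_gcd N B hco, hc]
      by_cases h1 : 1 < Nat.card ↥(A ⊓ N)
      swap
      · left
        refine conj_of_quotient inferInstance hQ hc hinf (Or.inl ?_)
        rw [card_inf_eq_gcd N A hco] at h1
        have h0 : 0 < Nat.gcd (Nat.card A) (Nat.card N) := Nat.gcd_pos_of_pos_left _ Nat.card_pos
        show Nat.gcd (Nat.card N) (Nat.card A) = 1
        rw [Nat.gcd_comm]
        omega
      rcases (card_le_of_le (inf_le_right : A ⊓ N ≤ N)).lt_or_eq with h2 | h2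
      · exact Or.inr ⟨hco, h1, h2⟩
      · left
        refine conj_of_quotient inferInstance hQ hc hinf (Or.inr ?_)
        exact (Subgroup.eq_of_le_of_card_ge inf_le_right h2.ge).ge.trans inf_le_left
    by_contra hcon
    exact hcon (bad_case h hc fun N hN => (key N hN).resolve_left hcon)

end CfsgLib.SolvStruct.AbConj
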