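import Cfsg.Agent.Lib.Base.MinimalNormal
import Cfsg.Agent.Lib.Base.Cores
import Cfsg.Agent.Lib.Coprime.Hall
import Cfsg.Agent.Lib.PGroups.UniqueOrderP

/-!
# Solvable groups in which abelian subgroups of equal order are conjugate: Sylow subgroups
-/

set_option autoImplicit false

open scoped Pointwise

namespace CfsgLib.SolvStruct.AbConj

open Subgroup

universe u

variable {G : Type u} [Group G]

/-- elementwise commutativity -/
def Comm (A : Subgroup G) : Prop := ∀ a ∈ A, ∀ b ∈ A, a * b = b * a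

/-- any two abelian subgroups of the same order are conjugate -/
def AbConj (G : Type u) [Group G] : Prop :=
  ∀ A B : Subgroup G, Comm A → Comm B → Nat.card A = Nat.card B → ∃ g : G, MulAut.conj g • A = B

/-- any two subgroups of the same order are conjugate -/
def Homog (G : Type u) [Group G] : Prop :=
  ∀ A B : Subgroup G, Nat.card A = Nat.card B → ∃ g : G, MulAut.conj g • A = B

theorem mem_smul_iff {g x : G} {H : Subgroup G} :
    x ∈ MulAut.conj g • H ↔ g⁻¹ * x * g ∈ H := by
  rw [Subgroup.mem_pointwise_smul_iff_inv_smul_mem, ← map_inv, MulAut.smul_def,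
    MulAut.conj_apply, inv_inv]

theorem comm_zpowers (x : G) : Comm (zpowers x) := by
  intro a ha b hb
  obtain ⟨i, rfl⟩ := mem_zpowers_iff.mp ha
  obtain ⟨j, rfl⟩ := mem_zpowers_iff.mp hb
  rw [← zpow_add, ← zpow_add, add_comm]

theorem Comm.mono {A B : Subgroup G} (h : Comm B) (hle : A ≤ B) : Comm A :=
  fun a ha b hb => h a (hle ha) b (hle hb)

theorem comm_of_isMulCommutative {A : Subgroup G} (h : IsMulCommutative A) : Comm A :=
  fun a ha b hb => congrArg Subtype.val (h.is_comm.comm ⟨a, ha⟩ ⟨b, hb⟩)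

theorem isMulCommutative_of_comm {A : Subgroup G} (h : Comm A) : IsMulCommutative A :=
  ⟨⟨fun a b => Subtype.ext (h a a.2 b b.2)⟩⟩

/-- two elements of the same order generate conjugate subgroups -/
theorem AbConj.conj_zpowers (h : AbConj G) {x y : G} (hxy : orderOf x = orderOf y) :
    ∃ (g : G) (i : ℤ), g * x * g⁻¹ = y ^ i := by
  obtain ⟨g, hg⟩ := h _ _ (comm_zpowers x) (comm_zpowers y)
    (by rw [Nat.card_zpowers, Nat.card_zpowers, hxy])
  have : g * x * g⁻¹ ∈ zpowers y := by
    rw [← hg, mem_smul_iff]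
    simp [mul_assoc]
  obtain ⟨i, hi⟩ := mem_zpowers_iff.mp this
  exact ⟨g, i, hi.symm⟩

theorem AbConj.mem_of_normal (h : AbConj G) {K : Subgroup G} [hK : K.Normal] {x y : G}
    (hxy : orderOf x = orderOf y) (hy : y ∈ K) : x ∈ K := by
  obtain ⟨g, i, hi⟩ := h.conj_zpowers hxy
  have := hK.conj_mem _ (hi.symm ▸ K.zpow_mem hy i : g * x * g⁻¹ ∈ K) g⁻¹
  simpa [mul_assoc] using this

theorem exists_orderOf_pow_eq {x : G} {p : ℕ} (hp : p.Prime) {k j : ℕ} (hx : orderOf x = p ^ k)
    (hj : j ≤ k) : orderOf (x ^ p ^ (k - j)) = p ^ j := by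
  rw [orderOf_pow' _ (pow_ne_zero _ hp.ne_zero), hx,
    Nat.gcd_eq_right (pow_dvd_pow p (Nat.sub_le k j)), Nat.pow_div (Nat.sub_le k j) hp.pos,
    show k - (k - j) = j by omega]

/-- A normal subgroup of coprime order and index meets a subgroup in a Hall subgroup. -/
theorem card_inf_eq_gcd [Finite G] (N A : Subgroup G) [N.Normal]
    (h : (Nat.card N).Coprime N.index) :
    Nat.card ↥(A ⊓ N) = Nat.gcd (Nat.card A) (Nat.card N) := by
  set d := Nat.card ↥(A ⊓ N) with hd
  have h1 : d * N.relIndex A = Nat.card A := by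
    rw [hd, ← inf_relIndex_right N A, inf_comm N A, ← relIndex_bot_left, ← relIndex_bot_left,
      relIndex_mul_relIndex _ _ _ bot_le inf_le_left]
  have hdiv : N.relIndex A ∣ N.index := relIndex_dvd_index_of_normal N A
  have hcop : (N.relIndex A).Coprime (Nat.card N) :=
    (Nat.Coprime.coprime_dvd_right hdiv h).symm
  have hdN : d ∣ Nat.card N := card_dvd_of_le inf_le_right
  rw [← h1, Nat.Coprime.gcd_mul_right_cancel d hcop, Nat.gcd_eq_left hdN]

theorem card_map_mk'_mul [Finite G] (N A : Subgroup G) [N.Normal] :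
    Nat.card ↥(A ⊓ N) * Nat.card ↥(A.map (QuotientGroup.mk' N)) = Nat.card A := by
  rw [CfsgLib.Coprime.card_map_mk', ← inf_relIndex_right N A, inf_comm N A, ← relIndex_bot_left,
    ← relIndex_bot_left, relIndex_mul_relIndex _ _ _ bot_le inf_le_left]

theorem index_mk' (N : Subgroup G) [N.Normal] : N.index = Nat.card (G ⧸ N) :=
  Subgroup.index_eq_card N

/-- a `2`-group with a unique involution, of order `8`, not cyclic -/
structure QEight (P : Subgroup G) : Prop where
  card : Nat.card P = 8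
  not_cyclic : ¬ IsCyclic P
  uniq : ∀ x ∈ P, ∀ y ∈ P, orderOf x = 2 → orderOf y = 2 → x = y

theorem QEight.orderOf_eq [Finite G] {P : Subgroup G} (hP : QEight P) {x : G} (hx : x ∈ P) :
    x = 1 ∨ orderOf x = 2 ∨ orderOf x = 4 := by
  have h8 : orderOf x ∣ 2 ^ 3 := by
    have := orderOf_dvd_natCard (⟨x, hx⟩ : P)
    rw [orderOf_mk, hP.card] at this
    exact this
  obtain ⟨k, hk, hk'⟩ := (Nat.dvd_prime_pow Nat.prime_two).mp h8
  interval_cases k
  · left; simpa using hk'
  · right; left; simpa using hk'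
  · right; right; simpa using hk'
  · exact absurd (isCyclic_of_orderOf_eq_card (⟨x, hx⟩ : P)
      (by rw [orderOf_mk, hP.card, hk']; norm_num)) hP.not_cyclic

/-- an element of order four and an element outside its cyclic subgroup generate -/
theorem QEight.eq_of_le [Finite G] {P H : Subgroup G} (hP : QEight P) (hH : H ≤ P) {x w : G}
    (hx : x ∈ H) (hx4 : orderOf x = 4) (hw : w ∈ H) (hwx : w ∉ zpowers x) : H = P := by
  refine eq_of_le_of_card_ge hH ?_
  have hlt : zpowers x < H := lt_of_le_of_ne (zpowers_le.mpr hx) fun h => hwx (h ▸ hw)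
  obtain ⟨k, hk⟩ := card_dvd_of_le hlt.le
  have hd := card_dvd_of_le hH
  rw [Nat.card_zpowers, hx4] at hk
  rw [hP.card] at hd ⊢
  have h2 : k ≠ 1 := by
    rintro rfl
    exact hlt.ne (eq_of_le_of_card_ge hlt.le (by rw [hk, Nat.card_zpowers, hx4]))
  have h0 : 0 < Nat.card H := Nat.card_pos
  omega

theorem QEight.exists_four [Finite G] {P : Subgroup G} (hP : QEight P) :
    ∃ x ∈ P, orderOf x = 4 := by
  by_contra h
  push Not at h
  have hsub : ∀ x ∈ P, x = 1 ∨ orderOf x = 2 := fun x hx => by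
    rcases hP.orderOf_eq hx with h1 | h1 | h1
    · exact Or.inl h1
    · exact Or.inr h1
    · exact absurd h1 (h x hx)
  by_cases hb : ∃ t ∈ P, orderOf t = 2
  · obtain ⟨t, ht, ht2⟩ := hb
    have hle : P ≤ zpowers t := fun x hx => (hsub x hx).elim (fun h => h ▸ one_mem _)
      fun h => hP.uniq x hx t ht h ht2 ▸ mem_zpowers t
    have := card_le_of_le hle
    rw [Nat.card_zpowers, ht2, hP.card] at this
    omega
  · push Not at hb
    have hle : P ≤ ⊥ := fun x hx => (hsub x hx).elim (fun h => h ▸ one_mem _)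
      fun h => absurd h (hb x hx)
    have := card_le_of_le hle
    rw [Subgroup.card_bot, hP.card] at this
    omega

/-- shape of a Sylow subgroup -/
def SylowShape (p : ℕ) (P : Subgroup G) : Prop :=
  IsCyclic P ∨ ((∀ x ∈ P, x ^ p = 1) ∧ Comm P) ∨ (p = 2 ∧ QEight P)

theorem orderOf_dvd_of_mem_map {N : Subgroup G} [N.Normal] {x : G} :
    orderOf (QuotientGroup.mk' N x) ∣ orderOf x :=
  orderOf_map_dvd _ x

theorem isCyclic_of_exponent_card {p : ℕ} (hp : p.Prime) {A : Subgroup G} [Finite G]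
    (h : IsCyclic A) (hexp : ∀ x ∈ A, x ^ p = 1) : Nat.card A ≤ p := by
  obtain ⟨g, hg⟩ := IsCyclic.exists_ofOrder_eq_natCard (α := A)
  rw [← hg, ← Subgroup.orderOf_coe]
  exact Nat.le_of_dvd hp.pos (orderOf_dvd_of_pow_eq_one (hexp _ g.2))

theorem AbConj.no_quaternion [Finite G] [Group.IsSolvable G] (h : AbConj G) (P : Sylow 2 G)
    {n : ℕ} (hn : 2 ≤ n) (e : ↥(P : Subgroup G) ≃* QuaternionGroup (2 ^ n)) : False := by
  haveI : Fact (Nat.Prime 2) := ⟨Nat.prime_two⟩
  haveI : NeZero (2 ^ n) := ⟨pow_ne_zero _ two_ne_zero⟩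
  haveI := Cfsg.pPrimeCore_normal 2 G
  set K := Cfsg.pPrimeCore 2 G with hK
  have hKodd : ¬ 2 ∣ Nat.card K := CfsgLib.Base.not_dvd_card_pPrimeCore 2 G
  set f := QuotientGroup.mk' K with hf
  have hinjP : ∀ x ∈ (P : Subgroup G), f x = 1 → x = 1 := by
    intro x hx hfx
    have hxK : x ∈ K := by
      rw [← QuotientGroup.ker_mk' K]; exact hfx
    obtain ⟨k, hk⟩ := IsPGroup.iff_orderOf.mp P.isPGroup' ⟨x, hx⟩
    rw [orderOf_mk] at hk
    rcases Nat.eq_zero_or_pos k with rfl | hk0
    · simpa using hk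
    exact absurd ((hk ▸ dvd_pow_self 2 hk0.ne' : 2 ∣ orderOf x).trans
      (orderOf_mk x hxK ▸ orderOf_dvd_natCard (⟨x, hxK⟩ : K))) hKodd
  have hcardP : Nat.card (P : Subgroup G) = 4 * 2 ^ n := by
    rw [Nat.card_congr e.toEquiv, Nat.card_eq_fintype_card, QuaternionGroup.card]
  have h4n : 4 ≤ 2 ^ n :=
    le_trans (by norm_num) (Nat.pow_le_pow_right (by norm_num : 0 < 2) hn)
  haveI : Nontrivial (G ⧸ K) := by
    have hP1 : 1 < Nat.card (P : Subgroup G) := by rw [hcardP]; omega
    have : Nontrivial (P : Subgroup G) := Finite.one_lt_card_iff_nontrivial.mp hP1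
    obtain ⟨x, hx⟩ := exists_ne (1 : (P : Subgroup G))
    exact ⟨⟨f x, 1, fun hfx => hx (Subtype.ext (hinjP _ x.2 hfx))⟩⟩
  have hK' : Cfsg.pPrimeCore 2 (G ⧸ K) = ⊥ := CfsgLib.Base.pPrimeCore_quotient_pPrimeCore 2 G
  haveI := Cfsg.pCore_normal 2 (G ⧸ K)
  set T := Cfsg.pCore 2 (G ⧸ K) with hT
  have hCT := CfsgLib.Base.centralizer_pCore_le_of_isSolvable hK'
  -- the inverse image of `T`
  set L := T.comap f with hL
  haveI : L.Normal := Subgroup.Normal.comap inferInstance f
  have hPgen : ∀ i, orderOf ((e.symm (QuaternionGroup.xa i) : ↥(P : Subgroup G)) : G) = 4 := by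
    intro i; rw [orderOf_coe, MulEquiv.orderOf_eq, QuaternionGroup.orderOf_xa]
  by_cases h4 : ∃ x ∈ L, orderOf x = 4
  swap
  · -- then `T` has order two and is central
    push Not at h4
    obtain ⟨S⟩ : Nonempty (Sylow 2 L) := inferInstance
    obtain ⟨P', hP'⟩ := (S.isPGroup'.map L.subtype).exists_le_sylow
    obtain ⟨g, hg⟩ := MulAction.exists_smul_eq G P' P
    have hTsub : ∀ x ∈ T, x = 1 ∨ orderOf x = 2 ∧
        x = f (g⁻¹ * ((e.symm (QuaternionGroup.a ((2 ^ n : ℕ) : ZMod (2 * 2 ^ n))) :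
          ↥(P : Subgroup G)) : G) * g) := by
      intro x hx
      -- lift `x` to a `2`-element of `L`
      have hsur : (S : Subgroup L).map (f.comp L.subtype) = T := by
        refine Subgroup.eq_of_le_of_card_ge ?_ ?_
        · rintro _ ⟨y, -, rfl⟩; exact y.2
        · have hTL : L.map f = T := Subgroup.map_comap_eq_self_of_surjective
            (QuotientGroup.mk'_surjective K) T
          have hcL : Nat.card K * Nat.card T = Nat.card L := by
            rw [← hTL, CfsgLib.Coprime.card_map_mk', ← relIndex_bot_left, ← relIndex_bot_left,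
              relIndex_mul_relIndex _ _ _ bot_le (fun k hk => by
                show f k ∈ T
                have : f k = 1 := by rw [hf]; exact (QuotientGroup.eq_one_iff k).mpr hk
                rw [this]; exact one_mem T)]
          obtain ⟨k, hk⟩ := IsPGroup.iff_card.mp (CfsgLib.Base.isPGroup_pCore 2 (G ⧸ K))
          have hS : Nat.card S = 2 ^ k := by
            rw [Sylow.card_eq_multiplicity, ← hcL, hk,
              Nat.factorization_mul Nat.card_pos.ne' (pow_ne_zero _ two_ne_zero), Finsupp.add_apply,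
              Nat.factorization_eq_zero_of_not_dvd hKodd, zero_add,
              Nat.Prime.factorization_pow Nat.prime_two, Finsupp.single_eq_same]
          rw [show (S : Subgroup L).map (f.comp L.subtype) =
            ((S : Subgroup L).map L.subtype).map f from (Subgroup.map_map _ _ _).symm]
          have hinj : Nat.card ↥(((S : Subgroup L).map L.subtype).map f) = Nat.card S := by
            rw [CfsgLib.Coprime.card_map_mk', ← inf_relIndex_right]
            have hb : K ⊓ (S : Subgroup L).map L.subtype = ⊥ :=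
              CfsgLib.Coprime.inf_eq_bot_of_coprime (by
                rw [Subgroup.card_map_of_injective L.subtype_injective, hS]
                exact (Nat.Coprime.pow_right k
                  ((Nat.prime_two.coprime_iff_not_dvd.mpr hKodd).symm)))
            rw [hb, relIndex_bot_left, Subgroup.card_map_of_injective L.subtype_injective]
          rw [hinj, hS]
          exact hk.le
      obtain ⟨y, hyS, rfl⟩ : x ∈ (S : Subgroup L).map (f.comp L.subtype) := hsur.symm ▸ hx
      by_cases hy1 : (y : G) = 1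
      · left; show f (y : G) = 1; rw [hy1, map_one]
      have hyP : g * (y : G) * g⁻¹ ∈ (P : Subgroup G) := by
        rw [← hg, Sylow.coe_subgroup_smul, mem_smul_iff]
        simpa [mul_assoc] using hP' (Subgroup.mem_map_of_mem _ hyS)
      obtain ⟨k, hk⟩ := IsPGroup.iff_orderOf.mp S.isPGroup' ⟨y, hyS⟩
      rw [orderOf_mk, ← Subgroup.orderOf_coe] at hk
      have hk1 : k = 1 := by
        by_contra hk1
        rcases Nat.eq_zero_or_pos k with rfl | hk0
        · exact hy1 (by simpa using hk)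
        exact h4 _ (L.pow_mem y.2 (2 ^ (k - 2)))
          (by rw [exists_orderOf_pow_eq Nat.prime_two hk (j := 2) (by omega)]; norm_num)
      subst hk1
      rw [pow_one] at hk
      have hw : e.symm (QuaternionGroup.a ((2 ^ n : ℕ) : ZMod (2 * 2 ^ n))) =
          ⟨g * (y : G) * g⁻¹, hyP⟩ := by
        apply e.injective
        rw [e.apply_symm_apply]
        have ho : orderOf (e ⟨g * (y : G) * g⁻¹, hyP⟩) = 2 := by
          rw [MulEquiv.orderOf_eq, orderOf_mk, ← MulAut.conj_apply, MulEquiv.orderOf_eq, hk]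
        rcases hq : e ⟨g * (y : G) * g⁻¹, hyP⟩ with i | i
        · rw [hq] at ho
          rw [QuaternionGroup.orderOf_a] at ho
          have hival : i.val = 2 ^ n := by
            have hlt := ZMod.val_lt i
            have hd : Nat.gcd (2 * 2 ^ n) i.val ∣ 2 * 2 ^ n := Nat.gcd_dvd_left _ _
            have hg2 : Nat.gcd (2 * 2 ^ n) i.val = 2 ^ n := by
              obtain ⟨c, hc⟩ := hd
              have hc0 : 0 < Nat.gcd (2 * 2 ^ n) i.val := Nat.gcd_pos_of_pos_left _ (by omega)
              rw [Nat.div_eq_of_eq_mul_right hc0 hc] at ho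
              subst ho; omega
            have h3 := Nat.gcd_dvd_right (2 * 2 ^ n) i.val
            rw [hg2] at h3
            obtain ⟨c, hc⟩ := h3
            rcases Nat.lt_or_ge c 2 with hc2 | hc2
            · interval_cases c
              · exfalso; rw [hc, mul_zero, Nat.gcd_zero_right] at hg2; omega
              · omega
            · have : 2 * 2 ^ n ≤ 2 ^ n * c := by
                rw [mul_comm 2]; exact Nat.mul_le_mul_left _ hc2
              omega
          exact congrArg QuaternionGroup.a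
            ((congrArg Nat.cast hival).symm.trans (ZMod.natCast_zmod_val i))
        · rw [hq, QuaternionGroup.orderOf_xa] at ho
          omega
      right
      constructor
      · have hne : f (y : G) ≠ 1 := fun hfy => by
          have hK1 : (y : G) ∈ K := by rw [← QuotientGroup.ker_mk' K]; exact hfy
          exact hKodd (hk ▸ orderOf_mk (y : G) hK1 ▸ orderOf_dvd_natCard (⟨(y : G), hK1⟩ : K))
        refine orderOf_eq_prime ?_ hne
        show f (y : G) ^ 2 = 1
        rw [← map_pow, ← hk, pow_orderOf_eq_one, map_one]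
      · show f (y : G) = _
        rw [hw]; congr 1; group
    obtain ⟨t, ht, ht1⟩ : ∃ t ∈ T, t ≠ 1 := by
      have : T ≠ ⊥ := fun hb => by
        have : (⊤ : Subgroup (G ⧸ K)) ≤ ⊥ := fun w _ => hb ▸ hCT (by
          rw [mem_centralizer_iff]
          intro a ha
          rw [SetLike.mem_coe, ← hT, hb, mem_bot] at ha
          simp [ha])
        exact bot_ne_top (le_antisymm bot_le this)
      simpa [Subgroup.eq_bot_iff_forall] using this
    have hcen : ∀ w : G ⧸ K, w ∈ T := fun w => hCT (by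
      rw [mem_centralizer_iff]
      intro a ha
      rcases hTsub a ha with rfl | ⟨-, hae⟩
      · simp
      · have hwt := (inferInstance : T.Normal).conj_mem a ha w
        rcases hTsub _ hwt with h1 | ⟨-, h1⟩
        · rw [mul_inv_eq_one] at h1
          rw [mul_eq_left.mp h1]; simp
        · rw [← hae, mul_inv_eq_iff_eq_mul] at h1
          exact h1.symm)
    have hall : ∀ x ∈ (P : Subgroup G), orderOf x ∣ 2 := by
      intro x hx
      refine orderOf_dvd_of_pow_eq_one (hinjP _ (pow_mem hx 2) ?_)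
      rw [map_pow]
      rcases hTsub _ (hcen (f x)) with h1 | ⟨h1, -⟩
      · rw [h1, one_pow]
      · rw [← h1, pow_orderOf_eq_one]
    have := hall _ (e.symm (QuaternionGroup.xa 0)).2
    rw [hPgen] at this
    norm_num at this
  · obtain ⟨x₀, hx₀, hx₀4⟩ := h4
    have hxa : ∀ i, ((e.symm (QuaternionGroup.xa i) : ↥(P : Subgroup G)) : G) ∈ L :=
      fun i => h.mem_of_normal (by rw [hPgen, hx₀4]) hx₀
    have hPL : (P : Subgroup G) ≤ L := by
      intro x hx
      rcases hq : e ⟨x, hx⟩ with i | i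
      · have he : e ⟨x, hx⟩ = QuaternionGroup.xa 0 * QuaternionGroup.xa (i + ((2 ^ n : ℕ) : ZMod (2 * 2 ^ n))) := by
          rw [hq, QuaternionGroup.xa_mul_xa]
          congr 1
          have h2 : ((2 ^ n : ℕ) : ZMod (2 * 2 ^ n)) + ((2 ^ n : ℕ) : ZMod (2 * 2 ^ n)) = 0 := by
            rw [← Nat.cast_add, ← two_mul, ZMod.natCast_self]
          rw [sub_zero, add_left_comm, h2, add_zero]
        have := congrArg (fun y => ((e.symm y : ↥(P : Subgroup G)) : G)) he
        simp only [e.symm_apply_apply, map_mul, Subgroup.coe_mul] at this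
        rw [this]
        exact mul_mem (hxa _) (hxa _)
      · have : x = ((e.symm (QuaternionGroup.xa i) : ↥(P : Subgroup G)) : G) := by
          rw [← hq, e.symm_apply_apply]
        rw [this]; exact hxa i
    -- conjugate `a^(2^(n-1))` to `xa 0`
    set u := ((e.symm (QuaternionGroup.a ((2 ^ (n - 1) : ℕ) : ZMod (2 * 2 ^ n))) :
      ↥(P : Subgroup G)) : G) with hu
    set a₁ := ((e.symm (QuaternionGroup.a 1) : ↥(P : Subgroup G)) : G) with ha₁
    have hu_pow : u = a₁ ^ (2 ^ (n - 1)) := by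
      rw [hu, ha₁, ← Subgroup.coe_pow, ← map_pow, QuaternionGroup.a_one_pow]
    have ha₁o : orderOf a₁ = 2 * 2 ^ n := by
      rw [ha₁, orderOf_coe, MulEquiv.orderOf_eq, QuaternionGroup.orderOf_a_one]
    have huo : orderOf u = 4 := by
      have h5 := exists_orderOf_pow_eq (x := a₁) Nat.prime_two (k := n + 1) (j := 2)
        (by rw [ha₁o, pow_succ']) (by omega)
      rw [show n + 1 - 2 = n - 1 by omega] at h5
      rw [hu_pow, h5]
      norm_num
    obtain ⟨g, i, hgi⟩ := h.conj_zpowers (y := ((e.symm (QuaternionGroup.xa 0) :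
      ↥(P : Subgroup G)) : G)) (huo.trans (hPgen 0).symm)
    -- `f g` normalises the image of `P`
    have hTP : T = (P : Subgroup G).map f := by
      refine le_antisymm ?_ ?_
      · have hPT : (P : Subgroup G).map f ≤ T := by
          rintro _ ⟨x, hx, rfl⟩; exact hPL hx
        have hpg := CfsgLib.Base.isPGroup_pCore 2 (G ⧸ K)
        have := (P.mapSurjective (QuotientGroup.mk'_surjective K)).is_maximal' hpg hPT
        exact le_of_eq this
      · rintro _ ⟨x, hx, rfl⟩; exact hPL hx
    have hy : f (g * a₁ * g⁻¹) ∈ T := by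
      rw [map_mul, map_mul, map_inv]
      exact (inferInstance : T.Normal).conj_mem _ (hTP ▸ mem_map_of_mem _ (SetLike.coe_mem _)) _
    rw [hTP] at hy
    obtain ⟨b, hb, hbf⟩ := hy
    have hb1 : b ^ 2 ^ (n - 1) =
        ((e.symm (QuaternionGroup.xa 0) : ↥(P : Subgroup G)) : G) ^ i := by
      have hmem : b ^ 2 ^ (n - 1) *
          (((e.symm (QuaternionGroup.xa 0) : ↥(P : Subgroup G)) : G) ^ i)⁻¹ ∈ (P : Subgroup G) :=
        mul_mem (pow_mem hb _) (inv_mem (zpow_mem (SetLike.coe_mem _) _))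
      have := hinjP _ hmem (by
        rw [map_mul, map_pow, hbf, ← map_pow, conj_pow, ← hu_pow, hgi, map_inv, mul_inv_cancel])
      exact mul_inv_eq_one.mp this
    -- `i` is odd
    have hxi : ((e.symm (QuaternionGroup.xa 0) : ↥(P : Subgroup G)) : G) ^ i =
        g * u * g⁻¹ := hgi.symm
    have hbo : orderOf (b ^ 2 ^ (n - 1)) = 4 := by
      rw [hb1, hxi, ← MulAut.conj_apply, MulEquiv.orderOf_eq, huo]
    obtain ⟨j, hj⟩ : ∃ j, e ⟨b, hb⟩ = QuaternionGroup.a j := by
      rcases hq : e ⟨b, hb⟩ with j | j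
      · exact ⟨j, rfl⟩
      · exfalso
        have hb4 : orderOf b = 4 := by
          have := QuaternionGroup.orderOf_xa (n := 2 ^ n) j
          rw [← hq, MulEquiv.orderOf_eq, orderOf_mk] at this
          exact this
        have h2 : orderOf (b ^ 2 ^ (n - 1)) ∣ 2 := by
          refine orderOf_dvd_of_pow_eq_one ?_
          rw [← pow_mul, ← orderOf_dvd_iff_pow_eq_one, hb4, show n - 1 = n - 2 + 1 by omega,
            pow_succ, mul_assoc]
          exact dvd_mul_left 4 _
        rw [hbo] at h2; norm_num at h2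
    -- so `xa 0 ^ i` is a power of `a 1`
    have e1 : (QuaternionGroup.xa 0 : QuaternionGroup (2 ^ n)) ^ i =
        (QuaternionGroup.a j) ^ 2 ^ (n - 1) := by
      rw [← hj, ← map_pow, ← e.apply_symm_apply (QuaternionGroup.xa 0), ← map_zpow]
      congr 1
      exact Subtype.ext (by rw [Subgroup.coe_zpow, Subgroup.coe_pow]; exact hb1.symm)
    have hodd : Odd i := by
      by_contra hev
      rw [Int.not_odd_iff_even] at hev
      obtain ⟨m, hm⟩ := hev
      have h2 : orderOf (b ^ 2 ^ (n - 1)) ∣ 2 := by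
        refine orderOf_dvd_of_pow_eq_one ?_
        rw [hb1, ← zpow_natCast, ← zpow_mul, ← orderOf_dvd_iff_zpow_eq_one, hPgen, hm]
        exact ⟨m, by push_cast; ring⟩
      rw [hbo] at h2; norm_num at h2
    obtain ⟨m, hm⟩ := hodd
    obtain ⟨c, hc⟩ : ∃ c : ZMod (2 * 2 ^ n),
        (QuaternionGroup.xa 0 : QuaternionGroup (2 ^ n)) ^ i = QuaternionGroup.xa c := by
      have hev : ∀ k : ℤ, ∃ c : ZMod (2 * 2 ^ n),
          ((QuaternionGroup.xa 0 : QuaternionGroup (2 ^ n)) ^ 2) ^ k = QuaternionGroup.a c := by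
        intro k
        have h4' : ((QuaternionGroup.xa 0 : QuaternionGroup (2 ^ n)) ^ 2) ^ 2 = 1 := by
          rw [← pow_mul, show 2 * 2 = orderOf (QuaternionGroup.xa 0 : QuaternionGroup (2 ^ n)) by
            rw [QuaternionGroup.orderOf_xa], pow_orderOf_eq_one]
        rcases Int.even_or_odd k with ⟨l, rfl⟩ | ⟨l, rfl⟩
        · refine ⟨0, ?_⟩
          rw [← two_mul, zpow_mul, zpow_ofNat, h4', one_zpow]
          rfl
        · refine ⟨(2 ^ n : ℕ), ?_⟩
          rw [zpow_add, zpow_mul, zpow_ofNat, h4', one_zpow, one_mul, zpow_one, pow_two,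
            QuaternionGroup.xa_mul_xa]
          simp
      obtain ⟨c, hc⟩ := hev m
      refine ⟨-c + 0, ?_⟩
      rw [hm, zpow_add, zpow_mul, zpow_ofNat, hc, zpow_one, QuaternionGroup.a_mul_xa]
      congr 1; ring
    have hpa : ∀ k : ℕ, ∃ c : ZMod (2 * 2 ^ n),
        (QuaternionGroup.a j : QuaternionGroup (2 ^ n)) ^ k = QuaternionGroup.a c := by
      intro k
      induction k with
      | zero => exact ⟨0, rfl⟩
      | succ k ih =>
        obtain ⟨c, hc⟩ := ih
        exact ⟨c + j, by rw [pow_succ, hc, QuaternionGroup.a_mul_a]⟩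
    obtain ⟨c', hc'⟩ := hpa (2 ^ (n - 1))
    rw [hc, hc'] at e1
    exact nomatch e1

/-- Sylow subgroups of a solvable group with conjugate abelian subgroups of equal order. -/
theorem AbConj.sylowShape [Finite G] [Group.IsSolvable G] (h : AbConj G) {p : ℕ} [hp : Fact p.Prime]
    (P : Sylow p G) : SylowShape p (P : Subgroup G) := by
  rcases subsingleton_or_nontrivial (P : Subgroup G) with hs | hnt
  · exact Or.inl inferInstance
  haveI hZnt : Nontrivial (Subgroup.center (P : Subgroup G)) := P.isPGroup'.center_nontrivial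
  obtain ⟨z, hz⟩ := exists_prime_orderOf_dvd_card' p
    (CfsgLib.PGroups.dvd_card_of_ne_bot P.isPGroup'
      (H := Subgroup.center (P : Subgroup G)) ((Subgroup.nontrivial_iff_ne_bot _).1 hZnt))
  have hzo : orderOf (z : ↥(P : Subgroup G)) = p := by rw [orderOf_coe]; exact hz
  have hzp : (z : ↥(P : Subgroup G)) ^ p = 1 := orderOf_dvd_iff_pow_eq_one.mp hzo.dvd
  by_cases huniq : ∀ y : ↥(P : Subgroup G), y ^ p = 1 → y ∈ zpowers (z : ↥(P : Subgroup G))
  · rcases CfsgLib.PGroups.isCyclic_or_quaternion_of_unique P.isPGroup'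
      hzp huniq with hc | ⟨rfl, n, hn, ⟨e⟩⟩
    · exact Or.inl hc
    rcases Nat.lt_or_ge n 2 with hn2 | hn2
    swap
    · exact absurd (h.no_quaternion P hn2 e) not_false
    obtain rfl : n = 1 := by omega
    refine Or.inr (Or.inr ⟨rfl, ⟨?_, ?_, ?_⟩⟩)
    · rw [Nat.card_congr e.toEquiv, Nat.card_eq_fintype_card, QuaternionGroup.card]; rfl
    · intro hc
      have hcomm : ∀ a b : QuaternionGroup (2 ^ 1), a * b = b * a := by
        intro a b
        obtain ⟨g, hg⟩ := hc.exists_generator
        obtain ⟨i, hi⟩ := mem_zpowers_iff.mp (hg (e.symm a))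
        obtain ⟨k, hk⟩ := mem_zpowers_iff.mp (hg (e.symm b))
        have : e.symm a * e.symm b = e.symm b * e.symm a := by
          rw [← hi, ← hk, ← zpow_add, ← zpow_add, add_comm]
        simpa using congrArg e this
      have := hcomm (.a 1) (.xa 0)
      rw [QuaternionGroup.a_mul_xa, QuaternionGroup.xa_mul_a] at this
      injection this with h'
      exact absurd h' (by decide)
    · intro x hx y hy hx2 hy2
      have hm : ∀ w (hw : w ∈ (P : Subgroup G)), orderOf w = 2 →
          w = ((z : ↥(P : Subgroup G)) : G) := by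
        intro w hw hw2
        have hmem := huniq ⟨w, hw⟩ (Subtype.ext (by
          show w ^ 2 = 1
          exact orderOf_dvd_iff_pow_eq_one.mp hw2.dvd))
        obtain ⟨i, hi⟩ := mem_zpowers_iff.mp hmem
        rcases Int.even_or_odd i with ⟨l, rfl⟩ | ⟨l, rfl⟩
        · exfalso
          rw [← two_mul, zpow_mul, zpow_ofNat, hzp, one_zpow] at hi
          have : w = 1 := (congrArg Subtype.val hi).symm
          rw [this, orderOf_one] at hw2; omega
        · rw [zpow_add, zpow_mul, zpow_ofNat, hzp, one_zpow, one_mul,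
            zpow_one] at hi
          exact (congrArg Subtype.val hi).symm
      rw [hm x hx hx2, hm y hy hy2]
  -- two subgroups of order p
  push Not at huniq
  obtain ⟨y, hy, hyz⟩ := huniq
  have hy1 : y ≠ 1 := fun h1 => hyz (h1 ▸ one_mem _)
  set Z := zpowers (z : ↥(P : Subgroup G)) with hZdef
  set E := (Z ⊔ zpowers y).map (P : Subgroup G).subtype with hEdef
  have hzc : ∀ w : ↥(P : Subgroup G), w * (z : ↥(P : Subgroup G)) = z * w :=
    fun w => Subgroup.mem_center_iff.mp z.2 w
  have hnZ : zpowers y ≤ Subgroup.normalizer (Z : Set ↥(P : Subgroup G)) := by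
    intro w _
    rw [mem_normalizer_iff]
    intro v
    constructor <;> intro hv <;> obtain ⟨i, hi⟩ := mem_zpowers_iff.mp hv
    · rw [← hi, (Commute.zpow_right (hzc w) i).eq, mul_inv_cancel_right]
      exact mem_zpowers_iff.mpr ⟨i, rfl⟩
    · refine mem_zpowers_iff.mpr ⟨i, ?_⟩
      have := congrArg (fun u => w⁻¹ * u * w) hi
      simp only [mul_assoc, inv_mul_cancel, mul_one, inv_mul_cancel_left] at this
      rw [← this, ← (Commute.zpow_right (hzc w) i).eq, inv_mul_cancel_left]
  have hyo : orderOf y = p := orderOf_eq_prime hy hy1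
  have hinf : zpowers y ⊓ Z = ⊥ := by
    by_contra hb
    have hd := card_dvd_of_le (inf_le_left : zpowers y ⊓ Z ≤ zpowers y)
    rw [Nat.card_zpowers, hyo] at hd
    rcases (Nat.dvd_prime hp.out).mp hd with h1 | h1
    · exact hb (card_eq_one.mp h1)
    · have := eq_of_le_of_card_ge (inf_le_left : zpowers y ⊓ Z ≤ zpowers y)
        (by rw [Nat.card_zpowers, hyo, h1])
      exact hyz ((this ▸ inf_le_right : zpowers y ≤ Z) (mem_zpowers y))
  have hEcard : Nat.card E = p ^ 2 := by
    rw [hEdef, Subgroup.card_map_of_injective (P : Subgroup G).subtype_injective, sup_comm,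
      CfsgLib.Coprime.card_sup_of_inf_eq_bot hnZ hinf, Nat.card_zpowers, hyo, hZdef,
      Nat.card_zpowers, hzo, pow_two]
  have hEmem : ∀ x ∈ E, ∃ i k : ℤ, x = ((y ^ i * (z : ↥(P : Subgroup G)) ^ k : ↥(P : Subgroup G)) : G) := by
    rintro _ ⟨w, hw, rfl⟩
    rw [sup_comm, SetLike.mem_coe, CfsgLib.Coprime.mem_sup_iff_of_le_normalizer hnZ] at hw
    obtain ⟨a, ha, b, hb, rfl⟩ := hw
    obtain ⟨i, rfl⟩ := mem_zpowers_iff.mp ha
    obtain ⟨k, rfl⟩ := mem_zpowers_iff.mp hb
    exact ⟨i, k, rfl⟩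
  have hyzc : Commute y (z : ↥(P : Subgroup G)) := hzc y
  have hEexp : ∀ x ∈ E, x ^ p = 1 := by
    intro x hx
    obtain ⟨i, k, rfl⟩ := hEmem x hx
    rw [← Subgroup.coe_pow, (hyzc.zpow_zpow i k).mul_pow, ← zpow_natCast, ← zpow_natCast,
      ← zpow_mul, ← zpow_mul, mul_comm i, mul_comm k, zpow_mul, zpow_mul, zpow_natCast,
      zpow_natCast, hy, hzp, one_zpow, one_zpow, mul_one]
    rfl
  have hEcomm : Comm E := by
    intro a ha b hb
    obtain ⟨i, k, rfl⟩ := hEmem a ha
    obtain ⟨i', k', rfl⟩ := hEmem b hb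
    rw [← Subgroup.coe_mul, ← Subgroup.coe_mul]
    congr 1
    exact ((((Commute.refl y).zpow_zpow i i').mul_right (hyzc.zpow_zpow i k')).mul_left
      ((hyzc.symm.zpow_zpow k i').mul_right ((Commute.refl _).zpow_zpow k k'))).eq
  have hnoP2 : ∀ x : G, orderOf x ≠ p ^ 2 := by
    intro x hx
    obtain ⟨g, hg⟩ := h E (zpowers x) hEcomm (comm_zpowers x) (by rw [hEcard, Nat.card_zpowers, hx])
    have hxE : g⁻¹ * x * g ∈ E := mem_smul_iff.mp (hg ▸ mem_zpowers x)
    have hd : orderOf (g⁻¹ * x * g) ∣ p := orderOf_dvd_of_pow_eq_one (hEexp _ hxE)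
    rw [show g⁻¹ * x * g = MulAut.conj g⁻¹ x by rw [MulAut.conj_apply, inv_inv],
      MulEquiv.orderOf_eq, hx] at hd
    have := Nat.le_of_dvd hp.out.pos hd
    have h2 := hp.out.two_le
    nlinarith
  have hexp : ∀ x ∈ (P : Subgroup G), x ^ p = 1 := by
    intro x hx
    obtain ⟨k, hk⟩ := IsPGroup.iff_orderOf.mp P.isPGroup' ⟨x, hx⟩
    rw [orderOf_mk] at hk
    rcases Nat.lt_or_ge k 2 with hk2 | hk2
    · interval_cases k
      · rw [pow_zero, orderOf_eq_one_iff] at hk; rw [hk, one_pow]
      · rw [← pow_one p, ← hk, pow_orderOf_eq_one]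
    · exact absurd (exists_orderOf_pow_eq hp.out hk hk2) (hnoP2 _)
  -- commutative
  refine Or.inr (Or.inl ⟨hexp, ?_⟩)
  haveI := Cfsg.pPrimeCore_normal p G
  set K := Cfsg.pPrimeCore p G with hK
  have hKp : ¬ p ∣ Nat.card K := CfsgLib.Base.not_dvd_card_pPrimeCore p G
  have hPK : ∀ x ∈ (P : Subgroup G), x ∈ K → x = 1 := by
    intro x hx hxK
    by_contra hx1
    exact hKp (orderOf_eq_prime (hexp x hx) hx1 ▸
      orderOf_mk x hxK ▸ orderOf_dvd_natCard (⟨x, hxK⟩ : K))
  haveI : Nontrivial (G ⧸ K) :=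
    ⟨⟨QuotientGroup.mk' K ((y : ↥(P : Subgroup G)) : G), 1, fun h1 =>
      hy1 (Subtype.ext (hPK _ y.2 ((QuotientGroup.eq_one_iff _).mp h1)))⟩⟩
  obtain ⟨M, hM⟩ := CfsgLib.Base.exists_isMinimalNormal (G := G ⧸ K)
  obtain ⟨q, hq, hMc, -, hMq⟩ := hM.exists_prime inferInstance
  haveI := hM.normal
  obtain rfl : q = p := by
    by_contra hqp
    haveI := Fact.mk hq
    have hnd : ¬ p ∣ Nat.card M := by
      obtain ⟨k, hk⟩ := IsPGroup.iff_card.mp hMq
      rw [hk]
      exact fun hd => hqp ((Nat.prime_dvd_prime_iff_eq hp.out hq).mp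
        (hp.out.dvd_of_dvd_pow hd)).symm
    have hle := CfsgLib.Base.le_pPrimeCore_of_not_dvd (p := p) hnd
    rw [CfsgLib.Base.pPrimeCore_quotient_pPrimeCore p G, le_bot_iff] at hle
    exact hM.ne_bot hle
  haveI : (M.comap (QuotientGroup.mk' K)).Normal := Subgroup.Normal.comap inferInstance _
  obtain ⟨m, hm⟩ : ∃ m : ↥(M.comap (QuotientGroup.mk' K)), orderOf m = q := by
    refine exists_prime_orderOf_dvd_card' q ?_
    have h1 : q ∣ Nat.card M :=
      hMq.card_eq_or_dvd.resolve_left fun h1 => hM.ne_bot (Subgroup.card_eq_one.mp h1)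
    refine h1.trans ?_
    conv_lhs => rw [← Subgroup.map_comap_eq_self_of_surjective (QuotientGroup.mk'_surjective K) M]
    exact Subgroup.card_map_dvd _ _
  have hPM : ∀ x ∈ (P : Subgroup G), QuotientGroup.mk' K x ∈ M := by
    intro x hx
    by_cases hx1 : x = 1
    · rw [hx1, map_one]; exact one_mem M
    exact h.mem_of_normal (K := M.comap (QuotientGroup.mk' K))
      (by rw [orderOf_eq_prime (hexp x hx) hx1, orderOf_coe, hm]) m.2
  intro a ha b hb
  have hab : a * b * a⁻¹ * b⁻¹ = 1 := by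
    refine hPK _ (mul_mem (mul_mem (mul_mem ha hb) (inv_mem ha)) (inv_mem hb)) ?_
    rw [← QuotientGroup.ker_mk' K, MonoidHom.mem_ker, map_mul, map_mul, map_mul, map_inv, map_inv]
    rw [comm_of_isMulCommutative hMc _ (hPM a ha) _ (hPM b hb), mul_inv_cancel_right,
      mul_inv_cancel]
  rwa [mul_inv_eq_one, mul_inv_eq_iff_eq_mul] at hab

end CfsgLib.SolvStruct.AbConj
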