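import Cfsg.Agent.Lib.SolvStruct.AbelianConjQuotient
import Cfsg.Agent.Lib.Base.FPF

/-!
# Solvable groups in which abelian subgroups of equal order are conjugate: the complement of the
socle
-/

set_option autoImplicit false

open scoped Pointwise commutatorElement

namespace CfsgLib.SolvStruct.AbConj

open Subgroup CfsgLib.Base Cfsg

universe u

variable {G : Type u} [Group G]

/-- inner automorphisms act on a cyclic normal subgroup through an abelian group -/
theorem commutator_le_centralizer_of_isCyclic (C : Subgroup G) [hn : C.Normal] (hc : IsCyclic C) :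
    commutator G ≤ Subgroup.centralizer (C : Set G) := by
  rw [commutator_def, commutator_le]
  intro a _ b _
  obtain ⟨⟨c, hcC⟩, hgen⟩ := hc.exists_generator
  have hpow : ∀ y ∈ C, ∃ i : ℤ, y = c ^ i := fun y hy => by
    obtain ⟨i, hi⟩ := mem_zpowers_iff.mp (hgen ⟨y, hy⟩)
    exact ⟨i, (congrArg Subtype.val hi).symm⟩
  have hconj : ∀ u : G, ∃ k : ℤ, u * c * u⁻¹ = c ^ k := fun u =>
    hpow _ (hn.conj_mem c hcC u)
  obtain ⟨k, hk⟩ := hconj a⁻¹
  obtain ⟨l, hl⟩ := hconj b⁻¹
  have h1 : (a⁻¹ * b⁻¹) * c * (a⁻¹ * b⁻¹)⁻¹ = c ^ (k * l) := by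
    rw [zpow_mul, ← hk, conj_zpow, ← hl]
    group
  have h2 : (b⁻¹ * a⁻¹) * c * (b⁻¹ * a⁻¹)⁻¹ = c ^ (k * l) := by
    rw [mul_comm k l, zpow_mul, ← hl, conj_zpow, ← hk]
    group
  rw [mem_centralizer_iff]
  intro y hy
  obtain ⟨i, rfl⟩ := hpow y hy
  have h3 : Commute ⁅a, b⁆ c := by
    have h4 := h1.trans h2.symm
    rw [commutatorElement_def]
    show a * b * a⁻¹ * b⁻¹ * c = c * (a * b * a⁻¹ * b⁻¹)
    have h5 := congrArg (fun z => a * b * z * (a⁻¹ * b⁻¹)) h4
    simp only [mul_assoc, mul_inv_rev, inv_inv, mul_inv_cancel_left, inv_mul_cancel_left,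
      mul_inv_cancel, inv_mul_cancel, mul_one] at h5
    simp only [mul_assoc]
    exact h5
  exact ((h3.zpow_right i).eq).symm

theorem le_pCore_of_le_fitting [Finite G] {p : ℕ} [Fact p.Prime] {A : Subgroup G}
    (hA : IsPGroup p A) (hle : A ≤ fittingSubgroup G) : A ≤ pCore p G := by
  haveI := isNilpotent_fittingSubgroup G
  haveI := fittingSubgroup_normal' G
  have hA' : IsPGroup p (A.subgroupOf (fittingSubgroup G)) :=
    hA.of_equiv (subgroupOfEquivOfLe hle).symm
  obtain ⟨S, hS⟩ := hA'.exists_le_sylow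
  haveI : (S : Subgroup (fittingSubgroup G)).Normal := inferInstance
  rw [← map_pCore_fittingSubgroup p G, ← map_subgroupOf_eq_of_le hle]
  exact map_mono (hS.trans (le_pCore S.isPGroup'))

theorem zpowers_pow_eq [Finite G] {y : G} {i : ℤ} (h : orderOf (y ^ i) = orderOf y) :
    zpowers (y ^ i) = zpowers y :=
  Subgroup.eq_of_le_of_card_ge (zpowers_le.mpr (zpow_mem (mem_zpowers y) i))
    (by rw [Nat.card_zpowers, Nat.card_zpowers, h])

/-- two elements of the same order in a Sylow subgroup whose intersection with the commutator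
subgroup is small generate the same subgroup -/
theorem AbConj.mem_zpowers_of_inf_commutator [Finite G] (h : AbConj G) {P : Subgroup G} {x y : G}
    (hx : x ∈ P) (hy : y ∈ P) (hxy : orderOf x = orderOf y)
    (hm : ∀ m ∈ P, m ∈ commutator G → m ∈ zpowers x) : y ∈ zpowers x := by
  obtain ⟨g, i, hi⟩ := h.conj_zpowers hxy
  have hc : g * x * g⁻¹ * x⁻¹ ∈ commutator G := by
    rw [commutator_def]
    exact commutator_mem_commutator (mem_top g) (mem_top x)
  have h1 : y ^ i * x⁻¹ ∈ zpowers x :=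
    hm _ (mul_mem (zpow_mem hy i) (inv_mem hx)) (hi ▸ hc)
  have h2 : y ^ i ∈ zpowers x := by
    simpa [mul_assoc] using mul_mem h1 (mem_zpowers x)
  have h3 : orderOf (y ^ i) = orderOf y := by
    rw [← hi, ← MulAut.conj_apply, MulEquiv.orderOf_eq, hxy]
  have h4 : zpowers y ≤ zpowers x := by
    rw [← zpowers_pow_eq h3]; exact zpowers_le.mpr h2
  exact h4 (mem_zpowers y)

theorem QEight.mem_of_outside [Finite G] {P : Subgroup G} (hQ : QEight P) {x : G} (hx : x ∈ P)
    (hx4 : orderOf x = 4) : ∃ w ∈ P, w ∉ zpowers x ∧ orderOf w = 4 := by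
  obtain ⟨w, hw, hwx⟩ := SetLike.not_le_iff_exists.mp (fun hh : P ≤ zpowers x => by
    have := card_le_of_le hh
    rw [Nat.card_zpowers, hx4, hQ.card] at this
    omega)
  refine ⟨w, hw, hwx, ?_⟩
  rcases hQ.orderOf_eq hw with h1 | h1 | h1
  · exact absurd (h1 ▸ one_mem _) hwx
  · have hx2 : orderOf (x ^ 2) = 2 := by
      rw [orderOf_pow, hx4]; norm_num
    exact absurd (hQ.uniq w hw _ (pow_mem hx 2) h1 hx2 ▸ pow_mem (mem_zpowers x) 2) hwx
  · exact h1

theorem QEight.not_comm [Finite G] {P : Subgroup G} (hQ : QEight P) : ¬ Comm P := by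
  intro hX
  obtain ⟨x, hx, hx4⟩ := hQ.exists_four
  obtain ⟨w, hw, hwx, hw4⟩ := hQ.mem_of_outside hx hx4
  have hc : Commute x w := hX x hx w hw
  have hsq : ∀ y : G, orderOf y = 4 → orderOf (y ^ 2) = 2 := fun y hy => by
    rw [orderOf_pow, hy]; norm_num
  have he : w ^ 2 = x ^ 2 :=
    hQ.uniq _ (pow_mem hw 2) _ (pow_mem hx 2) (hsq w hw4) (hsq x hx4)
  have h2 : (w * x⁻¹) ^ 2 = 1 := by
    rw [hc.symm.inv_right.mul_pow, he, inv_pow, mul_inv_cancel]
  by_cases h1 : w * x⁻¹ = 1
  · exact hwx (mul_inv_eq_one.mp h1 ▸ mem_zpowers x)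
  have := hQ.uniq _ (mul_mem hw (inv_mem hx)) _ (pow_mem hx 2)
    (orderOf_eq_prime h2 h1) (hsq x hx4)
  refine hwx ?_
  rw [eq_mul_of_mul_inv_eq this]
  exact mul_mem (pow_mem (mem_zpowers x) 2) (mem_zpowers x)

theorem QEight.map {G' : Type u} [Group G'] {P : Subgroup G} (hQ : QEight P) {f : G →* G'}
    (hf : Function.Injective f) : QEight (P.map f) := by
  refine ⟨by rw [Subgroup.card_map_of_injective hf, hQ.card], fun hc => hQ.not_cyclic ?_, ?_⟩
  · exact (P.equivMapOfInjective f hf).isCyclic.mpr hc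
  · rintro _ ⟨x, hx, rfl⟩ _ ⟨y, hy, rfl⟩ h1 h2
    rw [orderOf_injective f hf] at h1 h2
    rw [hQ.uniq x hx y hy h1 h2]

/-- an automorphism of odd prime order of a quaternion group fixing an element of order four -/
theorem QEight.commute_of_fix [Finite G] {P : Subgroup G} (hQ : QEight P) {q : ℕ} {s x : G}
    (hn : ∀ y ∈ P, s * y * s⁻¹ ∈ P) (hs : s ^ q = 1) (hq : q.Coprime 4) (hx : x ∈ P)
    (hx4 : orderOf x = 4) (hsx : s * x = x * s) : ∀ y ∈ P, s * y = y * s := by
  obtain ⟨w, hw, hwx, -⟩ := hQ.mem_of_outside hx hx4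
  have hfix : ∀ v ∈ zpowers x, s * v = v * s := fun v hv => by
    obtain ⟨i, rfl⟩ := mem_zpowers_iff.mp hv
    exact ((Commute.zpow_right hsx i : Commute s (x ^ i))).eq
  have hout : s * w * s⁻¹ ∉ zpowers x := by
    intro hmem
    have h1 := hfix _ hmem
    have h2 : s * w * s⁻¹ = w := by
      have h3 := congrArg (fun z => s⁻¹ * z) h1
      simp only [mul_assoc, inv_mul_cancel_left] at h3 ⊢
      simpa [mul_assoc] using h3
    exact hwx (h2 ▸ hmem)
  have hle : zpowers x ≤ P := zpowers_le.mpr hx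
  have hidx : ((zpowers x).subgroupOf P).index = 2 := by
    have h1 := ((zpowers x).subgroupOf P).card_mul_index
    rw [Nat.card_congr (subgroupOfEquivOfLe hle).toEquiv, Nat.card_zpowers, hx4, hQ.card] at h1
    omega
  have hm : s * w * s⁻¹ * w⁻¹ ∈ zpowers x := by
    have h1 := (Subgroup.mul_mem_iff_of_index_two hidx
      (a := (⟨s * w * s⁻¹, hn w hw⟩ : P)) (b := (⟨w⁻¹, inv_mem hw⟩ : P))).mpr ?_
    · simpa [mem_subgroupOf] using h1
    · simp only [mem_subgroupOf, inv_mem_iff]
      exact iff_of_false hout hwx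
  have hsw : s * w = w * s := by
    refine commute_of_central_commutator (r := 4) (m := s * w * s⁻¹ * w⁻¹) (by group)
      (hfix _ hm) (hq.coprime_dvd_left (orderOf_dvd_of_pow_eq_one hs)) ?_
    obtain ⟨i, hi⟩ := mem_zpowers_iff.mp hm
    rw [← hi, ← zpow_natCast, ← zpow_mul, mul_comm, zpow_mul, zpow_natCast, ← hx4,
      pow_orderOf_eq_one, one_zpow]
  have hc : P ⊓ Subgroup.centralizer {s} = P :=
    hQ.eq_of_le inf_le_left (x := x) (w := w) ⟨hx, mem_centralizer_iff.mpr (by
      rintro _ rfl; exact hsx)⟩ hx4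
      ⟨hw, mem_centralizer_iff.mpr (by rintro _ rfl; exact hsw)⟩ hwx
  intro y hy
  exact mem_centralizer_iff.mp (hc.ge hy).2 s rfl

/-- every Sylow subgroup is cyclic or a normal quaternion group, given that there are no
noncyclic normal elementary abelian subgroups -/
theorem AbConj.sylow_cases [Finite G] [Group.IsSolvable G] (h : AbConj G)
    (hE : ∀ q : ℕ, q.Prime → ∀ Q : Subgroup G, Q.Normal → Comm Q → (∀ x ∈ Q, x ^ q = 1) →
      IsCyclic Q)
    {q : ℕ} [hq : Fact q.Prime] (P : Sylow q G) :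
    IsCyclic (P : Subgroup G) ∨ ((P : Subgroup G).Normal ∧ QEight (P : Subgroup G)) := by
  have hcore : ∀ (p : ℕ) [Fact p.Prime], IsCyclic (pCore p G) ∨
      (p = 2 ∧ QEight (pCore p G) ∧ ∀ S : Sylow p G, (S : Subgroup G) = pCore p G) := by
    intro p _
    obtain ⟨S⟩ : Nonempty (Sylow p G) := inferInstance
    haveI := pCore_normal p G
    have hle := pCore_le_sylow S
    have hcyc : ∀ {C : Subgroup G}, IsCyclic C → pCore p G ≤ C → IsCyclic (pCore p G) :=
      fun hc hC => isCyclic_of_injective (Subgroup.inclusion hC) (inclusion_injective hC)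
    rcases h.sylowShape S with hc | ⟨hexp, hcomm⟩ | ⟨rfl, hQ⟩
    · exact Or.inl (hcyc hc hle)
    · left
      by_cases hb : pCore p G = ⊥
      · rw [hb]; infer_instance
      obtain ⟨y, hy, hy1⟩ := (bot_or_exists_ne_one _).resolve_left hb
      have hyo := orderOf_eq_prime (hexp y (hle hy)) hy1
      have hSc : (S : Subgroup G) ≤ pCore p G := fun x hx => by
        by_cases hx1 : x = 1
        · rw [hx1]; exact one_mem _
        exact h.mem_of_normal ((orderOf_eq_prime (hexp x hx) hx1).trans hyo.symm) hy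
      exact hE p Fact.out _ inferInstance (hcomm.mono hle) fun x hx => hexp x (hle hx)
    · rcases hQ.isCyclic_or_eq hle with hc | he
      · exact Or.inl hc
      · refine Or.inr ⟨rfl, he ▸ hQ, fun T => ?_⟩
        exact (Subgroup.eq_of_le_of_card_ge (pCore_le_sylow T)
          (by rw [Sylow.card_eq_multiplicity T, ← Sylow.card_eq_multiplicity S, he])).symm
  rcases h.sylowShape P with hc | ⟨hexp, hcomm⟩ | ⟨rfl, hQ⟩
  · exact Or.inl hc
  · by_contra hcon
    push Not at hcon
    have hnc : ¬ IsCyclic (P : Subgroup G) := hcon.1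
    have hPne : (P : Subgroup G) ≠ ⊥ := fun hb => hnc (by rw [hb]; infer_instance)
    obtain ⟨x, hx, hx1⟩ := (bot_or_exists_ne_one _).resolve_left hPne
    have hxo := orderOf_eq_prime (hexp x hx) hx1
    have hxP : ¬ (P : Subgroup G) ≤ zpowers x := fun hle =>
      hnc (isCyclic_of_injective (Subgroup.inclusion hle) (inclusion_injective hle))
    obtain ⟨y, hy, hyx⟩ := SetLike.not_le_iff_exists.mp hxP
    have hy1 : y ≠ 1 := fun he => hyx (he ▸ one_mem _)
    have hall : ∀ {K : Subgroup G} [K.Normal] {a : G}, a ∈ (P : Subgroup G) → a ≠ 1 → a ∈ K →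
        (P : Subgroup G) ≤ K := by
      intro K _ a ha ha1 haK b hb
      by_cases hb1 : b = 1
      · rw [hb1]; exact one_mem _
      exact h.mem_of_normal
        ((orderOf_eq_prime (hexp b hb) hb1).trans (orderOf_eq_prime (hexp a ha) ha1).symm) haK
    -- `P` lies in the commutator subgroup
    have hPG : (P : Subgroup G) ≤ commutator G := by
      by_contra hnle
      refine hyx (h.mem_zpowers_of_inf_commutator hx hy
        (hxo.trans (orderOf_eq_prime (hexp y hy) hy1).symm) fun m hm hmc => ?_)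
      by_cases hm1 : m = 1
      · rw [hm1]; exact one_mem _
      exact absurd (hall hm hm1 hmc) hnle
    have hPfit : ¬ (P : Subgroup G) ≤ fittingSubgroup G := fun hle => by
      have h1 := le_pCore_of_le_fitting P.isPGroup' hle
      rcases hcore q with hc | ⟨rfl, hQ, hall'⟩
      · exact hnc (isCyclic_of_injective (Subgroup.inclusion h1) (inclusion_injective h1))
      · rw [← hall' P] at hQ
        obtain ⟨a, ha, ha4⟩ := hQ.exists_four
        have := orderOf_dvd_of_pow_eq_one (hexp a ha)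
        rw [ha4] at this
        norm_num at this
    rcases hcore 2 with hc2 | ⟨-, hQ2, hall2⟩
    · refine hPfit (hPG.trans ?_)
      refine le_trans ?_ centralizer_fittingSubgroup_le
      rw [le_centralizer_iff, fittingSubgroup_eq_iSup_pCore]
      refine iSup_le fun p => ?_
      rw [le_centralizer_iff]
      haveI := Fact.mk p.2
      haveI := pCore_normal (p : ℕ) G
      rcases hcore p with hc | ⟨hp2, hQ, -⟩
      · exact commutator_le_centralizer_of_isCyclic _ hc
      · rw [hp2] at hQ ⊢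
        exact absurd hc2 hQ.not_cyclic
    · have hq2 : q ≠ 2 := by
        rintro rfl
        rw [← hall2 P] at hQ2
        obtain ⟨a, ha, ha4⟩ := hQ2.exists_four
        have := orderOf_dvd_of_pow_eq_one (hexp a ha)
        rw [ha4] at this
        norm_num at this
      haveI := pCore_normal 2 G
      set Q := pCore 2 G with hQdef
      haveI : (Subgroup.centralizer (Q : Set G)).Normal := Subgroup.normal_centralizer
      have hfaith : ∀ a ∈ (P : Subgroup G), a ∈ Subgroup.centralizer (Q : Set G) → a = 1 := by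
        intro a ha haQ
        by_contra ha1
        have hPQ := hall ha ha1 haQ
        refine hPfit ((le_inf hPG hPQ).trans ?_)
        refine le_trans ?_ centralizer_fittingSubgroup_le
        rw [le_centralizer_iff, fittingSubgroup_eq_iSup_pCore]
        refine iSup_le fun p => ?_
        rw [le_centralizer_iff]
        haveI := Fact.mk p.2
        haveI := pCore_normal (p : ℕ) G
        rcases hcore p with hc | ⟨hp2, -, -⟩
        · exact inf_le_left.trans (commutator_le_centralizer_of_isCyclic _ hc)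
        · rw [hp2]; exact inf_le_right
      obtain ⟨c, hc, hc4⟩ := hQ2.exists_four
      let φ : ↥(P : Subgroup G) → ↥Q := fun a =>
        ⟨(a : G) * c * (a : G)⁻¹, (inferInstance : Q.Normal).conj_mem c hc a⟩
      have hbig : Nat.card Q < Nat.card (P : Subgroup G) := by
        obtain ⟨k, hk⟩ := IsPGroup.iff_card.mp P.isPGroup'
        have hk2 : 2 ≤ k := by
          by_contra hk2
          refine hnc ?_
          interval_cases k
          · exact absurd (Subgroup.card_eq_one.mp (by simpa using hk)) hPne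
          · rw [pow_one] at hk; exact isCyclic_of_prime_card hk
        rw [hQ2.card, hk]
        have h3 : 3 ≤ q := by
          have := hq.out.two_le
          omega
        calc 8 < 3 ^ 2 := by norm_num
          _ ≤ q ^ 2 := Nat.pow_le_pow_left h3 2
          _ ≤ q ^ k := Nat.pow_le_pow_right hq.out.pos hk2
      have hninj : ¬ Function.Injective φ := fun hi => by
        have := Nat.card_le_card_of_injective φ hi
        omega
      obtain ⟨a, b, hab, hne⟩ := Function.not_injective_iff.mp hninj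
      have hab' : (a : G) * c * (a : G)⁻¹ = (b : G) * c * (b : G)⁻¹ := congrArg Subtype.val hab
      set s := (b : G)⁻¹ * (a : G) with hsdef
      have hsc : s * c = c * s := by
        have h1 := congrArg (fun z => (b : G)⁻¹ * z * (a : G)) hab'
        simp only [mul_assoc, inv_mul_cancel, mul_one, inv_mul_cancel_left] at h1
        rw [hsdef, mul_assoc]
        exact h1
      have hsP : s ∈ (P : Subgroup G) := mul_mem (inv_mem b.2) a.2
      have hs1 : s ≠ 1 := fun he => hne (Subtype.ext (inv_mul_eq_one.mp he).symm)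
      refine hs1 (hfaith s hsP (mem_centralizer_iff.mpr fun z hz => ?_))
      refine (hQ2.commute_of_fix (fun v hv => (inferInstance : Q.Normal).conj_mem v hv s)
        (hexp s hsP) ?_ hc hc4 hsc z hz).symm
      rw [show (4 : ℕ) = 2 ^ 2 from rfl]
      exact ((Nat.coprime_primes hq.out Nat.prime_two).mpr hq2).pow_right 2
  · rcases hcore 2 with hc2 | ⟨-, -, hall2⟩
    · exfalso
      have hPfit : ¬ (P : Subgroup G) ≤ commutator G := by
        intro hle
        have hcomm : commutator G ≤ fittingSubgroup G := by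
          refine le_trans ?_ centralizer_fittingSubgroup_le
          rw [le_centralizer_iff, fittingSubgroup_eq_iSup_pCore]
          refine iSup_le fun p => ?_
          rw [le_centralizer_iff]
          haveI := Fact.mk p.2
          haveI := pCore_normal (p : ℕ) G
          rcases hcore p with hc | ⟨hp2, hQ', -⟩
          · exact commutator_le_centralizer_of_isCyclic _ hc
          · rw [hp2] at hQ' ⊢
            exact absurd hc2 hQ'.not_cyclic
        have h1 := le_pCore_of_le_fitting P.isPGroup' (hle.trans hcomm)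
        exact hQ.not_cyclic
          (isCyclic_of_injective (Subgroup.inclusion h1) (inclusion_injective h1))
      obtain ⟨x, hx, hx4⟩ := hQ.exists_four
      obtain ⟨w, hw, hwx, hw4⟩ := hQ.mem_of_outside hx hx4
      refine hwx (h.mem_zpowers_of_inf_commutator hx hw (hx4.trans hw4.symm) fun m hm hmc => ?_)
      rcases hQ.orderOf_eq hm with h1 | h1 | h1
      · rw [h1]; exact one_mem _
      · have hx2 : orderOf (x ^ 2) = 2 := by rw [orderOf_pow, hx4]; norm_num
        rw [hQ.uniq m hm _ (pow_mem hx 2) h1 hx2]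
        exact pow_mem (mem_zpowers x) 2
      · refine absurd ?_ hPfit
        have hxc : x ∈ commutator G := h.mem_of_normal (hx4.trans h1.symm) hmc
        have hwc : w ∈ commutator G := h.mem_of_normal (hw4.trans h1.symm) hmc
        exact (hQ.eq_of_le inf_le_left (x := x) (w := w) ⟨hx, hxc⟩ hx4 ⟨hw, hwc⟩ hwx).ge.trans
          inf_le_right
    · refine Or.inr ⟨?_, hQ⟩
      rw [hall2 P]
      exact pCore_normal 2 G

/-- In an elementary abelian group a map preserving every subgroup of some intermediate order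
preserves every cyclic subgroup. -/
theorem mem_zpowers_of_preserves [Finite G] {r v : ℕ} [hr : Fact r.Prime] {N : Subgroup G}
    (hN : Comm N) (hexp : ∀ x ∈ N, x ^ r = 1) (hv : 1 ≤ v) (hvN : r ^ v < Nat.card N) {x y : G}
    (hx : x ∈ N) (hx1 : x ≠ 1) (hy : y ∈ N)
    (hpres : ∀ W : Subgroup G, W ≤ N → Nat.card W = r ^ v → x ∈ W → y ∈ W) :
    y ∈ zpowers x := by
  by_contra hyx
  have hord : ∀ z ∈ N, z ≠ 1 → orderOf z = r := fun z hz hz1 => orderOf_eq_prime (hexp z hz) hz1
  have hnorm : ∀ {A B : Subgroup G}, A ≤ N → B ≤ N → A ≤ Subgroup.normalizer (B : Set G) := by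
    intro A B hA hB
    exact le_trans (fun a ha => mem_centralizer_iff.mpr fun b hb =>
      (hN a (hA ha) b (hB hb)).symm) (centralizer_le_normalizer _)
  have key : ∀ j, 1 ≤ j → j ≤ v →
      ∃ W : Subgroup G, W ≤ N ∧ Nat.card W = r ^ j ∧ x ∈ W ∧ y ∉ W := by
    intro j hj
    induction j, hj using Nat.le_induction with
    | base => exact fun _ => ⟨zpowers x, zpowers_le.mpr hx,
        by rw [Nat.card_zpowers, hord x hx hx1, pow_one], mem_zpowers x, hyx⟩
    | succ j hj1 ih =>
      intro hjv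
      obtain ⟨W, hWN, hW, hxW, hyW⟩ := ih (by omega)
      have hy1 : y ≠ 1 := fun he => hyW (he ▸ one_mem W)
      have hsup : ∀ {z : G}, z ∈ N → z ∉ W → Nat.card ↥(W ⊔ zpowers z) = r ^ (j + 1) := by
        intro z hz hzW
        have hz1 : z ≠ 1 := fun he => hzW (he ▸ one_mem W)
        rw [sup_comm, CfsgLib.Coprime.card_sup_of_inf_eq_bot
          (hnorm (zpowers_le.mpr hz) hWN), Nat.card_zpowers, hord z hz hz1, hW, pow_succ']
        by_contra hb
        have hd := card_dvd_of_le (inf_le_left : zpowers z ⊓ W ≤ zpowers z)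
        rw [Nat.card_zpowers, hord z hz hz1] at hd
        rcases (Nat.dvd_prime hr.out).mp hd with h1 | h1
        · exact hb (card_eq_one.mp h1)
        · have h2 := Subgroup.eq_of_le_of_card_ge (inf_le_left : zpowers z ⊓ W ≤ zpowers z)
            (by rw [Nat.card_zpowers, hord z hz hz1, h1])
          exact hzW ((h2.ge.trans inf_le_right) (mem_zpowers z))
      obtain ⟨z, hz, hzW⟩ : ∃ z ∈ N, z ∉ W ⊔ zpowers y := by
        by_contra hcon
        push Not at hcon
        have h1 := card_le_of_le (show N ≤ W ⊔ zpowers y from hcon)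
        rw [hsup hy hyW] at h1
        have h2 : r ^ (j + 1) ≤ r ^ v := Nat.pow_le_pow_right hr.out.pos hjv
        omega
      refine ⟨W ⊔ zpowers z, sup_le hWN (zpowers_le.mpr hz),
        hsup hz fun hz' => hzW (mem_sup_left hz'), mem_sup_left hxW, fun hy' => ?_⟩
      rw [sup_comm, CfsgLib.Coprime.mem_sup_iff_of_le_normalizer
        (hnorm (zpowers_le.mpr hz) hWN)] at hy'
      obtain ⟨a, ha, w, hw, haw⟩ := hy'
      by_cases ha1 : a = 1
      · rw [ha1, one_mul] at haw
        exact hyW (haw ▸ hw)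
      obtain ⟨i, hi⟩ := mem_zpowers_iff.mp ha
      have haN : a ∈ N := zpowers_le.mpr hz ha
      have hz1 : z ≠ 1 := fun he => ha1 (by rw [← hi, he, one_zpow])
      have hz' : zpowers a = zpowers z := by
        rw [← hi]
        exact zpowers_pow_eq (by rw [hi, hord a haN ha1, hord z hz hz1])
      refine hzW ?_
      have haW : a ∈ W ⊔ zpowers y := by
        rw [eq_mul_inv_of_mul_eq haw]
        exact mul_mem (mem_sup_right (mem_zpowers y)) (inv_mem (mem_sup_left hw))
      exact zpowers_le.mpr haW (hz' ▸ mem_zpowers z)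
  obtain ⟨W, hWN, hW, hxW, hyW⟩ := key v hv le_rfl
  exact hyW (hpres W hWN hW hxW)

/-- the situation of a complement of the product of the minimal normal subgroups -/
structure Config (H : Subgroup G) : Prop where
  abG : AbConj G
  ab : AbConj H
  split : ∀ g : G, ∃ h ∈ H, ∀ N, IsMinimalNormal N → ∀ x ∈ N, g * x * g⁻¹ = h * x * h⁻¹
  faith : ∀ h ∈ H, (∀ N, IsMinimalNormal N → ∀ x ∈ N, h * x = x * h) → h = 1

theorem mem_inf_centralizer_singleton {Q : Subgroup G} {a x : G} :
    a ∈ Q ⊓ Subgroup.centralizer {x} ↔ a ∈ Q ∧ x * a = a * x := by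
  rw [mem_inf, mem_centralizer_iff]
  exact and_congr_right fun _ => ⟨fun h => h x rfl, fun h _ he => he ▸ h⟩

theorem Config.isCyclic_of_elementary [Finite G] [Group.IsSolvable G] {H : Subgroup G}
    (hc : Config H) {q : ℕ} (hq : q.Prime) {Q : Subgroup G} (hQH : Q ≤ H)
    (hn : ∀ h ∈ H, ∀ a ∈ Q, h * a * h⁻¹ ∈ Q) (hQc : Comm Q) (hexp : ∀ a ∈ Q, a ^ q = 1) :
    IsCyclic Q := by
  by_contra hnc
  haveI := Fact.mk hq
  suffices hall : ∀ N, IsMinimalNormal N → ∀ b ∈ Q, ∀ x ∈ N, b * x = x * b by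
    have hb : Q = ⊥ := (eq_bot_iff_forall _).mpr fun b hb =>
      hc.faith b (hQH hb) fun N hN => hall N hN b hb
    exact hnc (by rw [hb]; infer_instance)
  intro N hN
  haveI := hN.normal
  obtain ⟨r, hr, hNc, hNexp, -⟩ := hN.exists_prime inferInstance
  haveI := Fact.mk hr
  have hord : ∀ z ∈ N, z ≠ 1 → orderOf z = r := fun z hz hz1 => orderOf_eq_prime (hNexp z hz) hz1
  have hNcomm := comm_of_isMulCommutative hNc
  set K : G → Subgroup G := fun x => Q ⊓ Subgroup.centralizer {x} with hK
  have hKpow : ∀ (y : G) (i : ℤ), y ∈ N → y ^ i ≠ 1 → K (y ^ i) = K y := by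
    intro y i hy hyi
    have hy1 : y ≠ 1 := fun he => hyi (by rw [he, one_zpow])
    have hz : zpowers (y ^ i) = zpowers y :=
      zpowers_pow_eq (by rw [hord _ (zpow_mem hy i) hyi, hord y hy hy1])
    ext a
    rw [hK, mem_inf_centralizer_singleton, mem_inf_centralizer_singleton]
    refine and_congr_right fun _ => ⟨fun h => ?_, fun h => ?_⟩
    · obtain ⟨j, hj⟩ := mem_zpowers_iff.mp (hz ▸ mem_zpowers y)
      rw [← hj]
      exact ((show Commute (y ^ i) a from h).zpow_left j).eq
    · exact ((show Commute y a from h).zpow_left i).eq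
  have hKconj : ∀ (h : G), h ∈ H → ∀ x : G, K (h * x * h⁻¹) = MulAut.conj h • K x := by
    intro h hh x
    ext a
    rw [hK, mem_inf_centralizer_singleton, mem_smul_iff, mem_inf_centralizer_singleton]
    constructor
    · rintro ⟨ha, hcm⟩
      refine ⟨by simpa using hn h⁻¹ (inv_mem hh) a ha, ?_⟩
      have := congrArg (fun z => h⁻¹ * z * h) hcm
      simpa [mul_assoc] using this
    · rintro ⟨ha, hcm⟩
      refine ⟨by simpa [mul_assoc] using hn h hh _ ha, ?_⟩
      have := congrArg (fun z => h * z * h⁻¹) hcm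
      simpa [mul_assoc] using this
  have hKcard : ∀ x ∈ N, ∀ y ∈ N, x ≠ 1 → y ≠ 1 → Nat.card (K x) = Nat.card (K y) := by
    intro x hx y hy hx1 hy1
    obtain ⟨g, i, hi⟩ := hc.abG.conj_zpowers ((hord x hx hx1).trans (hord y hy hy1).symm)
    obtain ⟨h, hh, hgh⟩ := hc.split g
    rw [hgh N hN x hx] at hi
    have hyi : y ^ i ≠ 1 := fun he => hx1 (conj_eq_one_iff.mp (hi.trans he))
    rw [← hKpow y i hy hyi, ← hi, hKconj h hh x, CfsgLib.Coprime.card_conj_smul]
  by_cases hfpf : ∀ x ∈ N, x ≠ 1 → K x = ⊥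
  · exfalso
    refine hnc ?_
    haveI := isMulCommutative_of_comm hQc
    refine IsFPF.isCyclic_of_comm (V := N) ⟨fun a _ => ?_, fun a ha ha1 => ?_⟩ hN.ne_bot
    · rw [normalizer_eq_top]; exact mem_top a
    · rw [eq_bot_iff]
      rintro x ⟨hx, hxa⟩
      by_contra hx1
      have : a ∈ K x := mem_inf_centralizer_singleton.mpr
        ⟨ha, (mem_centralizer_iff.mp hxa a rfl).symm⟩
      rw [hfpf x hx hx1] at this
      exact ha1 this
  push Not at hfpf
  obtain ⟨x₀, hx₀, hx₀1, hK₀⟩ := hfpf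
  -- all stabilisers are equal
  have hswap : ∀ x ∈ N, ∀ y ∈ N, x ≠ 1 → y ≠ 1 → ∀ a ∈ K (x * y), x * y ≠ 1 →
      K x ≠ K y → a ∈ K y := by
    intro x hx y hy hx1 hy1 a ha hxy hne
    by_contra hay
    refine hne (Subgroup.eq_of_le_of_card_ge (fun b hb => ?_) (hKcard y hy x hx hy1 hx1).le)
    rw [hK, mem_inf_centralizer_singleton] at ha hb ⊢
    obtain ⟨haQ, haz⟩ := ha
    obtain ⟨hbQ, hbx⟩ := hb
    refine ⟨hbQ, ?_⟩
    by_contra hby
    set w := b * y * b⁻¹ * y⁻¹ with hw
    have hw1 : w ≠ 1 := by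
      intro he
      rw [hw, mul_inv_eq_one, mul_inv_eq_iff_eq_mul] at he
      exact hby he.symm
    have hwN : w ∈ N := mul_mem ((inferInstance : N.Normal).conj_mem y hy b) (inv_mem hy)
    have hKy : K y ≤ K w := by
      intro k hk
      rw [hK, mem_inf_centralizer_singleton] at hk ⊢
      refine ⟨hk.1, ?_⟩
      have h1 : Commute k b := hQc k hk.1 b hbQ
      have h2 : Commute k y := hk.2.symm
      exact ((((h1.mul_right h2).mul_right h1.inv_right).mul_right h2.inv_right)).eq.symm
    have hwz : w = b * (x * y) * b⁻¹ * (x * y)⁻¹ := by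
      have h1 : b * x * b⁻¹ = x := by rw [← hbx, mul_inv_cancel_right]
      have h2 : b * (x * y) * b⁻¹ = x * (b * y * b⁻¹) := by
        calc b * (x * y) * b⁻¹ = (b * x * b⁻¹) * (b * y * b⁻¹) := by group
          _ = x * (b * y * b⁻¹) := by rw [h1]
      rw [h2, hNcomm x hx _ ((inferInstance : N.Normal).conj_mem y hy b), hNcomm x hx y hy, hw]
      group
    have haw : a ∈ K w := by
      rw [hK, mem_inf_centralizer_singleton]
      refine ⟨haQ, ?_⟩
      have h1 : Commute a b := hQc a haQ b hbQ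
      have h2 : Commute a (x * y) := haz.symm
      rw [hwz]
      exact ((((h1.mul_right h2).mul_right h1.inv_right).mul_right h2.inv_right)).eq.symm
    have := Subgroup.eq_of_le_of_card_ge hKy (hKcard w hwN y hy hw1 hy1).le
    exact hay (this ▸ haw)
  have heq : ∀ x ∈ N, ∀ y ∈ N, x ≠ 1 → y ≠ 1 → K x = K y := by
    intro x hx y hy hx1 hy1
    by_contra hne
    have hxy : x * y ≠ 1 := by
      intro he
      refine hne ?_
      rw [← inv_eq_of_mul_eq_one_right he, ← zpow_neg_one,
        hKpow x (-1) hx (by rw [zpow_neg_one]; exact inv_ne_one.mpr hx1)]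
    have hle : K (x * y) ≤ K x ⊓ K y := fun a ha =>
      ⟨hswap y hy x hx hy1 hx1 a (by rwa [← hNcomm x hx y hy])
        (by rwa [← hNcomm x hx y hy]) (Ne.symm hne),
      hswap x hx y hy hx1 hy1 a ha hxy hne⟩
    have hc1 := hKcard (x * y) (mul_mem hx hy) x hx hxy hx1
    have he1 := Subgroup.eq_of_le_of_card_ge (hle.trans inf_le_left) hc1.ge
    refine hne (Subgroup.eq_of_le_of_card_ge ?_ (hKcard y hy x hx hy1 hx1).le)
    rw [← he1]
    exact hle.trans inf_le_right
  obtain ⟨a, ha, ha1⟩ := (bot_or_exists_ne_one _).resolve_left hK₀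
  have haN : ∀ y ∈ N, a * y = y * a := by
    intro y hy
    by_cases hy1 : y = 1
    · simp [hy1]
    rw [heq x₀ hx₀ y hy hx₀1 hy1] at ha
    exact (mem_inf_centralizer_singleton.mp ha).2.symm
  intro b hb x hx
  by_cases hb1 : b = 1
  · simp [hb1]
  have haQ : a ∈ Q := (mem_inf_centralizer_singleton.mp ha).1
  have hao : orderOf (⟨a, hQH haQ⟩ : H) = orderOf (⟨b, hQH hb⟩ : H) := by
    rw [orderOf_mk, orderOf_mk, orderOf_eq_prime (hexp a haQ) ha1,
      orderOf_eq_prime (hexp b hb) hb1]
  obtain ⟨h, i, hi⟩ := hc.ab.conj_zpowers hao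
  have hi' : (h : G) * a * (h : G)⁻¹ = b ^ i := congrArg Subtype.val hi
  have hbi : orderOf (b ^ i) = orderOf b := by
    rw [← hi', ← MulAut.conj_apply, MulEquiv.orderOf_eq, orderOf_eq_prime (hexp a haQ) ha1,
      orderOf_eq_prime (hexp b hb) hb1]
  obtain ⟨j, hj⟩ := mem_zpowers_iff.mp ((zpowers_pow_eq hbi).ge (mem_zpowers b))
  rw [← hj]
  refine (Commute.zpow_left ?_ j).eq
  show b ^ i * x = x * b ^ i
  have hx' : (h : G)⁻¹ * x * (h : G) ∈ N := by
    simpa using (inferInstance : N.Normal).conj_mem x hx (h : G)⁻¹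
  have h1 := congrArg (fun z => (h : G) * z * (h : G)⁻¹) (haN _ hx')
  rw [← hi']
  simpa [mul_assoc] using h1

theorem Config.isCyclic_normalizer_sylow [Finite G] [Group.IsSolvable G] {H : Subgroup G}
    (hc : Config H) {U : Subgroup G}
    (hU : ∀ N, IsMinimalNormal N → 1 < Nat.card ↥(U ⊓ N) ∧ Nat.card ↥(U ⊓ N) < Nat.card N) :
    IsZGroup ↥((Subgroup.normalizer (U : Set G)).subgroupOf H) := by
  refine ⟨?_⟩
  set M := (Subgroup.normalizer (U : Set G)).subgroupOf H with hM
  intro p hp S
  haveI := Fact.mk hp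
  have hS' : IsPGroup p ((S : Subgroup M).map M.subtype) := S.isPGroup'.map _
  obtain ⟨P, hSP⟩ := hS'.exists_le_sylow
  suffices hcyc : IsCyclic ↥((S : Subgroup M).map M.subtype) from
    ((S : Subgroup M).equivMapOfInjective M.subtype M.subtype_injective).isCyclic.mpr hcyc
  have hE : ∀ q : ℕ, q.Prime → ∀ Q : Subgroup H, Q.Normal → Comm Q → (∀ x ∈ Q, x ^ q = 1) →
      IsCyclic Q := by
    intro q hq Q hQn hQc hexp
    refine (Q.equivMapOfInjective H.subtype H.subtype_injective).isCyclic.mpr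
      (hc.isCyclic_of_elementary hq (map_subtype_le Q) ?_ ?_ ?_)
    · rintro h hh _ ⟨a, ha, rfl⟩
      exact ⟨_, hQn.conj_mem a ha ⟨h, hh⟩, rfl⟩
    · rintro _ ⟨a, ha, rfl⟩ _ ⟨b, hb, rfl⟩
      rw [← map_mul, ← map_mul, hQc a ha b hb]
    · rintro _ ⟨a, ha, rfl⟩
      rw [← map_pow, hexp a ha, map_one]
  rcases hc.ab.sylow_cases hE P with h | ⟨hPn, hQ⟩
  · exact isCyclic_of_injective (Subgroup.inclusion hSP) (inclusion_injective hSP)
  rcases hQ.isCyclic_or_eq hSP with h | h
  · exact h
  exfalso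
  have hPM : (P : Subgroup H) ≤ M := h ▸ map_subtype_le _
  set Q := (P : Subgroup H).map H.subtype with hQdef
  have hQ' : QEight Q := hQ.map H.subtype_injective
  have hQn : ∀ h ∈ H, ∀ a ∈ Q, h * a * h⁻¹ ∈ Q := by
    rintro h hh _ ⟨a, ha, rfl⟩
    exact ⟨_, hPn.conj_mem a ha ⟨h, hh⟩, rfl⟩
  have hQU : ∀ a ∈ Q, a ∈ Subgroup.normalizer (U : Set G) := by
    rintro _ ⟨a, ha, rfl⟩
    exact hPM ha
  refine hQ'.not_comm ?_
  -- each element of `Q` acts on every `N` by power maps
  have hpow : ∀ a ∈ Q, ∀ N, IsMinimalNormal N → ∀ x ∈ N, a * x * a⁻¹ ∈ zpowers x := by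
    intro a ha N hN x hx
    haveI := hN.normal
    by_cases hx1 : x = 1
    · simp [hx1]
    obtain ⟨r, hr, hNc, hNexp, hNp⟩ := hN.exists_prime inferInstance
    haveI := Fact.mk hr
    obtain ⟨v, hv⟩ := IsPGroup.iff_card.mp (hNp.to_le (inf_le_right : U ⊓ N ≤ N))
    obtain ⟨hU1, hU2⟩ := hU N hN
    have hv1 : 1 ≤ v := by
      by_contra hv1
      obtain rfl : v = 0 := by omega
      rw [hv, pow_zero] at hU1
      omega
    refine mem_zpowers_of_preserves (v := v) (comm_of_isMulCommutative hNc) hNexp hv1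
      (hv ▸ hU2) hx hx1 ((inferInstance : N.Normal).conj_mem x hx a) fun W hWN hW hxW => ?_
    have hNcomm := comm_of_isMulCommutative hNc
    obtain ⟨g, hg⟩ := hc.abG (U ⊓ N) W (hNcomm.mono inf_le_right) (hNcomm.mono hWN)
      (hv.trans hW.symm)
    obtain ⟨h, hh, hgh⟩ := hc.split g
    rw [← hg, mem_smul_iff] at hxW
    rw [← hg, mem_smul_iff]
    have key : ∀ z ∈ N, g⁻¹ * z * g = h⁻¹ * z * h := by
      intro z hz
      have hz' : h⁻¹ * z * h ∈ N := by
        simpa using (inferInstance : N.Normal).conj_mem z hz h⁻¹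
      have h1 := congrArg (fun y => g⁻¹ * y * g) (hgh N hN _ hz')
      simp only [mul_assoc, inv_mul_cancel_left, mul_inv_cancel_left, inv_mul_cancel,
        mul_one, mul_inv_cancel] at h1 ⊢
      exact h1.symm
    rw [key x hx] at hxW
    rw [key _ ((inferInstance : N.Normal).conj_mem x hx a)]
    have ha' : h⁻¹ * a * h ∈ Q := by simpa using hQn h⁻¹ (inv_mem hh) a ha
    have h2 : h⁻¹ * (a * x * a⁻¹) * h =
        (h⁻¹ * a * h) * (h⁻¹ * x * h) * (h⁻¹ * a * h)⁻¹ := by group
    rw [h2]
    exact ⟨(mem_normalizer_iff.mp (hQU _ ha') _).mp hxW.1,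
      (inferInstance : N.Normal).conj_mem _ hxW.2 _⟩
  intro a ha b hb
  have hab : a * b * (b * a)⁻¹ = 1 := by
    refine hc.faith _ (mul_mem (mul_mem (map_subtype_le _ ha) (map_subtype_le _ hb))
      (inv_mem (mul_mem (map_subtype_le _ hb) (map_subtype_le _ ha)))) fun N hN x hx => ?_
    haveI := hN.normal
    set c := (b * a)⁻¹ * x * (b * a) with hcdef
    have hc' : c ∈ N := by
      have := (inferInstance : N.Normal).conj_mem x hx (b * a)⁻¹
      rwa [inv_inv] at this
    obtain ⟨k, hk⟩ := mem_zpowers_iff.mp (hpow a ha N hN c hc')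
    obtain ⟨l, hl⟩ := mem_zpowers_iff.mp (hpow b hb N hN c hc')
    have h1 : (a * b) * c * (a * b)⁻¹ = c ^ (k * l) := by
      rw [zpow_mul, hk, conj_zpow, hl]
      group
    have h2 : (b * a) * c * (b * a)⁻¹ = c ^ (k * l) := by
      rw [mul_comm k l, zpow_mul, hl, conj_zpow, hk]
      group
    have h3 : (a * b) * c * (a * b)⁻¹ = x := by
      rw [h1, ← h2, hcdef]; group
    refine mul_inv_eq_iff_eq_mul.mp ?_
    refine Eq.trans ?_ h3
    rw [hcdef]
    group
  rwa [mul_inv_eq_one] at hab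

end CfsgLib.SolvStruct.AbConj
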