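import Cfsg.Agent.Lib.SolvStruct.AbelianConjBasic
import Cfsg.Agent.Lib.OddOrder.CyclicSubgroups

/-!
# Solvable groups in which abelian subgroups of equal order are conjugate: quotients
-/

set_option autoImplicit false

open scoped Pointwise

namespace CfsgLib.SolvStruct.AbConj

open Subgroup CfsgLib.Coprime

universe u

variable {G : Type u} [Group G]

/-- an element of coprime order commuting with a central commutator commutes -/
theorem commute_of_central_commutator {d x m : G} {r : ℕ} (hm : d * x * d⁻¹ = m * x)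
    (hdm : d * m = m * d) (hcop : (orderOf d).Coprime r) (hmr : m ^ r = 1) : d * x = x * d := by
  have hj : ∀ j : ℕ, d ^ j * x * (d ^ j)⁻¹ = m ^ j * x := by
    intro j
    induction j with
    | zero => simp
    | succ j ih =>
      have h1 : d * m ^ j * d⁻¹ = m ^ j := by
        rw [(Commute.pow_right hdm j).eq, mul_inv_cancel_right]
      calc d ^ (j + 1) * x * (d ^ (j + 1))⁻¹ = d * (d ^ j * x * (d ^ j)⁻¹) * d⁻¹ := by
            rw [pow_succ']; group
        _ = (d * m ^ j * d⁻¹) * (d * x * d⁻¹) := by rw [ih]; group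
        _ = m ^ (j + 1) * x := by rw [h1, hm, pow_succ]; group
  have h2 := hj (orderOf d)
  rw [pow_orderOf_eq_one, one_mul, inv_one, mul_one] at h2
  have h3 : m ^ orderOf d = 1 := mul_eq_right.mp h2.symm
  have h4 : m = 1 := by
    have hd := Nat.eq_one_of_dvd_coprimes hcop (orderOf_dvd_of_pow_eq_one h3)
      (orderOf_dvd_of_pow_eq_one hmr)
    rwa [orderOf_eq_one_iff] at hd
  rw [h4, one_mul, mul_inv_eq_iff_eq_mul] at hm
  exact hm

/-- a subgroup containing a Sylow `r`-subgroup and all elements of order prime to `r` -/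
theorem top_le_of_sylow_le [Finite G] {r : ℕ} [hr : Fact r.Prime] {K : Subgroup G} (S : Sylow r G)
    (hS : (S : Subgroup G) ≤ K) (hd : ∀ x : G, (orderOf x).Coprime r → x ∈ K) : K = ⊤ := by
  rw [← Subgroup.index_eq_one, Nat.eq_one_iff_not_exists_prime_dvd]
  intro q hq hqd
  haveI := Fact.mk hq
  rcases eq_or_ne q r with rfl | hne
  · exact S.not_dvd_index (hqd.trans (index_dvd_of_le hS))
  · obtain ⟨Q⟩ : Nonempty (Sylow q G) := inferInstance
    refine Q.not_dvd_index (hqd.trans (index_dvd_of_le fun x hx => hd x ?_))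
    obtain ⟨k, hk⟩ := IsPGroup.iff_orderOf.mp Q.isPGroup' ⟨x, hx⟩
    rw [orderOf_mk] at hk
    rw [hk]
    exact ((Nat.coprime_primes hq hr.out).mpr hne).pow_left k

theorem card_comap_mk' [Finite G] (N : Subgroup G) [N.Normal] (A : Subgroup (G ⧸ N)) :
    Nat.card ↥(A.comap (QuotientGroup.mk' N)) = Nat.card N * Nat.card A := by
  conv_rhs => rw [← Subgroup.map_comap_eq_self_of_surjective (QuotientGroup.mk'_surjective N) A]
  rw [card_map_mk', ← relIndex_bot_left, ← relIndex_bot_left,
    relIndex_mul_relIndex _ _ _ bot_le]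
  exact (QuotientGroup.ker_mk' N).symm.le.trans (MonoidHom.ker_le_comap _ _)

theorem le_comap_mk' (N : Subgroup G) [N.Normal] (A : Subgroup (G ⧸ N)) :
    N ≤ A.comap (QuotientGroup.mk' N) :=
  (QuotientGroup.ker_mk' N).symm.le.trans (MonoidHom.ker_le_comap _ _)

theorem exists_lift [Finite G] (N : Subgroup G) [N.Normal] {A : Subgroup (G ⧸ N)}
    (hA : Comm A) (hc : (Nat.card N).Coprime (Nat.card A)) :
    ∃ D : Subgroup G, Comm D ∧ Nat.card D = Nat.card A ∧
      D.map (QuotientGroup.mk' N) = A := by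
  set X := A.comap (QuotientGroup.mk' N) with hX
  have hNX : N ≤ X := le_comap_mk' N A
  have hcN : Nat.card (N.subgroupOf X) = Nat.card N :=
    Nat.card_congr (subgroupOfEquivOfLe hNX).toEquiv
  have hidx : (N.subgroupOf X).index = Nat.card A := by
    have h1 := (N.subgroupOf X).card_mul_index
    rw [hcN, hX, card_comap_mk'] at h1
    exact Nat.eq_of_mul_eq_mul_left Nat.card_pos h1
  obtain ⟨C, hC⟩ := Subgroup.exists_right_complement'_of_coprime
    (N := N.subgroupOf X) (by rwa [hcN, hidx])
  have hcD : Nat.card ↥(C.map X.subtype) = Nat.card A := by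
    rw [card_map_of_injective X.subtype_injective, ← hidx, hC.symm.index_eq_card]
  have hinf : (C.map X.subtype) ⊓ N = ⊥ := CfsgLib.Coprime.inf_eq_bot_of_coprime (by rw [hcD]; exact hc.symm)
  have hle : (C.map X.subtype).map (QuotientGroup.mk' N) ≤ A := by
    rintro _ ⟨_, ⟨x, -, rfl⟩, rfl⟩; exact x.2
  refine ⟨C.map X.subtype, ?_, hcD, Subgroup.eq_of_le_of_card_ge hle ?_⟩
  · intro a ha b hb
    have h1 : a * b * (b * a)⁻¹ ∈ C.map X.subtype ⊓ N := by
      refine Subgroup.mem_inf.mpr ⟨mul_mem (mul_mem ha hb) (inv_mem (mul_mem hb ha)), ?_⟩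
      rw [← QuotientGroup.ker_mk' N, MonoidHom.mem_ker, map_mul, map_inv,
        map_mul, map_mul,
        hA _ (hle (mem_map_of_mem _ ha)) _ (hle (mem_map_of_mem _ hb)), mul_inv_cancel]
    rw [hinf, mem_bot, mul_inv_eq_one] at h1
    exact h1
  · rw [card_map_mk', ← inf_relIndex_right, inf_comm, hinf, relIndex_bot_left, hcD]

theorem QEight.isCyclic_or_eq [Finite G] {P S : Subgroup G} (hP : QEight P) (hS : S ≤ P) :
    IsCyclic S ∨ S = P := by
  by_cases h4 : ∃ x ∈ S, orderOf x = 4
  · obtain ⟨x, hx, hx4⟩ := h4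
    by_cases hw : S ≤ zpowers x
    · exact Or.inl (isCyclic_of_injective (Subgroup.inclusion hw) (inclusion_injective hw))
    · obtain ⟨w, hwS, hwx⟩ := SetLike.not_le_iff_exists.mp hw
      exact Or.inr (hP.eq_of_le hS hx hx4 hwS hwx)
  · push Not at h4
    refine Or.inl ?_
    have hsub : ∀ x ∈ S, x = 1 ∨ orderOf x = 2 := fun x hx => by
      rcases hP.orderOf_eq (hS hx) with h1 | h1 | h1
      · exact Or.inl h1
      · exact Or.inr h1
      · exact absurd h1 (h4 x hx)
    by_cases h2 : ∃ t ∈ S, orderOf t = 2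
    · obtain ⟨t, ht, ht2⟩ := h2
      have hle : S ≤ zpowers t := fun x hx => (hsub x hx).elim (fun h => h ▸ one_mem _)
        fun h => hP.uniq x (hS hx) t (hS ht) h ht2 ▸ mem_zpowers t
      exact isCyclic_of_injective (Subgroup.inclusion hle) (inclusion_injective hle)
    · push Not at h2
      have hle : S ≤ zpowers (1 : G) := fun x hx => (hsub x hx).elim (fun h => by rw [h]; exact one_mem _)
        fun h => absurd h (h2 x hx)
      exact isCyclic_of_injective (Subgroup.inclusion hle) (inclusion_injective hle)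

/-- the elements of order prime to `r` of a group in which they are central -/
def primeTo (X : Subgroup G) (r : ℕ)
    (hc : ∀ a ∈ X, (orderOf a).Coprime r → ∀ b ∈ X, a * b = b * a) : Subgroup G where
  carrier := {a | a ∈ X ∧ (orderOf a).Coprime r}
  one_mem' := ⟨one_mem X, by rw [orderOf_one]; exact Nat.coprime_one_left r⟩
  mul_mem' {a b} ha hb := ⟨mul_mem ha.1 hb.1,
    ((ha.2.mul_left hb.2).coprime_dvd_left
      (Commute.orderOf_mul_dvd_mul_orderOf (hc a ha.1 ha.2 b hb.1)))⟩
  inv_mem' {a} ha := ⟨inv_mem ha.1, by rw [orderOf_inv]; exact ha.2⟩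

/-- A subgroup over a normal subgroup of prime order with abelian quotient of order divisible by
that prime: it is abelian, or is a quaternion group times an abelian group. -/
theorem AbConj.over_prime [Finite G] [Group.IsSolvable G] (h : AbConj G) {r : ℕ}
    [hr : Fact r.Prime] {N X : Subgroup G} [N.Normal] (hNr : Nat.card N = r) (hNX : N ≤ X)
    (hab : ∀ a ∈ X, ∀ b ∈ X, a * b * (b * a)⁻¹ ∈ N) (hr2 : r * r ∣ Nat.card X) :
    Comm X ∨ (r = 2 ∧ (∃ P : Sylow r G, QEight (P : Subgroup G)) ∧
      ∃ D : Subgroup G, ∃ P : Sylow r G, Comm D ∧ X = D ⊔ (P : Subgroup G) ∧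
        8 * Nat.card D = Nat.card X ∧ (P : Subgroup G) ≤ Subgroup.centralizer (D : Set G)) := by
  obtain ⟨S₀⟩ : Nonempty (Sylow r X) := inferInstance
  set S := (S₀ : Subgroup X).map X.subtype with hSdef
  have hSX : S ≤ X := map_subtype_le _
  have hSr : IsPGroup r S := S₀.isPGroup'.map _
  have hScard : r * r ∣ Nat.card S := by
    rw [hSdef, card_map_of_injective X.subtype_injective, Sylow.card_eq_multiplicity, ← pow_two]
    refine pow_dvd_pow r ?_
    rw [← pow_two] at hr2
    exact (Nat.Prime.pow_dvd_iff_le_factorization hr.out Nat.card_pos.ne').mp hr2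
  obtain ⟨P, hSP⟩ := hSr.exists_le_sylow
  obtain ⟨n, hn⟩ := exists_prime_orderOf_dvd_card' r (hNr ▸ dvd_refl r : r ∣ Nat.card N)
  have hNn : zpowers (n : G) = N := Subgroup.eq_of_le_of_card_ge (zpowers_le.mpr n.2)
    (by rw [Nat.card_zpowers, orderOf_coe, hn, hNr])
  have hr2le : 2 ≤ r := hr.out.two_le
  have hnotel : ¬ ∀ x ∈ (P : Subgroup G), x ^ r = 1 := by
    intro hexp
    have hPN : (P : Subgroup G) ≤ N := fun x hx => by
      by_cases hx1 : x = 1
      · rw [hx1]; exact one_mem N
      exact h.mem_of_normal (by rw [orderOf_eq_prime (hexp x hx) hx1, orderOf_coe, hn]) n.2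
    have := card_le_of_le (hSP.trans hPN)
    have h2 := Nat.le_of_dvd Nat.card_pos hScard
    rw [hNr] at this
    nlinarith
  have hcyc : IsCyclic S ∨ (r = 2 ∧ QEight (P : Subgroup G) ∧ S = P) := by
    rcases h.sylowShape P with hc | he | ⟨h2, hQ⟩
    · exact Or.inl (isCyclic_of_injective (Subgroup.inclusion hSP) (inclusion_injective hSP))
    · exact absurd he.1 hnotel
    · exact (hQ.isCyclic_or_eq hSP).imp_right fun he => ⟨h2, hQ, he⟩
  haveI hnX : (N.subgroupOf X).Normal := inferInstance
  -- `N` is central in `X`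
  have hcomm : ∀ d x : G, d ∈ X → x ∈ X → ∃ m ∈ N, d * x * d⁻¹ = m * x := fun d x hd hx =>
    ⟨d * x * (x * d)⁻¹, hab d hd x hx, by group⟩
  have hnr : ∀ m ∈ N, m ^ r = 1 := fun m hm =>
    orderOf_dvd_iff_pow_eq_one.mp (hNr ▸ Subgroup.orderOf_dvd_natCard N hm)
  have hNS : N ≤ S := by
    haveI := hnX
    have hp : IsPGroup r (N.subgroupOf X) :=
      IsPGroup.of_card (n := 1) (by
        rw [Nat.card_congr (subgroupOfEquivOfLe hNX).toEquiv, hNr, pow_one])
    have h1 := hp.le_sylow_of_normal S₀
    rw [hSdef, ← map_subgroupOf_eq_of_le hNX]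
    exact map_mono h1
  have hcen : ∀ x ∈ X, ∀ m ∈ N, x * m = m * x := by
    suffices hle : (Subgroup.centralizer (N : Set G)).subgroupOf X = ⊤ from fun x hx m hm => by
      have := hle.ge (mem_top (⟨x, hx⟩ : X))
      exact (mem_centralizer_iff.mp this m hm).symm
    rcases hcyc with hc | ⟨rfl, -, -⟩
    · refine top_le_of_sylow_le S₀ ?_ ?_
      · intro s hs
        rw [mem_subgroupOf, mem_centralizer_iff]
        intro m hm
        exact comm_of_isMulCommutative (A := S) ⟨⟨fun a b => by
            haveI := hc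
            exact (IsCyclic.commGroup (α := S)).mul_comm a b⟩⟩
          m (hNS hm) (s : G) (mem_map_of_mem _ hs)
      · intro d hd
        rw [mem_subgroupOf, mem_centralizer_iff]
        -- a generator of `S`
        haveI := hc
        obtain ⟨u, hu⟩ := IsCyclic.exists_ofOrder_eq_natCard (α := S)
        obtain ⟨k, hk⟩ := IsPGroup.iff_card.mp hSr
        have hk2 : 2 ≤ k := by
          by_contra hk2
          have h2 := Nat.le_of_dvd Nat.card_pos hScard
          rw [hk] at h2
          have : r ^ k ≤ r ^ 1 := Nat.pow_le_pow_right hr.out.pos (by omega)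
          nlinarith
        have huo : orderOf (u : G) = r ^ k := by rw [orderOf_coe, hu, hk]
        have hNu : N ≤ zpowers ((u : G) ^ r) := by
          have h1 : orderOf ((u : G) ^ r ^ (k - 1)) = r := by
            rw [exists_orderOf_pow_eq hr.out huo (j := 1) (by omega), pow_one]
          have h2 : zpowers ((u : G) ^ r ^ (k - 1)) = N :=
            CfsgLib.OddOrder.eq_of_card_eq_of_isCyclic (C := S)
              (zpowers_le.mpr (pow_mem u.2 _)) hNS (by rw [Nat.card_zpowers, h1, hNr])
          rw [← h2, show r ^ (k - 1) = r * r ^ (k - 2) by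
            rw [show k - 1 = k - 2 + 1 by omega, pow_succ'], pow_mul]
          exact zpowers_le.mpr (pow_mem (mem_zpowers _) _)
        obtain ⟨m, hm, hmu⟩ := hcomm d u d.2 (hSX u.2)
        have hmc : Commute m (u : G) :=
          comm_of_isMulCommutative (A := S) ⟨⟨fun a b =>
            (IsCyclic.commGroup (α := S)).mul_comm a b⟩⟩ m (hNS hm) u u.2
        have hfix : (d : G) * (u : G) ^ r * (d : G)⁻¹ = (u : G) ^ r := by
          rw [← conj_pow, hmu, hmc.mul_pow, hnr m hm, one_mul]
        intro x hx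
        obtain ⟨i, rfl⟩ := mem_zpowers_iff.mp (hNu hx)
        have : Commute (d : G) ((u : G) ^ r) := mul_inv_eq_iff_eq_mul.mp hfix
        exact ((this.zpow_right i).eq).symm
    · rw [eq_top_iff]
      intro x _
      rw [mem_subgroupOf, mem_centralizer_iff]
      intro m hm
      by_cases hm1 : m = 1
      · simp [hm1]
      have hcm : (x : G) * m * (x : G)⁻¹ ∈ N := Subgroup.Normal.conj_mem inferInstance m hm _
      have hne : (x : G) * m * (x : G)⁻¹ ≠ 1 := fun he => hm1 (conj_eq_one_iff.mp he)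
      have key : (x : G) * m * (x : G)⁻¹ = m := by
        obtain ⟨a, b, hab', hall⟩ := Nat.card_eq_two_iff.mp hNr
        have h1 : ∀ y : N, y = a ∨ y = b := fun y => by
          have := Set.eq_univ_iff_forall.mp hall y
          simpa using this
        have hone := h1 1
        have h3 := h1 ⟨m, hm⟩
        have h4 := h1 ⟨_, hcm⟩
        rcases hone with h5 | h5 <;> rcases h3 with h6 | h6 <;> rcases h4 with h7 | h7
        all_goals first
          | exact (congrArg Subtype.val (h7.trans h6.symm))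
          | exact absurd (congrArg Subtype.val (h6.trans h5.symm)) hm1
          | exact absurd (congrArg Subtype.val (h7.trans h5.symm)) hne
      rw [mul_inv_eq_iff_eq_mul] at key
      exact key.symm
  -- elements of order prime to `r` are central in `X`
  have hprime : ∀ a ∈ X, (orderOf a).Coprime r → ∀ b ∈ X, a * b = b * a := by
    intro a ha hao b hb
    obtain ⟨m, hm, hmb⟩ := hcomm a b ha hb
    exact commute_of_central_commutator hmb (hcen a ha m hm) hao (hnr m hm)
  rcases hcyc with hc | ⟨rfl, hQ, hSPeq⟩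
  · left
    haveI := hc
    have hScomm : Comm S := comm_of_isMulCommutative ⟨⟨fun a b =>
      (IsCyclic.commGroup (α := S)).mul_comm a b⟩⟩
    have h1 : (Subgroup.centralizer (S : Set G)).subgroupOf X = ⊤ := by
      refine top_le_of_sylow_le S₀ ?_ ?_
      · intro s hs
        rw [mem_subgroupOf, mem_centralizer_iff]
        intro t ht
        exact hScomm t ht _ (mem_map_of_mem _ hs)
      · intro d hd
        rw [mem_subgroupOf, mem_centralizer_iff]
        intro t ht
        exact (hprime d d.2 (by rwa [orderOf_coe]) t (hSX ht)).symm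
    have h2 : (Subgroup.centralizer (X : Set G)).subgroupOf X = ⊤ := by
      refine top_le_of_sylow_le S₀ ?_ ?_
      · intro s hs
        rw [mem_subgroupOf, mem_centralizer_iff]
        intro t ht
        exact (mem_centralizer_iff.mp (h1.ge (mem_top (⟨t, ht⟩ : X))) _ (mem_map_of_mem _ hs)).symm
      · intro d hd
        rw [mem_subgroupOf, mem_centralizer_iff]
        intro t ht
        exact (hprime d d.2 (by rwa [orderOf_coe]) t ht).symm
    intro a ha b hb
    exact (mem_centralizer_iff.mp (h2.ge (mem_top (⟨a, ha⟩ : X))) b hb).symm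
  · right
    set D := primeTo X 2 hprime with hDdef
    have hPX : (P : Subgroup G) ≤ X := hSPeq ▸ hSX
    have hPc : (P : Subgroup G) ≤ Subgroup.centralizer (D : Set G) := fun x hx =>
      mem_centralizer_iff.mpr fun a ha => hprime a ha.1 ha.2 x (hPX hx)
    have hinf : (P : Subgroup G) ⊓ D = ⊥ := by
      rw [eq_bot_iff]
      rintro x ⟨hxP, hxD⟩
      rcases hQ.orderOf_eq hxP with h1 | h1 | h1
      · exact h1
      all_goals exact absurd (h1 ▸ hxD.2 : Nat.Coprime _ 2) (by norm_num)
    have hnorm : (P : Subgroup G) ≤ Subgroup.normalizer (D : Set G) :=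
      hPc.trans (centralizer_le_normalizer _)
    have hX : X = D ⊔ (P : Subgroup G) := by
      refine le_antisymm ?_ (sup_le (fun a ha => ha.1) hPX)
      have h1 : (D ⊔ (P : Subgroup G)).subgroupOf X = ⊤ := by
        refine top_le_of_sylow_le S₀ ?_ ?_
        · intro s hs
          exact mem_sup_right (hSPeq ▸ mem_map_of_mem _ hs)
        · intro d hd
          exact mem_sup_left ⟨d.2, by rw [Subgroup.coe_subtype, orderOf_coe]; exact hd⟩
      exact Subgroup.subgroupOf_eq_top.mp h1
    refine ⟨rfl, ⟨P, hQ⟩, D, P, fun a ha b hb => hprime a ha.1 ha.2 b hb.1, hX, ?_, hPc⟩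
    rw [hX, sup_comm, card_sup_of_inf_eq_bot hnorm hinf, hQ.card]

theorem conj_smul_sylow_le {C : Subgroup G} [Finite G] {p : ℕ} [Fact p.Prime] (P Q : Sylow p G)
    (hP : (P : Subgroup G) ≤ C) (hQ : (Q : Subgroup G) ≤ C) :
    ∃ c ∈ C, MulAut.conj c • (P : Subgroup G) = Q := by
  obtain ⟨c, hc⟩ := MulAction.exists_smul_eq C (P.subtype hP) (Q.subtype hQ)
  refine ⟨c, c.2, ?_⟩
  have h' := conj_smul_map C.subtype c ((P : Subgroup G).subgroupOf C)
  have h1 : MulAut.conj c • (P : Subgroup G).subgroupOf C = (Q : Subgroup G).subgroupOf C := by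
    have := congrArg (fun T : Sylow p C => (T : Subgroup C)) hc
    exact this
  rw [h1, map_subgroupOf_eq_of_le hP, map_subgroupOf_eq_of_le hQ] at h'
  exact h'

/-- the property passes to quotients by normal subgroups of prime order and by normal Hall
subgroups -/
theorem AbConj.quotient [Finite G] [Group.IsSolvable G] (h : AbConj G) {r : ℕ}
    [hr : Fact r.Prime] (N : Subgroup G) [N.Normal] (hN : IsPGroup r N)
    (hcase : (Nat.card N).Coprime N.index ∨ Nat.card N = r) : AbConj (G ⧸ N) := by
  intro A B hA hB hcard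
  set f := QuotientGroup.mk' N with hf
  have hsurj : Function.Surjective f := QuotientGroup.mk'_surjective N
  by_cases hcop : (Nat.card N).Coprime (Nat.card A)
  · obtain ⟨D, hD, hDc, hDf⟩ := exists_lift N hA hcop
    obtain ⟨E, hE, hEc, hEf⟩ := exists_lift N hB (hcard ▸ hcop)
    obtain ⟨g, hg⟩ := h D E hD hE (by rw [hDc, hEc, hcard])
    refine ⟨f g, ?_⟩
    rw [← hDf, ← hEf, ← hg]
    exact conj_smul_map f g D
  have hNr : Nat.card N = r := hcase.resolve_left fun h1 => hcop
    (h1.coprime_dvd_right (N.index_eq_card ▸ card_subgroup_dvd_card A))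
  have hrA : r ∣ Nat.card A := by
    rw [hNr, hr.out.coprime_iff_not_dvd, not_not] at hcop
    exact hcop
  have key : ∀ {A : Subgroup (G ⧸ N)}, Comm A → r ∣ Nat.card A →
      Nat.card ↥(A.comap f) = r * Nat.card A ∧
      (Comm (A.comap f) ∨ (r = 2 ∧ (∃ P : Sylow r G, QEight (P : Subgroup G)) ∧
        ∃ D : Subgroup G, ∃ P : Sylow r G, Comm D ∧ A.comap f = D ⊔ (P : Subgroup G) ∧
        8 * Nat.card D = Nat.card ↥(A.comap f) ∧
        (P : Subgroup G) ≤ Subgroup.centralizer (D : Set G))) := by
    intro A hA hrA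
    have hc : Nat.card ↥(A.comap f) = r * Nat.card A := by rw [card_comap_mk', hNr]
    refine ⟨hc, h.over_prime hNr (le_comap_mk' N A) (fun a ha b hb => ?_)
      (hc ▸ Nat.mul_dvd_mul_left r hrA)⟩
    rw [← QuotientGroup.ker_mk' N, MonoidHom.mem_ker, map_mul, map_inv, map_mul, map_mul,
      hA _ ha _ hb, mul_inv_cancel]
  obtain ⟨hcA, hA'⟩ := key hA hrA
  obtain ⟨hcB, hB'⟩ := key hB (hcard ▸ hrA)
  suffices hg : ∃ g : G, MulAut.conj g • A.comap f = B.comap f by
    obtain ⟨g, hg⟩ := hg
    refine ⟨f g, ?_⟩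
    have := congrArg (Subgroup.map f) hg
    rwa [← conj_smul_map, map_comap_eq_self_of_surjective hsurj,
      map_comap_eq_self_of_surjective hsurj] at this
  have noQ : ∀ {X : Subgroup G}, Comm X →
      ∀ (P : Sylow r G), QEight (P : Subgroup G) → (P : Subgroup G) ≤ X → False := by
    intro X hX P hQ hle
    obtain ⟨x, hx, hx4⟩ := hQ.exists_four
    obtain ⟨w, hw, hwx⟩ := SetLike.not_le_iff_exists.mp (fun hh : (P : Subgroup G) ≤ zpowers x => by
      have := card_le_of_le hh
      rw [Nat.card_zpowers, hx4, hQ.card] at this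
      omega)
    have hw4 : orderOf w = 4 := by
      rcases hQ.orderOf_eq hw with h1 | h1 | h1
      · exact absurd (h1 ▸ one_mem _) hwx
      · have hx2 : orderOf (x ^ 2) = 2 := by
          rw [orderOf_pow, hx4]; norm_num
        exact absurd (hQ.uniq w hw _ (pow_mem hx 2) h1 hx2 ▸ pow_mem (mem_zpowers x) 2) hwx
      · exact h1
    have hc : Commute x w := hX x (hle hx) w (hle hw)
    have hsq : ∀ y ∈ (P : Subgroup G), orderOf y = 4 → orderOf (y ^ 2) = 2 := fun y _ hy => by
      rw [orderOf_pow, hy]; norm_num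
    have he : w ^ 2 = x ^ 2 := hQ.uniq _ (pow_mem hw 2) _ (pow_mem hx 2) (hsq w hw hw4) (hsq x hx hx4)
    have h2 : (w * x⁻¹) ^ 2 = 1 := by
      rw [hc.symm.inv_right.mul_pow, he, inv_pow, mul_inv_cancel]
    by_cases h1 : w * x⁻¹ = 1
    · exact hwx (mul_inv_eq_one.mp h1 ▸ mem_zpowers x)
    have := hQ.uniq _ (mul_mem hw (inv_mem hx)) _ (pow_mem hx 2)
      (orderOf_eq_prime h2 h1) (hsq x hx hx4)
    refine hwx ?_
    rw [eq_mul_of_mul_inv_eq this]
    exact mul_mem (pow_mem (mem_zpowers x) 2) (mem_zpowers x)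
  rcases hA' with hA' | ⟨-, ⟨P0, hP0⟩, D, P, hD, hXA, hDc, hPD⟩
  · rcases hB' with hB' | ⟨-, ⟨P0, hP0⟩, D, P, hD, hXB, hDc, hPD⟩
    · exact h _ _ hA' hB' (by rw [hcA, hcB, hcard])
    · -- a Sylow subgroup of order `8` lies in an abelian group
      exfalso
      obtain ⟨S⟩ : Nonempty (Sylow r ↥(A.comap f)) := inferInstance
      obtain ⟨P', hP'⟩ := (S.isPGroup'.map (A.comap f).subtype).exists_le_sylow
      obtain ⟨g, hg⟩ := MulAction.exists_smul_eq G P0 P'
      have hcP' : Nat.card (P' : Subgroup G) = 8 := by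
        rw [Sylow.card_eq_multiplicity, ← Sylow.card_eq_multiplicity P0, hP0.card]
      have h8 : 8 ∣ Nat.card ↥(A.comap f) := by
        rw [hcA, hcard, ← hcB, ← hDc]; exact dvd_mul_right 8 _
      have hS8 : 8 ≤ Nat.card S := by
        refine Nat.le_of_dvd Nat.card_pos ?_
        rw [Sylow.card_eq_multiplicity]
        have h2 : r = 2 := by
          have := hcP' ▸ (IsPGroup.iff_card.mp P'.isPGroup')
          obtain ⟨k, hk⟩ := this
          have h2 : (2 : ℕ) ∣ r ^ k := ⟨4, by rw [← hk]⟩
          exact ((Nat.prime_dvd_prime_iff_eq Nat.prime_two hr.out).mp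
            (Nat.prime_two.dvd_of_dvd_pow h2)).symm
        subst h2
        exact pow_dvd_pow 2 ((Nat.Prime.pow_dvd_iff_le_factorization (k := 3) Nat.prime_two
          Nat.card_pos.ne').mp h8)
      have heq : (S : Subgroup ↥(A.comap f)).map (A.comap f).subtype = P' :=
        Subgroup.eq_of_le_of_card_ge hP' (by
          rw [card_map_of_injective (A.comap f).subtype_injective, hcP']; exact hS8)
      have hle : (P' : Subgroup G) ≤ A.comap f := heq ▸ map_subtype_le _
      refine noQ (X := MulAut.conj g⁻¹ • A.comap f) ?_ P0 hP0 ?_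
      · intro a ha b hb
        rw [mem_smul_iff] at ha hb
        have := hA' _ ha _ hb
        simpa [mul_assoc] using congrArg (fun y => g⁻¹ * y * g) this
      · intro x hx
        rw [mem_smul_iff]
        refine hle ?_
        rw [← hg, Sylow.coe_subgroup_smul, mem_smul_iff]
        simpa [mul_assoc] using hx
  rcases hB' with hB' | ⟨-, -, E, Q, hE, hXB, hEc, hQE⟩
  · exfalso
    obtain ⟨S⟩ : Nonempty (Sylow r ↥(B.comap f)) := inferInstance
    obtain ⟨P', hP'⟩ := (S.isPGroup'.map (B.comap f).subtype).exists_le_sylow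
    obtain ⟨g, hg⟩ := MulAction.exists_smul_eq G P0 P'
    have hcP' : Nat.card (P' : Subgroup G) = 8 := by
      rw [Sylow.card_eq_multiplicity, ← Sylow.card_eq_multiplicity P0, hP0.card]
    have h8 : 8 ∣ Nat.card ↥(B.comap f) := by
      rw [hcB, ← hcard, ← hcA, ← hDc]; exact dvd_mul_right 8 _
    have hS8 : 8 ≤ Nat.card S := by
      refine Nat.le_of_dvd Nat.card_pos ?_
      rw [Sylow.card_eq_multiplicity]
      have h2 : r = 2 := by
        obtain ⟨k, hk⟩ := IsPGroup.iff_card.mp P'.isPGroup'
        rw [hcP'] at hk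
        have h2 : (2 : ℕ) ∣ r ^ k := ⟨4, by rw [← hk]⟩
        exact ((Nat.prime_dvd_prime_iff_eq Nat.prime_two hr.out).mp
          (Nat.prime_two.dvd_of_dvd_pow h2)).symm
      subst h2
      exact pow_dvd_pow 2 ((Nat.Prime.pow_dvd_iff_le_factorization (k := 3) Nat.prime_two
        Nat.card_pos.ne').mp h8)
    have heq : (S : Subgroup ↥(B.comap f)).map (B.comap f).subtype = P' :=
      Subgroup.eq_of_le_of_card_ge hP' (by
        rw [card_map_of_injective (B.comap f).subtype_injective, hcP']; exact hS8)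
    have hle : (P' : Subgroup G) ≤ B.comap f := heq ▸ map_subtype_le _
    refine noQ (X := MulAut.conj g⁻¹ • B.comap f) ?_ P0 hP0 ?_
    · intro a ha b hb
      rw [mem_smul_iff] at ha hb
      have := hB' _ ha _ hb
      simpa [mul_assoc] using congrArg (fun y => g⁻¹ * y * g) this
    · intro x hx
      rw [mem_smul_iff]
      refine hle ?_
      rw [← hg, Sylow.coe_subgroup_smul, mem_smul_iff]
      simpa [mul_assoc] using hx
  obtain ⟨g, hg⟩ := h D E hD hE (by
    have : 8 * Nat.card D = 8 * Nat.card E := by rw [hDc, hEc, hcA, hcB, hcard]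
    omega)
  have hP1 : ((g • P : Sylow r G) : Subgroup G) ≤ Subgroup.centralizer (E : Set G) := by
    rw [Sylow.coe_subgroup_smul]
    intro x hx
    rw [mem_smul_iff] at hx
    rw [mem_centralizer_iff]
    intro e he
    rw [← hg, SetLike.mem_coe, mem_smul_iff] at he
    have := mem_centralizer_iff.mp (hPD hx) _ he
    simpa [mul_assoc] using congrArg (fun y => g * y * g⁻¹) this
  obtain ⟨c, hc, hcP⟩ := conj_smul_sylow_le (g • P) Q hP1 hQE
  refine ⟨c * g, ?_⟩
  rw [map_mul, mul_smul, hXA, hXB, Subgroup.smul_sup, Subgroup.smul_sup, hg,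
    conj_smul_eq_self_of_mem_normalizer (centralizer_le_normalizer _ hc)]
  rw [Sylow.coe_subgroup_smul] at hcP
  rw [hcP]

end CfsgLib.SolvStruct.AbConj
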