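import Cfsg.Agent.Lib.SolvStruct.ItoAbelian
import Cfsg.Agent.Lib.SolvStruct.Factorization
import Cfsg.Agent.Lib.Base.MinimalNormal
import Cfsg.Agent.Lib.Base.Cores

/-!
# A product of two abelian subgroups has a normal subgroup inside a factor
-/

set_option autoImplicit false
set_option linter.style.haveILetI false

open scoped commutatorElement

namespace CfsgLib.SolvStruct

variable {G : Type*} [Group G] {A B N : Subgroup G}

theorem eq_one_of_mem_center_of_no_normal (hB : ∀ K : Subgroup G, K.Normal → K ≤ B → K = ⊥)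
    {b : G} (hb : b ∈ B) (hc : b ∈ Subgroup.center G) : b = 1 := by
  have h := hB _ (CfsgLib.Base.normal_of_le_center (Subgroup.zpowers_le.2 hc))
    (Subgroup.zpowers_le.2 hb)
  rwa [Subgroup.zpowers_eq_bot] at h

theorem centralizer_le_of_no_normal [IsMulCommutative A] [IsMulCommutative B]
    (hAB : ∀ g : G, ∃ a ∈ A, ∃ b ∈ B, g = a * b)
    (hB : ∀ K : Subgroup G, K.Normal → K ≤ B → K = ⊥) :
    Subgroup.centralizer (A : Set G) ≤ A := by
  intro x hx
  obtain ⟨a, ha, b, hb, rfl⟩ := hAB x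
  have hbA : b ∈ Subgroup.centralizer (A : Set G) :=
    (Subgroup.mul_mem_cancel_left _ (A.le_centralizer ha)).1 hx
  have hbc : b ∈ Subgroup.center G := by
    rw [Subgroup.mem_center_iff]
    intro g
    obtain ⟨c, hc, d, hd, rfl⟩ := hAB g
    have h1 : c * b = b * c := Subgroup.mem_centralizer_iff.1 hbA c hc
    have h2 : d * b = b * d := Subgroup.mem_centralizer_iff.1 (B.le_centralizer hb) d hd
    rw [mul_assoc, h2, ← mul_assoc, h1, mul_assoc]
  rw [eq_one_of_mem_center_of_no_normal hB hb hbc, mul_one]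
  exact ha

theorem inf_eq_bot_of_no_normal [IsMulCommutative A] [IsMulCommutative B]
    (hAB : ∀ g : G, ∃ a ∈ A, ∃ b ∈ B, g = a * b)
    (hA : ∀ K : Subgroup G, K.Normal → K ≤ A → K = ⊥) : A ⊓ B = ⊥ := by
  refine hA _ (CfsgLib.Base.normal_of_le_center fun x hx => ?_) inf_le_left
  rw [Subgroup.mem_center_iff]
  intro g
  obtain ⟨c, hc, d, hd, rfl⟩ := hAB g
  have h1 : c * x = x * c := Subgroup.mem_centralizer_iff.1 (A.le_centralizer hx.1) c hc
  have h2 : d * x = x * d := Subgroup.mem_centralizer_iff.1 (B.le_centralizer hx.2) d hd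
  rw [mul_assoc, h2, ← mul_assoc, h1, mul_assoc]

/-- No nontrivial element of `A` centralises `G'`, and `A ∩ G' = 1`. -/
theorem inf_commutator_of_no_normal [IsMulCommutative A] [IsMulCommutative B]
    [IsMulCommutative (commutator G)]
    (hAB : ∀ g : G, ∃ a ∈ A, ∃ b ∈ B, g = a * b)
    (hA : ∀ K : Subgroup G, K.Normal → K ≤ A → K = ⊥)
    (hB : ∀ K : Subgroup G, K.Normal → K ≤ B → K = ⊥) :
    A ⊓ commutator G = ⊥ ∧
      A ⊓ Subgroup.centralizer ((commutator G : Subgroup G) : Set G) = ⊥ := by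
  set F := commutator G with hF
  set H := A ⊔ F with hH
  haveI hn : H.Normal := Subgroup.Normal.of_commutator_le G le_sup_right
  set X := H ⊓ Subgroup.centralizer (H : Set G) with hX
  haveI : X.Normal := inferInstance
  have hXA : X ≤ A :=
    (inf_le_right.trans (Subgroup.centralizer_le (show (A : Set G) ⊆ H from
      fun _ h => Subgroup.mem_sup_left h))).trans (centralizer_le_of_no_normal hAB hB)
  have hX0 : X = ⊥ := hA X inferInstance hXA
  have key : ∀ a ∈ A, a ∈ Subgroup.centralizer (F : Set G) → a = 1 := by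
    intro a ha hc
    have : a ∈ X := by
      refine ⟨Subgroup.mem_sup_left ha, ?_⟩
      have hle : H ≤ Subgroup.centralizer ({a} : Set G) := sup_le
        (fun x hx => Subgroup.mem_centralizer_singleton_iff.2
          (Subgroup.mem_centralizer_iff.1 (A.le_centralizer hx) a ha).symm)
        (fun x hx => Subgroup.mem_centralizer_singleton_iff.2
          (Subgroup.mem_centralizer_iff.1 hc x hx))
      exact Subgroup.mem_centralizer_iff.2 fun y hy =>
        Subgroup.mem_centralizer_singleton_iff.1 (hle hy)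
    rw [hX0, Subgroup.mem_bot] at this
    exact this
  exact ⟨(Subgroup.eq_bot_iff_forall _).2 fun a ha => key a ha.1 (F.le_centralizer ha.2),
    (Subgroup.eq_bot_iff_forall _).2 fun a ha => key a ha.1 ha.2⟩

/-- If `M = NB` with `N ∩ B = 1 = A ∩ B` then `|A ∩ NB| ∣ |N|`. -/
theorem card_inf_sup_dvd [Finite G] [N.Normal] (hNB : N ⊓ B = ⊥) (hABb : A ⊓ B = ⊥) :
    Nat.card (A ⊓ (N ⊔ B) : Subgroup G) ≤ Nat.card N := by
  have key : ∀ s : (A ⊓ (N ⊔ B) : Subgroup G), ∃ n : N, ∃ b ∈ B, (n : G) * b = s := fun s => by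
    obtain ⟨n, hn, b, hb, he⟩ := Subgroup.mem_sup_of_normal_left.1 (Subgroup.mem_inf.1 s.2).2
    exact ⟨⟨n, hn⟩, b, hb, he⟩
  choose f g hg hfg using key
  refine Nat.card_le_card_of_injective f fun s t hst => Subtype.ext ?_
  have hmem : (s : G)⁻¹ * t ∈ A ⊓ B := by
    refine ⟨A.mul_mem (A.inv_mem (Subgroup.mem_inf.1 s.2).1) (Subgroup.mem_inf.1 t.2).1, ?_⟩
    rw [SetLike.mem_coe, ← hfg s, ← hfg t, hst]
    have := B.mul_mem (B.inv_mem (hg s)) (hg t)
    simpa [mul_assoc] using this
  rw [hABb, Subgroup.mem_bot, inv_mul_eq_one] at hmem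
  exact hmem

/-- Itô: a nontrivial product of two abelian subgroups has a nontrivial normal subgroup in one of
the factors. -/
theorem exists_normal_le_factor [Finite G] [Nontrivial G] (A B : Subgroup G) [IsMulCommutative A]
    [IsMulCommutative B] (hAB : ∀ g : G, ∃ a ∈ A, ∃ b ∈ B, g = a * b) :
    ∃ N : Subgroup G, N.Normal ∧ N ≠ ⊥ ∧ (N ≤ A ∨ N ≤ B) := by
  by_contra hno
  push Not at hno
  have hA : ∀ K : Subgroup G, K.Normal → K ≤ A → K = ⊥ := fun K hK hle =>
    by_contra fun h => (hno K hK h).1 hle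
  have hB : ∀ K : Subgroup G, K.Normal → K ≤ B → K = ⊥ := fun K hK hle =>
    by_contra fun h => (hno K hK h).2 hle
  have hBA := factor_symm hAB
  set F := commutator G with hF
  have hFc : IsMulCommutative F := by
    refine ⟨⟨fun a b => Subtype.ext (commutatorElement_eq_one_iff_mul_comm.1 ?_)⟩⟩
    rw [← Subgroup.mem_bot, ← derivedSeries_two_eq_bot_of_abelian_factorisation A B hAB,
      derivedSeries_succ, derivedSeries_one]
    exact Subgroup.commutator_mem_commutator a.2 b.2
  haveI := hFc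
  obtain ⟨hAF, hAC⟩ := inf_commutator_of_no_normal hAB hA hB
  obtain ⟨hBF, -⟩ := inf_commutator_of_no_normal hBA hB hA
  have hAB0 := inf_eq_bot_of_no_normal hAB hA
  have hFne : F ≠ ⊥ := by
    intro h0
    obtain ⟨x, hx⟩ := exists_ne (1 : G)
    obtain ⟨a, ha, b, hb, rfl⟩ := hAB x
    have hcen : ∀ z : G, z ∈ Subgroup.center G := fun z => Subgroup.mem_center_iff.2 fun g => by
      rw [← commutatorElement_eq_one_iff_mul_comm, ← Subgroup.mem_bot, ← h0]
      exact Subgroup.commutator_mem_commutator (Subgroup.mem_top _) (Subgroup.mem_top _)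
    rw [eq_one_of_mem_center_of_no_normal hA ha (hcen a),
      eq_one_of_mem_center_of_no_normal hB hb (hcen b), mul_one] at hx
    exact hx rfl
  haveI : Group.IsSolvable G := (Group.isSolvable_def G).2
    ⟨2, derivedSeries_two_eq_bot_of_abelian_factorisation A B hAB⟩
  obtain ⟨N, hNF, hN⟩ := CfsgLib.Base.exists_isMinimalNormal_le hFne
  haveI := hN.normal
  obtain ⟨p, hp, -, -, hNp⟩ := hN.exists_prime inferInstance
  haveI := Fact.mk hp
  obtain ⟨n, hn, hn1⟩ := (Subgroup.bot_or_exists_ne_one N).resolve_left hN.ne_bot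
  obtain ⟨a, ha, b, hb, rfl⟩ := hAB n
  have hNA : N ⊓ A = ⊥ := le_bot_iff.1 (hAF ▸ le_inf inf_le_right (inf_le_left.trans hNF))
  have hNB : N ⊓ B = ⊥ := le_bot_iff.1 (hBF ▸ le_inf inf_le_right (inf_le_left.trans hNF))
  have ha1 : a ≠ 1 := by
    rintro rfl
    rw [one_mul] at hn hn1
    exact hn1 (Subgroup.mem_bot.1 (hNB ▸ (⟨hn, hb⟩ : b ∈ N ⊓ B)))
  -- elements of `p`-power order centralise `N`
  have hpc : ∀ x : G, (∃ k : ℕ, x ^ p ^ k = 1) → ∀ y ∈ N, x * y = y * x := by
    intro x hx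
    set C := N ⊓ Subgroup.centralizer ({x} : Set G) with hC
    have hCn : C.Normal := by
      refine ⟨fun y hy g => ⟨hN.normal.conj_mem y hy.1 g, ?_⟩⟩
      refine Subgroup.mem_centralizer_singleton_iff.2 ?_
      have hy' : y * x = x * y := Subgroup.mem_centralizer_singleton_iff.1 hy.2
      have hc : x⁻¹ * g⁻¹ * x * g ∈ F := by
        have := Subgroup.commutator_mem_commutator
          (Subgroup.mem_top x⁻¹) (Subgroup.mem_top g⁻¹) (H₁ := (⊤ : Subgroup G))
        rw [commutatorElement_def, inv_inv, inv_inv] at this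
        exact this
      have hcy : x⁻¹ * g⁻¹ * x * g * y = y * (x⁻¹ * g⁻¹ * x * g) :=
        congrArg Subtype.val (hFc.is_comm.comm (⟨_, hc⟩ : F) ⟨_, hNF hy.1⟩)
      symm
      calc x * (g * y * g⁻¹) = g * (x * (x⁻¹ * g⁻¹ * x * g * y)) * g⁻¹ := by group
        _ = g * (x * y) * (x⁻¹ * g⁻¹ * x * g) * g⁻¹ := by rw [hcy]; group
        _ = g * (y * x) * (x⁻¹ * g⁻¹ * x * g) * g⁻¹ := by rw [hy']
        _ = _ := by group
    have hCne : C ≠ ⊥ := by
      intro h0
      obtain ⟨k, hk⟩ := hx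
      have hxp : IsPGroup p (Subgroup.zpowers x) := fun z => ⟨k, by
        obtain ⟨z, i, rfl⟩ := z
        refine Subtype.ext ?_
        show (x ^ i) ^ p ^ k = 1
        rw [← zpow_natCast (x ^ i), zpow_comm, zpow_natCast, hk, one_zpow]⟩
      letI : MulAction (Subgroup.zpowers x) N :=
        MulAction.compHom N ((MulAut.conjNormal (H := N)).comp (Subgroup.zpowers x).subtype)
      have hdvd : p ∣ Nat.card N := by
        rcases hNp.card_eq_or_dvd with h | h
        · exact absurd (Subgroup.card_eq_one.1 h) hN.ne_bot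
        · exact h
      have hfix : (1 : N) ∈ MulAction.fixedPoints (Subgroup.zpowers x) N := fun r =>
        map_one (MulAut.conjNormal (H := N) (r : G))
      obtain ⟨y, hy, hy1⟩ := hxp.exists_fixed_point_of_prime_dvd_card_of_fixed_point N hdvd hfix
      refine hy1 (Subtype.ext (Eq.symm ?_))
      have hm : (y : G) ∈ C := by
        refine ⟨y.2, Subgroup.mem_centralizer_singleton_iff.2 ?_⟩
        have h2 := congrArg Subtype.val (hy ⟨x, Subgroup.mem_zpowers x⟩)
        exact (mul_inv_eq_iff_eq_mul.1 (h2 : x * (y : G) * x⁻¹ = (y : G))).symm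
      rw [h0, Subgroup.mem_bot] at hm
      exact hm
    intro y hy
    have hy' : y ∈ C := ((hN.eq_bot_or_eq hCn inf_le_left).resolve_left hCne).symm ▸ hy
    exact (Subgroup.mem_centralizer_singleton_iff.1 hy'.2).symm
  -- `a` and `b` are `p`-elements
  obtain ⟨j, hj⟩ := IsPGroup.iff_card.1 hNp
  have haS : a ∈ A ⊓ (N ⊔ B) := by
    refine ⟨ha, ?_⟩
    have h := mul_mem (Subgroup.mem_sup_left (T := B) hn) (Subgroup.mem_sup_right (inv_mem hb))
    simpa using h
  -- `A ∩ NB` has order `|N|`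
  set T := A ⊓ (N ⊔ B) with hT
  have hTle := card_inf_sup_dvd (A := A) hNB hAB0
  have hNle : Nat.card N ≤ Nat.card T := by
    have key : ∀ x : N, ∃ t : T, ∃ c ∈ B, (t : G) * c = x := fun x => by
      obtain ⟨a', ha', b', hb', he⟩ := hAB (x : G)
      refine ⟨⟨a', ha', ?_⟩, b', hb', he.symm⟩
      have h := mul_mem (Subgroup.mem_sup_left (T := B) x.2) (Subgroup.mem_sup_right (inv_mem hb'))
      rw [he] at h
      simpa using h
    choose f g hg hfg using key
    refine Nat.card_le_card_of_injective f fun s t hst => Subtype.ext ?_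
    have hmem : (s : G)⁻¹ * t ∈ N ⊓ B := by
      refine ⟨N.mul_mem (N.inv_mem s.2) t.2, ?_⟩
      rw [SetLike.mem_coe, ← hfg s, ← hfg t, hst]
      have := B.mul_mem (B.inv_mem (hg s)) (hg t)
      simpa [mul_assoc] using this
    rw [hNB, Subgroup.mem_bot, inv_mul_eq_one] at hmem
    exact hmem
  have hap : a ^ p ^ j = 1 := by
    have h := pow_card_eq_one' (G := T) (x := ⟨a, haS⟩)
    rw [le_antisymm hTle hNle, hj] at h
    exact congrArg Subtype.val h
  obtain ⟨P, Q, R, hPR, hQR, hR⟩ := exists_sylow_mul hAB p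
  have haR : ∀ r ∈ (R : Subgroup G), a * r = r * a := by
    intro r hr
    obtain ⟨_, ⟨x, hx, rfl⟩, _, ⟨y, hy, rfl⟩, rfl⟩ := hR r hr
    have h1 : a * (x : G) = (x : G) * a :=
      (Subgroup.mem_centralizer_iff.1 (A.le_centralizer ha) x x.2).symm
    have h2 : a * (y : G) = (y : G) * a := by
      obtain ⟨k, hk⟩ := Q.isPGroup' ⟨y, hy⟩
      have hyp : (y : G) ^ p ^ k = 1 := congrArg (fun z : (Q : Subgroup B) => ((z : B) : G)) hk
      have e1 := hpc (y : G) ⟨k, hyp⟩ (a * b) hn
      have e2 : b * (y : G) = (y : G) * b :=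
        (Subgroup.mem_centralizer_iff.1 (B.le_centralizer hb) y y.2).symm
      apply mul_right_cancel (b := b)
      calc a * (y : G) * b = a * ((y : G) * b) := mul_assoc _ _ _
        _ = (y : G) * (a * b) := by rw [← e2, ← mul_assoc, ← e1]
        _ = (y : G) * a * b := (mul_assoc _ _ _).symm
    show a * ((x : G) * (y : G)) = (x : G) * (y : G) * a
    rw [← mul_assoc, h1, mul_assoc, h2, ← mul_assoc]
  -- `a` commutes with everything modulo `N`
  have hcent : ∀ g : G, ⁅a, g⁆ ∈ N := by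
    intro g
    obtain ⟨c, hc, d, hd, rfl⟩ := hAB g
    rw [← QuotientGroup.eq_one_iff, ← QuotientGroup.mk'_apply, map_commutatorElement,
      commutatorElement_eq_one_iff_mul_comm, map_mul]
    set π := QuotientGroup.mk' N with hπ
    have e0 : π a = π b⁻¹ := by
      rw [map_inv, eq_inv_iff_mul_eq_one, ← map_mul]
      exact (QuotientGroup.eq_one_iff _).2 hn
    have e1 : π a * π c = π c * π a := by
      rw [← map_mul, ← map_mul,
        (Subgroup.mem_centralizer_iff.1 (A.le_centralizer ha) c hc)]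
    have e2 : π a * π d = π d * π a := by
      rw [e0, ← map_mul, ← map_mul,
        (Subgroup.mem_centralizer_iff.1 (B.le_centralizer (inv_mem hb)) d hd)]
    rw [← mul_assoc, e1, mul_assoc, e2, ← mul_assoc]
  have haF : a ∈ Subgroup.centralizer (F : Set G) := by
    refine Subgroup.mem_centralizer_iff.2 fun f hf => Eq.symm ?_
    have hf' : f ∈ F := hf
    obtain ⟨k, r, hr, hkr⟩ := Nat.exists_eq_pow_mul_and_not_dvd (orderOf_pos f).ne' p hp.ne_one
    -- `f ^ r` lies in the normal `p`-part of `F`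
    have hfr : a * f ^ r = f ^ r * a := by
      let E : Subgroup G :=
        { carrier := {x | x ∈ F ∧ x ^ p ^ k = 1}
          one_mem' := ⟨F.one_mem, one_pow _⟩
          mul_mem' := fun {x y} hx hy => ⟨F.mul_mem hx.1 hy.1, by
            rw [Commute.mul_pow (congrArg Subtype.val (hFc.is_comm.comm (⟨x, hx.1⟩ : F) ⟨y, hy.1⟩)),
              hx.2, hy.2, one_mul]⟩
          inv_mem' := fun {x} hx => ⟨F.inv_mem hx.1, by rw [inv_pow, hx.2, inv_one]⟩ }
      haveI : E.Normal := ⟨fun x hx g => ⟨(inferInstance : F.Normal).conj_mem x hx.1 g, by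
        rw [conj_pow, hx.2, mul_one, mul_inv_cancel]⟩⟩
      have hE : IsPGroup p E := fun x => ⟨k, Subtype.ext x.2.2⟩
      have hmem : f ^ r ∈ E := ⟨F.pow_mem hf' r, by
        rw [← pow_mul, mul_comm, ← hkr, pow_orderOf_eq_one]⟩
      exact haR _ (((CfsgLib.Base.le_pCore hE).trans (CfsgLib.Base.pCore_le_sylow R)) hmem)
    have hc0 : ⁅a, f⁆ ∈ N := hcent f
    have hpow : ∀ i : ℕ, ⁅a, f ^ i⁆ = ⁅a, f⁆ ^ i := by
      intro i
      induction i with
      | zero => simp
      | succ i ih =>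
        have hcm : f ^ i * ⁅a, f⁆ = ⁅a, f⁆ * f ^ i :=
          congrArg Subtype.val (hFc.is_comm.comm (⟨_, F.pow_mem hf' i⟩ : F) ⟨_, hNF hc0⟩)
        calc ⁅a, f ^ (i + 1)⁆ = ⁅a, f ^ i⁆ * (f ^ i * ⁅a, f⁆ * (f ^ i)⁻¹) := by
              rw [pow_succ, commutatorElement_def, commutatorElement_def, commutatorElement_def]
              group
          _ = _ := by rw [hcm, mul_inv_cancel_right, ih, pow_succ]
    have h1 : ⁅a, f⁆ ^ r = 1 := by
      rw [← hpow, commutatorElement_eq_one_iff_mul_comm]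
      exact hfr
    have h2 : ⁅a, f⁆ ^ p ^ j = 1 := by
      have h := pow_card_eq_one' (G := N) (x := ⟨_, hc0⟩)
      rw [hj] at h
      exact congrArg Subtype.val h
    have hco : (p ^ j).Coprime r := Nat.Coprime.pow_left _ ((Nat.Prime.coprime_iff_not_dvd hp).2 hr)
    have := pow_gcd_eq_one.2 ⟨h2, h1⟩
    rw [hco.gcd_eq_one, pow_one] at this
    exact commutatorElement_eq_one_iff_mul_comm.1 this
  exact ha1 (Subgroup.mem_bot.1 (hAC ▸ (⟨ha, haF⟩ : a ∈ A ⊓ Subgroup.centralizer (F : Set G))))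

end CfsgLib.SolvStruct
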