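import Mathlib
import Cfsg.Prelude.Def_Solvable
import Cfsg.Agent.Lib.Base.Fitting
import Cfsg.Agent.Lib.Coprime.Action

/-!
Normal subgroups `N` such that all elements of a coset `xN`, `x ∉ N`, have the same order.
-/

set_option autoImplicit false
set_option linter.style.haveILetI false
set_option linter.unusedSectionVars false

namespace CfsgLib.CosetOrder

open Subgroup Cfsg CfsgLib.Base
open scoped commutatorElement

variable {G : Type*} [Group G] [Finite G]

/-- No element outside `N` commutes with a non-identity element of `N` of coprime order. -/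
theorem eq_one_of_commute_coprime {N : Subgroup G}
    (heq : ∀ x : G, x ∉ N → ∀ n ∈ N, orderOf (x * n) = orderOf x) {x n : G} (hx : x ∉ N)
    (hn : n ∈ N) (hc : Commute x n) (hcop : Nat.Coprime (orderOf x) (orderOf n)) : n = 1 := by
  have h := heq x hx n hn
  rw [hc.orderOf_mul_eq_mul_orderOf_of_coprime hcop] at h
  exact orderOf_eq_one_iff.1 (Nat.eq_of_mul_eq_mul_left (orderOf_pos x) (by rw [h, mul_one]))

theorem isPGroup_of_forall_prime {p : ℕ} [Fact p.Prime] {N : Subgroup G}
    (h : ∀ q : ℕ, q.Prime → q ∣ Nat.card N → q = p) : IsPGroup p N :=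
  IsPGroup.iff_card.2 ⟨(Nat.card N).primeFactorsList.length, Nat.eq_prime_pow_of_unique_prime_dvd
    Nat.card_pos.ne' fun {q} hq hd => h q hq hd⟩

/-- If some `O_p(G)` is not contained in `N`, then `N` is a `p`-group. -/
theorem isPGroup_of_pCore_not_le {N : Subgroup G} [N.Normal]
    (heq : ∀ x : G, x ∉ N → ∀ n ∈ N, orderOf (x * n) = orderOf x) {p : ℕ} [hp : Fact p.Prime]
    (h : ¬ pCore p G ≤ N) : IsPGroup p N := by
  refine isPGroup_of_forall_prime fun q hq hd => by_contra fun hqp => h ?_
  haveI := Fact.mk hq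
  obtain ⟨y, hy⟩ := exists_prime_orderOf_dvd_card' (G := N) q hd
  have hyq : orderOf (y : G) = q := by rw [Subgroup.orderOf_coe, hy]
  have hT : IsPGroup p (pCore p G) := isPGroup_pCore p G
  have hn : zpowers (y : G) ≤ normalizer (pCore p G : Set G) := by
    haveI := pCore_normal p G
    rw [normalizer_eq_top_iff.2 inferInstance]; exact le_top
  have hcop : (Nat.card (zpowers (y : G))).Coprime (Nat.card (pCore p G)) := by
    obtain ⟨k, hk⟩ := IsPGroup.iff_card.1 hT
    rw [Nat.card_zpowers, hyq, hk]
    exact ((Nat.coprime_primes hq hp.out).2 hqp).pow_right k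
  intro t ht
  obtain ⟨c, hc, hdc⟩ := CfsgLib.Coprime.exists_commutator_mul_centralizer hn hcop
    (Or.inl inferInstance) ht
  have h1 : ⁅pCore p G, zpowers (y : G)⁆ ≤ N :=
    (commutator_mono le_rfl (zpowers_le.2 y.2)).trans (commutator_le_right _ _)
  have hcN : c ∈ N := by
    by_contra hcn
    have hcomm : Commute c (y : G) :=
      (mem_centralizer_iff.1 hc.2 y (mem_zpowers _)).symm
    obtain ⟨j, hj⟩ := IsPGroup.iff_card.1 hT
    have hco : Nat.Coprime (orderOf c) (orderOf (y : G)) := by
      rw [hyq]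
      refine Nat.Coprime.coprime_dvd_left (Subgroup.orderOf_dvd_natCard _ hc.1) ?_
      rw [hj]
      exact ((Nat.coprime_primes hp.out hq).2 (Ne.symm hqp)).pow_left j
    have := eq_one_of_commute_coprime heq hcn y.2 hcomm hco
    rw [this, orderOf_one] at hyq
    exact hq.ne_one hyq.symm
  simpa using mul_mem (h1 hdc) hcN

theorem eq_bot_of_two_primes {H : Subgroup G} {p q : ℕ} [Fact p.Prime] [Fact q.Prime] (hpq : p ≠ q)
    (hp : IsPGroup p H) (hq : IsPGroup q H) : H = ⊥ :=
  disjoint_self.1 (IsPGroup.disjoint_of_ne p q hpq H H hp hq)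

end CfsgLib.CosetOrder
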