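import Cfsg.Agent.Lib.SolvStruct.FourPrimesCaseII

/-!
A group with four primes pairwise joined in its spectrum, no three jointly, is not solvable.
-/

set_option autoImplicit false
set_option linter.unusedSectionVars false

namespace CfsgLib.FourPrimes

universe u

variable {H : Type u} [Group H] [Finite H] {σ : Finset ℕ}

theorem Cfg.two_core_pairs (C : Cfg H σ) {p t u : ℕ} (hp : p ∈ σ) (ht : t ∈ σ) (hu : u ∈ σ)
    (hpt : p ≠ t) (hpu : p ≠ u) (htu : t ≠ u) {P : Subgroup H} (hP : IsPGroup p P) (hP1 : P ≠ ⊥)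
    (hPn : ∀ g : H, g ∈ Subgroup.normalizer (P : Set H)) (K : Subgroup H)
    (hT : PairIn t (core K t)) (hU : PairIn u (core K u)) : False := by
  haveI := Fact.mk (C.prime p hp)
  haveI := Fact.mk (C.prime t ht)
  haveI := Fact.mk (C.prime u hu)
  obtain ⟨a, ha, a', ha', haa⟩ := hT
  obtain ⟨b, hb, b', hb', hbb⟩ := hU
  have hcomm := commute_of_disjoint_normalised
    (disjoint_of_pgroups htu (isPGroup_core K t) (isPGroup_core K u))
    ((core_le K u).trans (le_normalizer_core K t)) ((core_le K t).trans (le_normalizer_core K u))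
  obtain ⟨x, hx, hxP⟩ :=
    exists_fixes_pair hP hP1 (C.prime t ht) hpt.symm haa (hPn a) (hPn a')
  obtain ⟨hxT, hxo⟩ : x ∈ core K t ∧ orderOf x = t := by
    rcases hx with rfl | ⟨i, rfl⟩
    · exact ⟨ha, haa.1⟩
    · exact ⟨mul_mem ha' (pow_mem ha i), (haa.orderOf_mul (C.prime t ht) i).1⟩
  obtain ⟨v, hv, hv1, hvx⟩ := hxP
  have hU1 : P ⊓ Subgroup.centralizer ({x} : Set H) ≠ ⊥ := fun h => hv1
    (Subgroup.mem_bot.mp (h ▸ ⟨hv, Subgroup.mem_centralizer_singleton_iff.mpr hvx.eq⟩))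
  obtain ⟨y, hy, hyU⟩ := exists_fixes_pair (hP.to_le inf_le_left) hU1 (C.prime u hu) hpu.symm hbb
    (mem_normalizer_inf_centralizer (hPn b) (hcomm x hxT b hb).symm)
    (mem_normalizer_inf_centralizer (hPn b') (hcomm x hxT b' hb').symm)
  obtain ⟨hyT, hyo⟩ : y ∈ core K u ∧ orderOf y = u := by
    rcases hy with rfl | ⟨i, rfl⟩
    · exact ⟨hb, hbb.1⟩
    · exact ⟨mul_mem hb' (pow_mem hb i), (hbb.orderOf_mul (C.prime u hu) i).1⟩
  obtain ⟨w, hw, hwo, hwy⟩ := fixes_prime (hP.to_le inf_le_left) hyU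
  exact C.trip p hp t ht u hu hpt htu hpu w x y hwo hxo hyo
    (Subgroup.mem_centralizer_singleton_iff.mp hw.2) hwy (hcomm x hxT y hyT)

theorem core_le_hall {K J : Subgroup H} {π : Set ℕ} {t : ℕ} (ht : t.Prime) (htπ : t ∈ π)
    (hJK : J ≤ K)
    (hJ : ∀ U ≤ K, (∀ t : ℕ, t.Prime → t ∣ Nat.card U → t ∈ π) →
      ∃ g ∈ K, ∀ u ∈ U, g * u * g⁻¹ ∈ J) : core K t ≤ core J t := by
  haveI := Fact.mk ht
  obtain ⟨g, hg, h⟩ := hJ (core K t) (core_le K t) fun l hl hd => by
    obtain ⟨k, hk⟩ := IsPGroup.iff_card.mp (isPGroup_core K t)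
    rw [hk] at hd
    rw [(Nat.prime_dvd_prime_iff_eq hl ht).mp (hl.dvd_of_dvd_pow hd)]
    exact htπ
  refine le_core (fun x hx => ?_) (hJK.trans (le_normalizer_core K t)) (isPGroup_core K t)
  have h1 : g⁻¹ * x * g ∈ core K t := by
    simpa using (Subgroup.mem_normalizer_iff.mp (le_normalizer_core K t (inv_mem hg)) x).mp hx
  have := h _ h1
  simpa [mul_assoc] using this

theorem Cfg.false_of_solvable [Group.IsSolvable H] (C : Cfg H σ) : False := by
  have hne : (⊤ : Subgroup H) ≠ ⊥ := by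
    obtain ⟨a, ha⟩ := Finset.card_pos.mp (by rw [C.card]; norm_num : 0 < σ.card)
    obtain ⟨b, -, c, -, hbc⟩ := C.pairIn_top ha
    intro h
    exact ne_one_of_orderOf (C.prime a ha) hbc.1
      (Subgroup.mem_bot.mp (h ▸ Subgroup.mem_top b))
  obtain ⟨p, hpp, hpd, hP1⟩ := exists_core_ne_bot hne
  haveI := Fact.mk hpp
  have hp : p ∈ σ := C.supp p hpp (by rwa [Subgroup.card_top] at hpd)
  set P := core (⊤ : Subgroup H) p with hPdef
  have hPn : ∀ g : H, g ∈ Subgroup.normalizer (P : Set H) := fun g =>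
    le_normalizer_core (⊤ : Subgroup H) p (Subgroup.mem_top g)
  have hPp : IsPGroup p P := isPGroup_core _ p
  by_cases hex : ∃ q, q.Prime ∧ q ≠ p ∧ core (⊤ : Subgroup H) q ≠ ⊥
  · obtain ⟨q, hqp, hne', hq1⟩ := hex
    haveI := Fact.mk hqp
    have hq : q ∈ σ := C.supp q hqp (by
      simpa [Subgroup.card_top] using dvd_card_of_core_ne_bot hq1)
    have hWn : ∀ g : H, g ∈ Subgroup.normalizer (core (⊤ : Subgroup H) q : Set H) := fun g =>
      le_normalizer_core (⊤ : Subgroup H) q (Subgroup.mem_top g)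
    exact C.caseI ⟨hPp, isPGroup_core _ q, hPn, hWn, hP1, hq1, commute_of_disjoint_normalised
      (disjoint_of_pgroups hne'.symm hPp (isPGroup_core _ q)) (fun g _ => hPn g) (fun g _ => hWn g)⟩
      hp hq hne'.symm
  push Not at hex
  have hC : ∀ t : ℕ, t.Prime → t ≠ p → ∀ x : H, IsPGroup t (Subgroup.zpowers x) →
      (∀ v ∈ P, Commute x v) → x = 1 := by
    intro t ht htp x hx h
    haveI := Fact.mk ht
    have := mem_core_of_cent (Subgroup.mem_top x) hx fun l hl v hv => by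
      by_cases h1 : l = p
      · subst h1; exact h v hv
      rw [hex l hl h1, Subgroup.mem_bot] at hv
      rw [hv]
      exact Commute.one_right x
    rw [hex t ht htp] at this
    exact Subgroup.mem_bot.mp this
  obtain ⟨K, -, hKπ, hK⟩ := exists_hallSub (⊤ : Subgroup H) (↑(σ.erase p) : Set ℕ)
  have hKpair : ∀ t ∈ σ.erase p, PairIn t K := fun t ht =>
    pairIn_hall (C.prime t (Finset.mem_of_mem_erase ht)) (Finset.mem_coe.mpr ht) hK
      (C.pairIn_top (Finset.mem_of_mem_erase ht))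
  -- choice of q
  obtain ⟨q, hq, hQ1, huniq⟩ : ∃ q ∈ σ.erase p, core K q ≠ ⊥ ∧
      ∀ t ∈ σ.erase p, t ≠ q → ¬ PairIn t (core K t) := by
    by_cases h : ∃ t ∈ σ.erase p, PairIn t (core K t)
    · obtain ⟨q, hq, hqq⟩ := h
      refine ⟨q, hq, fun hb => ?_, fun t ht htq htt => ?_⟩
      · obtain ⟨b, hb', c, -, hbc⟩ := hqq
        exact ne_one_of_orderOf (C.prime q (Finset.mem_of_mem_erase hq)) hbc.1
          (Subgroup.mem_bot.mp (hb ▸ hb'))
      · exact C.two_core_pairs hp (Finset.mem_of_mem_erase hq) (Finset.mem_of_mem_erase ht)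
          (Finset.ne_of_mem_erase hq).symm (Finset.ne_of_mem_erase ht).symm htq.symm hPp hP1 hPn K
          hqq htt
    · push Not at h
      have hcard : (σ.erase p).card = 3 := by rw [Finset.card_erase_of_mem hp, C.card]
      obtain ⟨a, ha⟩ := Finset.card_pos.mp (by rw [hcard]; norm_num : 0 < (σ.erase p).card)
      obtain ⟨b, hb, c, -, hbc⟩ := hKpair a ha
      have hK1 : K ≠ ⊥ := fun hh => ne_one_of_orderOf (C.prime a (Finset.mem_of_mem_erase ha)) hbc.1
        (Subgroup.mem_bot.mp (hh ▸ hb))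
      obtain ⟨q, hqp, hqd, hq1⟩ := exists_core_ne_bot hK1
      exact ⟨q, Finset.mem_coe.mp (hKπ q hqp hqd), hq1, fun t ht _ => h t ht⟩
  have hc : ((σ.erase p).erase q).card = 2 := by
    rw [Finset.card_erase_of_mem hq, Finset.card_erase_of_mem hp, C.card]
  obtain ⟨r, s, hrs, he⟩ := Finset.card_eq_two.mp hc
  have hmem : ∀ y ∈ ({r, s} : Finset ℕ), y ∈ σ.erase p ∧ y ≠ q := fun y hy => by
    rw [← he, Finset.mem_erase] at hy
    exact ⟨hy.2, hy.1⟩
  obtain ⟨hr, hrq⟩ := hmem r (by simp)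
  obtain ⟨hs, hsq⟩ := hmem s (by simp)
  obtain ⟨J, hJK, hJπ, hJ⟩ := exists_hallSub K ({r, s} : Set ℕ)
  have hrP := C.prime r (Finset.mem_of_mem_erase hr)
  have hsP := C.prime s (Finset.mem_of_mem_erase hs)
  refine C.caseII (p := p) (q := q) (r := r) (s := s) (P := P) (K := K) (J := J)
    ⟨hp, Finset.mem_of_mem_erase hq, Finset.mem_of_mem_erase hr, Finset.mem_of_mem_erase hs,
      (Finset.ne_of_mem_erase hq).symm, (Finset.ne_of_mem_erase hr).symm,
      (Finset.ne_of_mem_erase hs).symm, hrq.symm, hsq.symm, hrs, hPp, hPn, hC, hJK, ?_,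
      fun t ht hd => hJπ t ht hd, hQ1, huniq r hr hrq, huniq s hs hsq,
      core_le_hall hrP (Or.inl rfl) hJK hJ, core_le_hall hsP (Or.inr rfl) hJK hJ,
      pairIn_hall hrP (Or.inl rfl) hJ (hKpair r hr), pairIn_hall hsP (Or.inr rfl) hJ (hKpair s hs)⟩
  intro t ht hd
  by_contra hne2
  push Not at hne2
  have : t ∈ (σ.erase p).erase q :=
    Finset.mem_erase.mpr ⟨hne2.1, Finset.mem_coe.mp (hKπ t ht hd)⟩
  rw [he] at this
  simp only [Finset.mem_insert, Finset.mem_singleton] at this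
  rcases this with h | h
  · exact hne2.2.1 h
  · exact hne2.2.2 h

theorem not_isSolvable_of_four_primes {G : Type u} [Group G] [Finite G] (σ : Finset ℕ)
    (hσ : 4 ≤ σ.card) (hprime : ∀ p ∈ σ, p.Prime)
    (h2 : ∀ p ∈ σ, ∀ q ∈ σ, p ≠ q → ∃ g : G, orderOf g = p * q)
    (h3 : ∀ p ∈ σ, ∀ q ∈ σ, ∀ r ∈ σ, p ≠ q → q ≠ r → p ≠ r → ∀ g : G, orderOf g ≠ p * q * r) :
    ¬ Group.IsSolvable G := by
  intro hsol
  obtain ⟨τ, hτ, hτc⟩ := Finset.exists_subset_card_eq hσ
  obtain ⟨K, -, hKπ, hK⟩ := exists_hallSub (⊤ : Subgroup G) (↑τ : Set ℕ)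
  refine Cfg.false_of_solvable (H := K) (σ := τ)
    ⟨hτc, fun a ha => hprime a (hτ ha), ?_, ?_, fun t ht hd => Finset.mem_coe.mp (hKπ t ht hd)⟩
  · intro a ha b hb hab
    have hap := hprime a (hτ ha)
    have hbp := hprime b (hτ hb)
    obtain ⟨g, hg⟩ := h2 a (hτ ha) b (hτ hb) hab
    obtain ⟨k, -, hk⟩ := hK (Subgroup.zpowers g) le_top fun t ht hd => by
      rw [Nat.card_zpowers, hg] at hd
      rcases (Nat.Prime.dvd_mul ht).mp hd with h | h
      · rw [(Nat.prime_dvd_prime_iff_eq ht hap).mp h]; exact ha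
      · rw [(Nat.prime_dvd_prime_iff_eq ht hbp).mp h]; exact hb
    have hm := hk g (Subgroup.mem_zpowers g)
    have ho : orderOf (⟨k * g * k⁻¹, hm⟩ : K) = a * b := by
      rw [Subgroup.orderOf_mk, orderOf_conj' k g, hg]
    refine ⟨⟨k * g * k⁻¹, hm⟩ ^ b, ⟨k * g * k⁻¹, hm⟩ ^ a, ?_, ?_, Commute.pow_pow_self _ b a⟩
    · rw [orderOf_pow_of_dvd hbp.ne_zero (ho ▸ dvd_mul_left b a), ho,
        Nat.mul_div_cancel _ hbp.pos]
    · rw [orderOf_pow_of_dvd hap.ne_zero (ho ▸ dvd_mul_right a b), ho,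
        Nat.mul_div_cancel_left _ hap.pos]
  · intro a ha b hb c hc hab hbc hac x y z hx hy hz hxy hxz hyz
    have hap := hprime a (hτ ha)
    have hbp := hprime b (hτ hb)
    have hcp := hprime c (hτ hc)
    have h1 : orderOf (x * y) = a * b := by
      rw [hxy.orderOf_mul_eq_mul_orderOf_of_coprime
        (by rw [hx, hy]; exact (Nat.coprime_primes hap hbp).mpr hab), hx, hy]
    have hcop : (a * b).Coprime c := Nat.Coprime.mul_left
      ((Nat.coprime_primes hap hcp).mpr hac) ((Nat.coprime_primes hbp hcp).mpr hbc)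
    have h12 : orderOf (x * y * z) = a * b * c := by
      rw [(hxz.mul_left hyz).orderOf_mul_eq_mul_orderOf_of_coprime (by rw [h1, hz]; exact hcop),
        h1, hz]
    exact h3 a (hτ ha) b (hτ hb) c (hτ hc) hab hbc hac ((x * y * z : K) : G)
      (by rw [Subgroup.orderOf_coe, h12])

end CfsgLib.FourPrimes
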