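import Cfsg.Agent.Lib.SolvStruct.FpfPairs
import Cfsg.Agent.Lib.Base.MinimalNormal
import Cfsg.Agent.Lib.Components.Bender
import Cfsg.Agent.Lib.Coprime.Hall
import Cfsg.Agent.Lib.PGroups.UniqueOrderP

/-!
Tools for solvable groups with four primes pairwise, but no three jointly, joined in the spectrum.
-/

set_option autoImplicit false
set_option linter.unusedSectionVars false

namespace CfsgLib.FourPrimes

open scoped commutatorElement

universe u

variable {H : Type u} [Group H]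

/-- `x` commutes with a non-trivial element of `X`. -/
def Fixes (X : Subgroup H) (x : H) : Prop := ∃ v ∈ X, v ≠ 1 ∧ Commute v x

/-- A pair of commuting elements of order `a` generating a group of order `a ^ 2`. -/
def IsPair (a : ℕ) (b c : H) : Prop :=
  orderOf b = a ∧ orderOf c = a ∧ Commute b c ∧ c ∉ Subgroup.zpowers b

/-- `X` contains such a pair. -/
def PairIn (a : ℕ) (X : Subgroup H) : Prop := ∃ b ∈ X, ∃ c ∈ X, IsPair a b c

variable [Finite H]

theorem fixes_prime {p : ℕ} [Fact p.Prime] {X : Subgroup H} (hX : IsPGroup p X) {x : H}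
    (h : Fixes X x) : ∃ v ∈ X, orderOf v = p ∧ Commute v x := by
  obtain ⟨v, hv, hv1, hc⟩ := h
  obtain ⟨k, hk⟩ := IsPGroup.iff_orderOf.mp hX ⟨v, hv⟩
  rw [Subgroup.orderOf_mk] at hk
  rcases Nat.eq_zero_or_pos k with rfl | hk0
  · rw [pow_zero, orderOf_eq_one_iff] at hk
    exact absurd hk hv1
  have hd : p ∣ orderOf v := hk ▸ dvd_pow_self p hk0.ne'
  exact ⟨v ^ (orderOf v / p), X.pow_mem hv _,
    orderOf_pow_orderOf_div (orderOf_pos v).ne' hd, hc.pow_left _⟩

theorem orderOf_eq_of_pow_prime {a : ℕ} (ha : a.Prime) {x : H} (h : x ^ a = 1) (h1 : x ≠ 1) :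
    orderOf x = a :=
  haveI := Fact.mk ha
  orderOf_eq_prime h h1

theorem ne_one_of_orderOf {a : ℕ} (ha : a.Prime) {x : H} (h : orderOf x = a) : x ≠ 1 := by
  rintro rfl
  rw [orderOf_one] at h
  exact ha.ne_one h.symm

theorem mem_zpowers_of_prime {a : ℕ} (ha : a.Prime) {u v : H} (hu : orderOf u = a)
    (hv : v ∈ Subgroup.zpowers u) (hv1 : v ≠ 1) : u ∈ Subgroup.zpowers v := by
  have hle : Subgroup.zpowers v ≤ Subgroup.zpowers u := Subgroup.zpowers_le.mpr hv
  have hd := Subgroup.card_dvd_of_le hle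
  rw [Nat.card_zpowers, Nat.card_zpowers, hu] at hd
  rcases (Nat.dvd_prime ha).mp hd with h | h
  · exact absurd (orderOf_eq_one_iff.mp h) hv1
  · rw [Subgroup.eq_of_le_of_card_ge hle (by rw [Nat.card_zpowers, Nat.card_zpowers, hu, h])]
    exact Subgroup.mem_zpowers u

theorem IsPair.orderOf_mul {a : ℕ} (ha : a.Prime) {b c : H} (h : IsPair a b c) (i : ℕ) :
    orderOf (c * b ^ i) = a ∧ c * b ^ i ∉ Subgroup.zpowers b := by
  obtain ⟨hb, hc, hbc, hn⟩ := h
  have hnot : c * b ^ i ∉ Subgroup.zpowers b := fun hm =>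
    hn ((mul_mem_cancel_right (pow_mem (Subgroup.mem_zpowers b) i)).mp hm)
  refine ⟨orderOf_eq_of_pow_prime ha ?_ (fun h1 => hnot (h1 ▸ one_mem _)), hnot⟩
  rw [(hbc.pow_left i).symm.mul_pow, ← hc, pow_orderOf_eq_one, hc, ← pow_mul, mul_comm i a,
    pow_mul, ← hb, pow_orderOf_eq_one, one_pow, one_mul]

theorem act_apply_coe {X : Subgroup H} (n : Subgroup.normalizer (X : Set H)) (v : X) :
    ((X.normalizerMonoidHom n v : X) : H) = (n : H) * (v : H) * (n : H)⁻¹ := rfl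

theorem act_eq_one_iff {X : Subgroup H} (n : Subgroup.normalizer (X : Set H)) :
    X.normalizerMonoidHom n = 1 ↔ ∀ v ∈ X, Commute (n : H) v := by
  refine ⟨fun h v hv => ?_, fun h => MulEquiv.ext fun v => Subtype.ext ?_⟩
  · have h2 := congrArg Subtype.val (DFunLike.congr_fun h ⟨v, hv⟩)
    rw [act_apply_coe] at h2
    exact mul_inv_eq_iff_eq_mul.mp h2
  · rw [act_apply_coe, MulAut.one_apply, (h v v.2).eq, mul_inv_cancel_right]

theorem fpf_of_not_fixes {X : Subgroup H} {x : H} (h : ¬ Fixes X x)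
    (n : Subgroup.normalizer (X : Set H)) (hn : (n : H) = x) (v : X)
    (hv : X.normalizerMonoidHom n v = v) : v = 1 := by
  by_contra h1
  refine h ⟨v, v.2, fun hh => h1 (Subtype.ext hh), ?_⟩
  have h2 := congrArg Subtype.val hv
  rw [act_apply_coe, hn] at h2
  exact (mul_inv_eq_iff_eq_mul.mp h2).symm

/-- Frobenius kernel lemma inside a group. -/
theorem kernel_cent {p : ℕ} [Fact p.Prime] {X : Subgroup H} (hX : IsPGroup p X) (Y : Subgroup H)
    {x : H} (hx : (orderOf x).Prime) (hxN : x ∈ Subgroup.normalizer (X : Set H))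
    (hYN : Y ≤ Subgroup.normalizer (X : Set H)) (hYx : ∀ y ∈ Y, x * y * x⁻¹ ∈ Y)
    (hY : ∀ y ∈ Y, Commute x y → y = 1) (hpY : ¬ p ∣ Nat.card Y) (hfix : ¬ Fixes X x) :
    ∀ y ∈ Y, ∀ v ∈ X, Commute y v := by
  intro y hy
  have := FpfPairs.kernel_trivial' hX X.normalizerMonoidHom
    (Y.subgroupOf (Subgroup.normalizer (X : Set H))) ⟨x, hxN⟩
    (by rwa [Subgroup.orderOf_mk])
    (fun z hz => hYx _ hz)
    (fun z hz hc => Subtype.ext (hY _ hz (congrArg Subtype.val hc)))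
    (by rwa [Nat.card_congr (Subgroup.subgroupOfEquivOfLe hYN).toEquiv])
    (fun v hv => fpf_of_not_fixes hfix ⟨x, hxN⟩ rfl v hv) ⟨y, hYN hy⟩ hy
  exact (act_eq_one_iff _).mp this

theorem pair_cent {p a : ℕ} [Fact p.Prime] {X : Subgroup H} (hX : IsPGroup p X) (ha : a.Prime)
    (hap : a ≠ p) {b c : H} (hp : IsPair a b c) (hb : b ∈ Subgroup.normalizer (X : Set H))
    (hc : c ∈ Subgroup.normalizer (X : Set H)) (hfix : ∀ i : ℕ, ¬ Fixes X (c * b ^ i)) :
    ∀ v ∈ X, Commute b v := by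
  obtain ⟨hbo, hco, hbc, -⟩ := hp
  have := FpfPairs.pair_trivial' hX X.normalizerMonoidHom ha hap
    (b := ⟨b, hb⟩) (c := ⟨c, hc⟩) (by rwa [Subgroup.orderOf_mk])
    (Subtype.ext (by rw [SubmonoidClass.coe_pow, ← hco]; exact pow_orderOf_eq_one c))
    (Subtype.ext hbc) (fun i v hv => fpf_of_not_fixes (hfix i) _ (by simp) v hv)
  exact (act_eq_one_iff _).mp this

/-- Some member of a pair normalising a non-trivial `p`-group fixes a non-trivial element of it. -/
theorem exists_fixes_pair {p a : ℕ} [Fact p.Prime] {X : Subgroup H} (hX : IsPGroup p X)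
    (hX1 : X ≠ ⊥) (ha : a.Prime) (hap : a ≠ p) {b c : H} (hp : IsPair a b c)
    (hb : b ∈ Subgroup.normalizer (X : Set H)) (hc : c ∈ Subgroup.normalizer (X : Set H)) :
    ∃ w, (w = b ∨ ∃ i : ℕ, w = c * b ^ i) ∧ Fixes X w := by
  by_contra h
  push Not at h
  have hcent := pair_cent hX ha hap hp hb hc fun i => h _ (Or.inr ⟨i, rfl⟩)
  obtain ⟨⟨v, hv⟩, hv1⟩ := X.ne_bot_iff_exists_ne_one.mp hX1
  exact h b (Or.inl rfl) ⟨v, hv, fun h => hv1 (Subtype.ext h), (hcent v hv).symm⟩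

/-- Automorphism fpf on the acting abelian section. -/
theorem commutator_cent {p t : ℕ} [Fact p.Prime] [Fact t.Prime] (hpt : t ≠ p) {X : Subgroup H}
    (hX : IsPGroup p X) (Y : Subgroup H) (hYt : IsPGroup t Y) {x : H} (hx : (orderOf x).Prime)
    (hxt : orderOf x ≠ t) (hxN : x ∈ Subgroup.normalizer (X : Set H))
    (hYN : Y ≤ Subgroup.normalizer (X : Set H)) (hYx : ∀ y ∈ Y, x * y * x⁻¹ ∈ Y)
    (hab : ∀ y ∈ Y, ∀ z ∈ Y, ∀ v ∈ X, Commute ⁅y, z⁆ v) (hfix : ¬ Fixes X x) :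
    ∀ y ∈ Y, ∀ v ∈ X, Commute ⁅x, y⁆ v := by
  set ρ := X.normalizerMonoidHom with hρ
  set n : Subgroup.normalizer (X : Set H) := ⟨x, hxN⟩ with hn
  set Yb : Subgroup (MulAut X) := (Y.subgroupOf _).map ρ with hYb
  have hfix' : ∀ v, ρ n v = v → v = 1 := fun v hv => fpf_of_not_fixes hfix n rfl v hv
  intro y hy
  have hgoal : ρ ⁅n, ⟨y, hYN hy⟩⁆ = 1 := by
    by_cases hx1 : ρ n = 1
    · rw [map_commutatorElement, hx1, commutatorElement_def]
      group
    have hordn : orderOf (ρ n) = orderOf x := by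
      have hd := orderOf_map_dvd ρ n
      rw [hn, Subgroup.orderOf_mk] at hd
      exact ((Nat.dvd_prime hx).mp hd).resolve_left fun h => hx1 (orderOf_eq_one_iff.mp h)
    have hYbc : ∀ a ∈ Yb, ∀ b ∈ Yb, Commute a b := by
      rintro _ ⟨a, ha, rfl⟩ _ ⟨b, hb, rfl⟩
      rw [← commutatorElement_eq_one_iff_commute, ← map_commutatorElement]
      exact (act_eq_one_iff _).mpr (hab _ ha _ hb)
    have hYbx : ∀ a ∈ Yb, ρ n * a * (ρ n)⁻¹ ∈ Yb := by
      rintro _ ⟨a, ha, rfl⟩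
      exact ⟨n * a * n⁻¹, hYx _ ha, by simp⟩
    have hδmem : ∀ a ∈ Yb, ⁅ρ n, a⁆ ∈ Yb := fun a ha => mul_mem (hYbx a ha) (inv_mem ha)
    have hδmul : ∀ a ∈ Yb, ∀ b ∈ Yb, ⁅ρ n, a * b⁆ = ⁅ρ n, a⁆ * ⁅ρ n, b⁆ := by
      intro a ha b hb
      calc ⁅ρ n, a * b⁆ = (ρ n * a * (ρ n)⁻¹) * (⁅ρ n, b⁆ * a⁻¹) := by
            simp [commutatorElement_def, mul_assoc]
        _ = (ρ n * a * (ρ n)⁻¹) * (a⁻¹ * ⁅ρ n, b⁆) := by
            rw [(hYbc _ (hδmem b hb) _ (inv_mem ha)).eq]
        _ = _ := by simp [commutatorElement_def, mul_assoc]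
    let Y1 : Subgroup (MulAut X) :=
      { carrier := {z | ∃ a ∈ Yb, ⁅ρ n, a⁆ = z}
        one_mem' := ⟨1, one_mem _, by simp⟩
        mul_mem' := by
          rintro _ _ ⟨a, ha, rfl⟩ ⟨b, hb, rfl⟩
          exact ⟨a * b, mul_mem ha hb, hδmul a ha b hb⟩
        inv_mem' := by
          rintro _ ⟨a, ha, rfl⟩
          refine ⟨a⁻¹, inv_mem ha, eq_inv_of_mul_eq_one_left ?_⟩
          rw [← hδmul _ (inv_mem ha) a ha, inv_mul_cancel, commutatorElement_one_right] }
    have hYbt : IsPGroup t Yb := (hYt.of_equiv (Subgroup.subgroupOfEquivOfLe hYN).symm).map ρ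
    have hY1 : IsPGroup t Y1 := hYbt.to_le fun z hz => by
      obtain ⟨a, ha, rfl⟩ := hz
      exact hδmem a ha
    have := FpfPairs.kernel_trivial' hX (MonoidHom.id (MulAut X)) Y1 (ρ n)
      (by rw [hordn]; exact hx)
      (by
        rintro _ ⟨a, ha, rfl⟩
        exact ⟨ρ n * a * (ρ n)⁻¹, hYbx a ha, by simp [commutatorElement_def, mul_assoc]⟩)
      (by
        rintro z ⟨a, ha, rfl⟩ hc
        set z := ⁅ρ n, a⁆ with hz
        have hiter : ∀ k : ℕ, (ρ n) ^ k * a * ((ρ n) ^ k)⁻¹ = z ^ k * a := by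
          intro k
          induction k with
          | zero => simp
          | succ k ih =>
            have e : (ρ n) ^ (k + 1) * a * ((ρ n) ^ (k + 1))⁻¹
                = ρ n * ((ρ n) ^ k * a * ((ρ n) ^ k)⁻¹) * (ρ n)⁻¹ := by
              rw [pow_succ', mul_inv_rev]; simp [mul_assoc]
            have e2 : ρ n * a * (ρ n)⁻¹ = z * a := by simp [hz, commutatorElement_def]
            rw [e, ih, pow_succ]
            calc ρ n * (z ^ k * a) * (ρ n)⁻¹ = z ^ k * (ρ n * a * (ρ n)⁻¹) := by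
                  rw [← mul_assoc, (hc.pow_right k).eq]; simp [mul_assoc]
              _ = z ^ k * z * a := by rw [e2, mul_assoc]
        have h1 := hiter (orderOf (ρ n))
        rw [pow_orderOf_eq_one, one_mul, inv_one, mul_one] at h1
        have h2 : z ^ orderOf (ρ n) = 1 := right_eq_mul.mp h1
        obtain ⟨k, hk⟩ := IsPGroup.iff_orderOf.mp hY1 ⟨z, a, ha, rfl⟩
        rw [← Subgroup.orderOf_coe] at hk
        change orderOf z = _ at hk
        rw [← orderOf_eq_one_iff, hk]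
        rcases Nat.eq_zero_or_pos k with rfl | hk0
        · rw [pow_zero]
        · have := (dvd_pow_self t hk0.ne').trans (hk ▸ orderOf_dvd_of_pow_eq_one h2)
          rw [hordn] at this
          exact absurd ((Nat.prime_dvd_prime_iff_eq Fact.out hx).mp this).symm hxt)
      (fun hd => by
        obtain ⟨k, hk⟩ := IsPGroup.iff_card.mp hY1
        rw [hk] at hd
        exact hpt ((Nat.prime_dvd_prime_iff_eq Fact.out Fact.out).mp
          ((Fact.out : p.Prime).dvd_of_dvd_pow hd)).symm)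
      hfix' ⁅ρ n, ρ ⟨y, hYN hy⟩⁆ ⟨_, ⟨_, hy, rfl⟩, rfl⟩
    rw [map_commutatorElement]
    exact this
  exact (act_eq_one_iff _).mp hgoal

/-- The `t`-core of a subgroup. -/
def core (K : Subgroup H) (t : ℕ) : Subgroup H := (Cfsg.pCore t K).map K.subtype

theorem core_le (K : Subgroup H) (t : ℕ) : core K t ≤ K := Subgroup.map_subtype_le _

theorem isPGroup_core (K : Subgroup H) (t : ℕ) : IsPGroup t (core K t) :=
  Base.isPGroup_map_pCore t K

theorem le_normalizer_core (K : Subgroup H) (t : ℕ) :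
    K ≤ Subgroup.normalizer (core K t : Set H) := Base.le_normalizer_map_pCore K

theorem le_core {K T : Subgroup H} {t : ℕ} (hTK : T ≤ K)
    (hn : K ≤ Subgroup.normalizer (T : Set H)) (hT : IsPGroup t T) : T ≤ core K t :=
  Base.le_map_pCore hTK hn hT

theorem dvd_card_of_core_ne_bot {K : Subgroup H} {t : ℕ} [Fact t.Prime] (h : core K t ≠ ⊥) :
    t ∣ Nat.card K := by
  obtain ⟨k, hk⟩ := IsPGroup.iff_card.mp (isPGroup_core K t)
  have hk0 : k ≠ 0 := by
    rintro rfl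
    rw [pow_zero, Subgroup.card_eq_one] at hk
    exact h hk
  exact (dvd_pow_self t hk0).trans (hk ▸ Subgroup.card_dvd_of_le (core_le K t))

theorem exists_core_ne_bot [Group.IsSolvable H] {K : Subgroup H} (hK : K ≠ ⊥) :
    ∃ t : ℕ, t.Prime ∧ t ∣ Nat.card K ∧ core K t ≠ ⊥ := by
  haveI := (Subgroup.nontrivial_iff_ne_bot K).mpr hK
  obtain ⟨t, ht, h⟩ := Base.exists_prime_pCore_ne_bot (G := K)
  haveI := Fact.mk ht
  have h2 : core K t ≠ ⊥ := fun hb =>
    h ((Subgroup.map_eq_bot_iff_of_injective _ K.subtype_injective).mp hb)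
  exact ⟨t, ht, dvd_card_of_core_ne_bot h2, h2⟩

/-- An element of prime power order centralising all cores lies in its core. -/
theorem mem_core_of_cent [Group.IsSolvable H] {K : Subgroup H} {x : H} (hx : x ∈ K) {t : ℕ}
    [Fact t.Prime] (ht : IsPGroup t (Subgroup.zpowers x))
    (h : ∀ t' : ℕ, t'.Prime → ∀ v ∈ core K t', Commute x v) : x ∈ core K t := by
  have hF : (⟨x, hx⟩ : K) ∈ Subgroup.centralizer (Cfsg.fittingSubgroup K : Set K) := by
    have hle : Cfsg.fittingSubgroup K ≤ Subgroup.centralizer ({(⟨x, hx⟩ : K)} : Set K) := by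
      rw [Base.fittingSubgroup_eq_iSup_pCore]
      refine iSup_le fun q v hv => Subgroup.mem_centralizer_singleton_iff.mpr ?_
      exact Subtype.ext ((h q q.2 (v : H) ⟨v, hv, rfl⟩).eq).symm
    intro v hv
    exact (Subgroup.mem_centralizer_singleton_iff.mp (hle hv))
  have h2 := Base.centralizer_fittingSubgroup_le hF
  have h3 : Subgroup.zpowers (⟨x, hx⟩ : K) ≤ Cfsg.pCore t K := by
    refine Components.pGroup_le_pCore_of_le_fitting ?_ (Subgroup.zpowers_le.mpr h2)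
    exact IsPGroup.iff_orderOf.mpr fun g => by
      obtain ⟨k, hk⟩ := Subgroup.mem_zpowers_iff.mp g.2
      obtain ⟨n, hn⟩ := IsPGroup.iff_orderOf.mp ht ⟨x ^ k, Subgroup.zpow_mem_zpowers x k⟩
      refine ⟨n, ?_⟩
      rw [← hn, Subgroup.orderOf_mk, ← Subgroup.orderOf_coe, ← Subgroup.orderOf_coe, ← hk]
      simp
  exact ⟨⟨x, hx⟩, h3 (Subgroup.mem_zpowers _), rfl⟩

theorem isPGroup_zpowers {t : ℕ} [Fact t.Prime] {x : H} (hx : orderOf x = t) :
    IsPGroup t (Subgroup.zpowers x) :=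
  IsPGroup.of_card (n := 1) (by rw [pow_one, Nat.card_zpowers, hx])

/-- A Hall subgroup inside a subgroup, receiving a conjugate of every `π`-subgroup. -/
theorem exists_hallSub [Group.IsSolvable H] (K : Subgroup H) (π : Set ℕ) :
    ∃ J ≤ K, (∀ t : ℕ, t.Prime → t ∣ Nat.card J → t ∈ π) ∧
      ∀ U ≤ K, (∀ t : ℕ, t.Prime → t ∣ Nat.card U → t ∈ π) →
        ∃ g ∈ K, ∀ u ∈ U, g * u * g⁻¹ ∈ J := by
  obtain ⟨J, hJ, hle⟩ := Coprime.hallD_of_solvable (G := K) π
  refine ⟨J.map K.subtype, Subgroup.map_subtype_le _, fun t ht hd => ?_, fun U hU hπ => ?_⟩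
  · rw [Subgroup.card_map_of_injective K.subtype_injective] at hd
    exact hJ.1 t ht hd
  · obtain ⟨g, hg⟩ := hle (U.subgroupOf K) (fun t ht hd => hπ t ht
      (by rwa [Nat.card_congr (Subgroup.subgroupOfEquivOfLe hU).toEquiv] at hd))
    refine ⟨g, g.2, fun u hu => ⟨g * ⟨u, hU hu⟩ * g⁻¹, hg ?_, rfl⟩⟩
    exact Subgroup.smul_mem_pointwise_smul (⟨u, hU hu⟩ : K) (MulAut.conj g) (U.subgroupOf K) hu

theorem exists_orderOf_in_hall {K J : Subgroup H} {π : Set ℕ} {a : ℕ} (ha : a.Prime) (haπ : a ∈ π)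
    (hJ : ∀ U ≤ K, (∀ t : ℕ, t.Prime → t ∣ Nat.card U → t ∈ π) →
      ∃ g ∈ K, ∀ u ∈ U, g * u * g⁻¹ ∈ J)
    {x : H} (hxK : x ∈ K) (hx : orderOf x = a) : ∃ g ∈ K, g * x * g⁻¹ ∈ J := by
  obtain ⟨g, hg, h⟩ := hJ (Subgroup.zpowers x) (Subgroup.zpowers_le.mpr hxK) fun t ht hd => by
    rw [Nat.card_zpowers, hx] at hd
    rw [(Nat.prime_dvd_prime_iff_eq ht ha).mp hd]
    exact haπ
  exact ⟨g, hg, h x (Subgroup.mem_zpowers x)⟩

omit [Finite H] in
theorem commute_conj {g x y : H} (h : Commute x y) : Commute (g * x * g⁻¹) (g * y * g⁻¹) := by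
  show g * x * g⁻¹ * (g * y * g⁻¹) = g * y * g⁻¹ * (g * x * g⁻¹)
  simp only [mul_assoc, inv_mul_cancel_left]
  rw [← mul_assoc x, ← mul_assoc y, h.eq]

theorem orderOf_conj' (g x : H) : orderOf (g * x * g⁻¹) = orderOf x := by
  rw [← MulAut.conj_apply]
  exact MulEquiv.orderOf_eq (MulAut.conj g) x

theorem pairIn_hall {K J : Subgroup H} {π : Set ℕ} {a : ℕ} (ha : a.Prime) (haπ : a ∈ π)
    (hJ : ∀ U ≤ K, (∀ t : ℕ, t.Prime → t ∣ Nat.card U → t ∈ π) →
      ∃ g ∈ K, ∀ u ∈ U, g * u * g⁻¹ ∈ J)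
    (h : PairIn a K) : PairIn a J := by
  haveI := Fact.mk ha
  obtain ⟨b, hb, c, hc, hbo, hco, hbc, hn⟩ := h
  have hnorm : Subgroup.zpowers b ≤ Subgroup.normalizer (Subgroup.zpowers c : Set H) := by
    refine (Subgroup.zpowers_le.mpr ?_).trans (Subgroup.centralizer_le_normalizer _)
    intro v hv
    obtain ⟨k, rfl⟩ := Subgroup.mem_zpowers_iff.mp hv
    exact ((hbc.zpow_right k).eq).symm
  obtain ⟨g, -, hg⟩ := hJ (Subgroup.zpowers b ⊔ Subgroup.zpowers c)
    (sup_le (Subgroup.zpowers_le.mpr hb) (Subgroup.zpowers_le.mpr hc)) fun t ht hd => by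
      obtain ⟨k, hk⟩ := IsPGroup.iff_card.mp
        (IsPGroup.to_sup_of_normal_right' (isPGroup_zpowers hbo) (isPGroup_zpowers hco) hnorm)
      rw [hk] at hd
      rw [(Nat.prime_dvd_prime_iff_eq ht ha).mp (ht.dvd_of_dvd_pow hd)]
      exact haπ
  refine ⟨_, hg b (Subgroup.mem_sup_left (Subgroup.mem_zpowers b)), _,
    hg c (Subgroup.mem_sup_right (Subgroup.mem_zpowers c)), (orderOf_conj' g b).trans hbo,
    (orderOf_conj' g c).trans hco, commute_conj hbc, fun hm => hn ?_⟩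
  obtain ⟨k, hk⟩ := Subgroup.mem_zpowers_iff.mp hm
  refine Subgroup.mem_zpowers_iff.mpr ⟨k, ?_⟩
  rw [conj_zpow] at hk
  exact mul_left_cancel (mul_right_cancel hk)

/-- A `t`-group without pairs has all its elements of order `t` in one cyclic subgroup. -/
theorem mem_zpowers_of_no_pair {t : ℕ} [Fact t.Prime] {T : Subgroup H} (hT : IsPGroup t T)
    (h : ¬ PairIn t T) {m u : H} (hm : m ∈ T) (hmo : orderOf m = t) (hu : u ∈ T)
    (huo : u ^ t = 1) : u ∈ Subgroup.zpowers m := by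
  by_contra hn
  have hu1 : u ≠ 1 := fun h1 => hn (h1 ▸ one_mem _)
  have huo' : orderOf u = t := orderOf_eq_of_pow_prime Fact.out huo hu1
  haveI : Nontrivial T := ⟨⟨⟨m, hm⟩, 1, fun h1 =>
    ne_one_of_orderOf Fact.out hmo (congrArg Subtype.val h1)⟩⟩
  haveI := IsPGroup.center_nontrivial hT
  obtain ⟨z, hz1⟩ := exists_ne (1 : Subgroup.center T)
  obtain ⟨k, hk⟩ := IsPGroup.iff_orderOf.mp hT (z : T)
  rw [← Subgroup.orderOf_coe] at hk
  have hk0 : k ≠ 0 := by
    rintro rfl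
    rw [pow_zero, orderOf_eq_one_iff] at hk
    exact hz1 (Subtype.ext (Subtype.ext hk))
  set c : H := ((z : T) : H) ^ (orderOf ((z : T) : H) / t) with hc
  have hco : orderOf c = t :=
    orderOf_pow_orderOf_div (orderOf_pos _).ne' (hk ▸ dvd_pow_self t hk0)
  have hcT : c ∈ T := T.pow_mem (z : T).2 _
  have hcen : ∀ y ∈ T, Commute c y := fun y hy =>
    Commute.pow_left (show Commute ((z : T) : H) y from
      (congrArg Subtype.val (Subgroup.mem_center_iff.mp z.2 ⟨y, hy⟩)).symm) _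
  have key : ∀ v ∈ T, orderOf v = t → v ∈ Subgroup.zpowers c := by
    intro v hv hvo
    by_contra hvn
    exact h ⟨c, hcT, v, hv, hco, hvo, hcen v hv, hvn⟩
  have h1 := mem_zpowers_of_prime Fact.out hco (key m hm hmo) (ne_one_of_orderOf Fact.out hmo)
  exact hn (Subgroup.zpowers_le.mpr h1 (key u hu huo'))

/-- A non-trivial t-group with a central element of order t. -/
theorem exists_central_order {t : ℕ} [Fact t.Prime] {T : Subgroup H} (hT : IsPGroup t T)
    (h : T ≠ ⊥) : ∃ m ∈ T, orderOf m = t ∧ ∀ y ∈ T, Commute m y := by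
  haveI := (Subgroup.nontrivial_iff_ne_bot T).mpr h
  haveI := IsPGroup.center_nontrivial hT
  obtain ⟨z, hz1⟩ := exists_ne (1 : Subgroup.center T)
  obtain ⟨k, hk⟩ := IsPGroup.iff_orderOf.mp hT (z : T)
  rw [← Subgroup.orderOf_coe] at hk
  have hk0 : k ≠ 0 := by
    rintro rfl
    rw [pow_zero, orderOf_eq_one_iff] at hk
    exact hz1 (Subtype.ext (Subtype.ext hk))
  exact ⟨((z : T) : H) ^ (orderOf ((z : T) : H) / t), T.pow_mem (z : T).2 _,
    orderOf_pow_orderOf_div (orderOf_pos _).ne' (hk ▸ dvd_pow_self t hk0), fun y hy =>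
      Commute.pow_left (show Commute ((z : T) : H) y from
        (congrArg Subtype.val (Subgroup.mem_center_iff.mp z.2 ⟨y, hy⟩)).symm) _⟩

/-- A coprime element fixing the elements of order `t` of an odd `t`-group without pairs
centralises it. -/
theorem cent_of_no_pair {t : ℕ} [Fact t.Prime] (ht2 : t ≠ 2) {T : Subgroup H} (hT : IsPGroup t T)
    (h : ¬ PairIn t T) {x : H} (hx : (orderOf x).Prime) (hxt : orderOf x ≠ t)
    (hxT : ∀ y ∈ T, x * y * x⁻¹ ∈ T) (hfix : ∀ y ∈ T, y ^ t = 1 → Commute x y) :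
    ∀ y ∈ T, Commute x y := by
  rcases eq_or_ne T ⊥ with rfl | hT1
  · intro y hy
    rw [Subgroup.mem_bot.mp hy]
    exact Commute.one_right x
  obtain ⟨m, hm, hmo, -⟩ := exists_central_order hT hT1
  have hcyc : IsCyclic T := by
    refine (PGroups.isCyclic_or_quaternion_of_unique hT (z := ⟨m, hm⟩)
      (Subtype.ext (by rw [SubmonoidClass.coe_pow, ← hmo]; exact pow_orderOf_eq_one m))
      fun y hy => ?_).resolve_right fun h2 => ht2 h2.1
    obtain ⟨k, hk⟩ := Subgroup.mem_zpowers_iff.mp (mem_zpowers_of_no_pair hT h hm hmo y.2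
      (congrArg Subtype.val hy))
    exact Subgroup.mem_zpowers_iff.mpr ⟨k, Subtype.ext (by simpa using hk)⟩
  have hab : ∀ a ∈ T, ∀ b ∈ T, Commute a b := fun a ha b hb => by
    letI := hcyc.commGroup
    exact congrArg Subtype.val (mul_comm (⟨a, ha⟩ : T) ⟨b, hb⟩)
  intro y hy
  rw [← commutatorElement_eq_one_iff_commute]
  by_contra hne
  have hmem : ⁅x, y⁆ ∈ T := mul_mem (hxT y hy) (inv_mem hy)
  obtain ⟨k, hk⟩ := IsPGroup.iff_orderOf.mp hT ⟨_, hmem⟩
  rw [Subgroup.orderOf_mk] at hk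
  have hk0 : k ≠ 0 := by
    rintro rfl
    rw [pow_zero, orderOf_eq_one_iff] at hk
    exact hne hk
  set j := orderOf ⁅x, y⁆ / t with hj
  have hoj : orderOf (⁅x, y⁆ ^ j) = t :=
    orderOf_pow_orderOf_div (orderOf_pos _).ne' (hk ▸ dvd_pow_self t hk0)
  -- the power is itself a commutator
  have hpow : ∀ i : ℕ, ⁅x, y⁆ ^ i = ⁅x, y ^ i⁆ := by
    intro i
    induction i with
    | zero => simp
    | succ i ih =>
      rw [pow_succ, ih, pow_succ]
      calc ⁅x, y ^ i⁆ * ⁅x, y⁆ = x * y ^ i * x⁻¹ * ((y ^ i)⁻¹ * ⁅x, y⁆) := by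
            simp [commutatorElement_def, mul_assoc]
        _ = x * y ^ i * x⁻¹ * (⁅x, y⁆ * (y ^ i)⁻¹) := by
            rw [(hab _ (inv_mem (T.pow_mem hy i)) _ hmem).eq]
        _ = ⁅x, y ^ i * y⁆ := by simp [commutatorElement_def, mul_assoc]
  set w := y ^ j with hw
  set z := ⁅x, w⁆ with hz
  have hzo : orderOf z = t := by rw [hz, ← hpow]; exact hoj
  have hzT : z ∈ T := mul_mem (hxT w (T.pow_mem hy j)) (inv_mem (T.pow_mem hy j))
  have hc : Commute x z := hfix z hzT (by rw [← hzo, pow_orderOf_eq_one])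
  have hiter : ∀ i : ℕ, x ^ i * w * (x ^ i)⁻¹ = z ^ i * w := by
    intro i
    induction i with
    | zero => simp
    | succ i ih =>
      have e : x ^ (i + 1) * w * (x ^ (i + 1))⁻¹ = x * (x ^ i * w * (x ^ i)⁻¹) * x⁻¹ := by
        rw [pow_succ', mul_inv_rev]; simp [mul_assoc]
      have e2 : x * w * x⁻¹ = z * w := by simp [hz, commutatorElement_def]
      rw [e, ih, pow_succ]
      calc x * (z ^ i * w) * x⁻¹ = z ^ i * (x * w * x⁻¹) := by
            rw [← mul_assoc, (hc.pow_right i).eq]; simp [mul_assoc]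
        _ = z ^ i * z * w := by rw [e2, mul_assoc]
  have h1 := hiter (orderOf x)
  rw [pow_orderOf_eq_one, one_mul, inv_one, mul_one] at h1
  have h2 := orderOf_dvd_of_pow_eq_one (right_eq_mul.mp h1)
  rw [hzo] at h2
  exact hxt ((Nat.prime_dvd_prime_iff_eq Fact.out hx).mp h2).symm

/-- In a finite `t`-group, a non-central element of order `t` outside `⟨m⟩` yields one conjugate to
its translate by an element of `⟨m⟩`. -/
theorem exists_translate {G : Type u} [Group G] [Finite G] {t : ℕ} [Fact t.Prime]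
    (hG : IsPGroup t G) {m u₀ : G} (hcen : ∀ y, Commute m y) (hu : orderOf u₀ = t)
    (hun : u₀ ∉ Subgroup.zpowers m)
    (huniq : ∀ c : G, orderOf c = t → (∀ y, Commute c y) → c ∈ Subgroup.zpowers m) :
    ∃ u g e : G, orderOf u = t ∧ u ∉ Subgroup.zpowers m ∧ e ∈ Subgroup.zpowers m ∧ e ≠ 1 ∧
      g * u * g⁻¹ = u * e := by
  haveI : Nonempty {v : G // orderOf v = t ∧ v ∉ Subgroup.zpowers m} := ⟨⟨u₀, hu, hun⟩⟩
  obtain ⟨⟨u, huo, hum⟩, hmax⟩ := Finite.exists_max
    fun v : {v : G // orderOf v = t ∧ v ∉ Subgroup.zpowers m} =>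
      Nat.card (Subgroup.centralizer ({(v : G)} : Set G))
  set C := Subgroup.centralizer ({u} : Set G) with hC
  have hCtop : C ≠ ⊤ := fun h => hum (huniq u huo fun y =>
    (Subgroup.mem_centralizer_singleton_iff.mp (h ▸ Subgroup.mem_top y : y ∈ C)).symm)
  haveI : Group.IsNilpotent G := IsPGroup.isNilpotent hG
  obtain ⟨g, hgN, hgC⟩ := SetLike.exists_of_lt
    ((normalizerCondition_of_isNilpotent (G := G)) C (lt_top_iff_ne_top.mpr hCtop))
  -- the elements reached by iterated commutation with g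
  let U : Set G := {v | v ∈ C ∧ (∀ c ∈ C, Commute v c) ∧ v ^ t = 1}
  have hUu : u ∈ U := ⟨Subgroup.mem_centralizer_singleton_iff.mpr rfl,
    fun c hc => (Subgroup.mem_centralizer_singleton_iff.mp hc).symm,
    by rw [← huo, pow_orderOf_eq_one]⟩
  have hUg : ∀ v ∈ U, g * v * g⁻¹ * v⁻¹ ∈ U := by
    rintro v ⟨hvC, hvc, hvt⟩
    have h1 : g * v * g⁻¹ ∈ C := (Subgroup.mem_normalizer_iff.mp hgN v).mp hvC
    have h2 : ∀ c ∈ C, Commute (g * v * g⁻¹) c := by
      intro c hc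
      have hc' : g⁻¹ * c * g ∈ C := (Subgroup.mem_normalizer_iff.mp hgN _).mpr (by
        simpa [mul_assoc] using hc)
      have := commute_conj (g := g) (hvc _ hc')
      simpa [mul_assoc] using this
    refine ⟨mul_mem h1 (inv_mem hvC), fun c hc => (h2 c hc).mul_left (hvc c hc).inv_left, ?_⟩
    rw [((hvc _ h1).symm.inv_right).mul_pow, conj_pow, hvt, inv_pow, hvt]
    simp
  let s : ℕ → G := fun n => (fun v => g * v * g⁻¹ * v⁻¹)^[n] u
  have hs : ∀ n, s (n + 1) = g * s n * g⁻¹ * (s n)⁻¹ := fun n =>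
    Function.iterate_succ_apply' (fun v => g * v * g⁻¹ * v⁻¹) n u
  have hsU : ∀ n, s n ∈ U := by
    intro n
    induction n with
    | zero => exact hUu
    | succ n ih => rw [hs]; exact hUg _ ih
  obtain ⟨N, hN⟩ := Subgroup.nilpotent_iff_lowerCentralSeries.mp ‹Group.IsNilpotent G›
  have hlow : ∀ n, s n ∈ (⊤ : Subgroup G).lowerCentralSeries n := by
    intro n
    induction n with
    | zero => exact Subgroup.mem_top _
    | succ n ih =>
      rw [hs, Subgroup.lowerCentralSeries_succ, ← commutatorElement_def,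
        ← commutatorElement_inv]
      exact inv_mem (Subgroup.commutator_mem_commutator ih (Subgroup.mem_top g))
  have hex : ∃ n, s n = 1 := ⟨N, Subgroup.mem_bot.mp (hN ▸ hlow N)⟩
  classical
  set n := Nat.find hex with hn
  have hn1 : s n = 1 := Nat.find_spec hex
  have hs0 : s 0 ≠ 1 := ne_one_of_orderOf Fact.out huo
  have hs1 : s 1 ≠ 1 := by
    rw [hs 0]
    intro h
    refine hgC (Subgroup.mem_centralizer_singleton_iff.mpr ?_)
    exact mul_inv_eq_iff_eq_mul.mp (mul_inv_eq_one.mp h)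
  obtain ⟨k, hk⟩ : ∃ k, n = k + 2 := by
    refine ⟨n - 2, ?_⟩
    have h0 : n ≠ 0 := fun h => hs0 (h ▸ hn1)
    have h1 : n ≠ 1 := fun h => hs1 (h ▸ hn1)
    omega
  have he1 : s (k + 1) ≠ 1 := Nat.find_min hex (show k + 1 < n by omega)
  have hcomm : Commute g (s (k + 1)) := by
    have h := hn1
    rw [hk, hs (k + 1), mul_inv_eq_one] at h
    exact mul_inv_eq_iff_eq_mul.mp h
  obtain ⟨heC, hec, het⟩ := hsU (k + 1)
  have hem : s (k + 1) ∈ Subgroup.zpowers m := by
    by_contra hem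
    have h1 := hmax ⟨s (k + 1), orderOf_eq_of_pow_prime Fact.out het he1, hem⟩
    have h2 : C ≤ Subgroup.centralizer ({s (k + 1)} : Set G) := fun c hc =>
      Subgroup.mem_centralizer_singleton_iff.mpr (hec c hc).eq.symm
    have h3 : Subgroup.centralizer ({s (k + 1)} : Set G) = C :=
      (Subgroup.eq_of_le_of_card_ge h2 h1).symm
    exact hgC (h3 ▸ Subgroup.mem_centralizer_singleton_iff.mpr hcomm.eq)
  obtain ⟨hvC, hvc, hvt⟩ := hsU k
  have hvm : s k ∉ Subgroup.zpowers m := fun hv => he1 (by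
    obtain ⟨i, hi⟩ := Subgroup.mem_zpowers_iff.mp hv
    rw [hs k, ← hi, ((hcen g).zpow_left i).eq.symm]
    group)
  have hv1 : s k ≠ 1 := fun h => hvm (h ▸ one_mem _)
  refine ⟨s k, g, s (k + 1), orderOf_eq_of_pow_prime Fact.out hvt hv1, hvm, hem, he1, ?_⟩
  rw [(hvc _ heC).eq, hs k, inv_mul_cancel_right]

end CfsgLib.FourPrimes
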