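import Cfsg.Agent.Lib.SolvStruct.FourPrimesLucido

/-!
Four primes: the case of normal subgroups of two different prime orders.
-/

set_option autoImplicit false
set_option linter.unusedSectionVars false

namespace CfsgLib.FourPrimes

open scoped commutatorElement

universe u

variable {H : Type u} [Group H] [Finite H] {σ : Finset ℕ}

/-- Two commuting normal subgroups of orders powers of `p` and `q`. -/
structure TwoNormal (H : Type u) [Group H] (p q : ℕ) (P W : Subgroup H) : Prop where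
  pp : IsPGroup p P
  qq : IsPGroup q W
  pn : ∀ g : H, g ∈ Subgroup.normalizer (P : Set H)
  qn : ∀ g : H, g ∈ Subgroup.normalizer (W : Set H)
  p1 : P ≠ ⊥
  q1 : W ≠ ⊥
  comm : ∀ v ∈ P, ∀ w ∈ W, Commute v w

theorem TwoNormal.symm {p q : ℕ} {P W : Subgroup H} (D : TwoNormal H p q P W) :
    TwoNormal H q p W P :=
  ⟨D.qq, D.pp, D.qn, D.pn, D.q1, D.p1, fun v hv w hw => (D.comm w hw v hv).symm⟩

theorem fixes_conj {X : Subgroup H} {g : H} (hg : g ∈ Subgroup.normalizer (X : Set H)) {x : H}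
    (h : Fixes X x) : Fixes X (g * x * g⁻¹) := by
  obtain ⟨v, hv, hv1, hc⟩ := h
  refine ⟨g * v * g⁻¹, (Subgroup.mem_normalizer_iff.mp hg v).mp hv, fun h1 => hv1 ?_, commute_conj hc⟩
  rwa [← conj_eq_one_iff (a := g)]

theorem Cfg.not_both (C : Cfg H σ) {p q t : ℕ} {P W : Subgroup H} (D : TwoNormal H p q P W)
    (hp : p ∈ σ) (hq : q ∈ σ) (ht : t ∈ σ) (hpq : p ≠ q) (hqt : q ≠ t) (hpt : p ≠ t)
    {x : H} (hx : orderOf x = t) (h1 : Fixes P x) (h2 : Fixes W x) : False := by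
  haveI := Fact.mk (C.prime p hp)
  haveI := Fact.mk (C.prime q hq)
  obtain ⟨v, hv, hvo, hvx⟩ := fixes_prime D.pp h1
  obtain ⟨w, hw, hwo, hwx⟩ := fixes_prime D.qq h2
  exact C.trip p hp q hq t ht hpq hqt hpt v w x hvo hwo hx (D.comm v hv w hw) hvx hwx

theorem Cfg.faithful_omega (C : Cfg H σ) {p q r s : ℕ} {P W : Subgroup H} (D : TwoNormal H p q P W)
    (hp : p ∈ σ) (hq : q ∈ σ) (hr : r ∈ σ) (hs : s ∈ σ) (hpq : p ≠ q) (hpr : p ≠ r) (hps : p ≠ s)
    (hqr : q ≠ r) (hqs : q ≠ s) (hrs : r ≠ s) {J E : Subgroup H}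
    (hJE : ∀ g ∈ J, ∀ e ∈ E, g * e * g⁻¹ ∈ E) (hE : IsPGroup r E)
    (hpair : PairIn s J) : ∀ e ∈ E, (∀ v ∈ P, Commute e v) → e = 1 := by
  haveI := Fact.mk (C.prime p hp)
  haveI := Fact.mk (C.prime q hq)
  haveI := Fact.mk (C.prime r hr)
  haveI := Fact.mk (C.prime s hs)
  intro e he hec
  by_contra he1
  obtain ⟨b, hb, c, hc, hbc⟩ := hpair
  set E1 := E ⊓ Subgroup.centralizer (P : Set H) with hE1
  have heE1 : e ∈ E1 := ⟨he, Subgroup.mem_centralizer_iff.mpr fun v hv => (hec v hv).eq.symm⟩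
  obtain ⟨v, hv, hvo, -⟩ := exists_central_order D.pp D.p1
  obtain ⟨w, hw, hwo, -⟩ := exists_central_order D.qq D.q1
  have hfpf : ∀ z ∈ J, orderOf z = s → ¬ Fixes P z := by
    intro z hz hzo hzP
    have hzW : ¬ Fixes W z := fun h => C.not_both D hp hq hs hpq hqs hps hzo hzP h
    obtain ⟨v', hv', hv'o, hv'z⟩ := fixes_prime D.pp hzP
    have hcent := kernel_cent D.qq E1 (x := z) (hzo ▸ C.prime s hs) (D.qn z) (fun g _ => D.qn g)
      (fun y hy => ⟨hJE z hz y hy.1, conj_mem_centralizer (D.pn z) hy.2⟩)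
      (fun y hy hyz => by
        by_contra hy1
        obtain ⟨u, hu, huo, huz⟩ :=
          fixes_prime (hE.to_le (inf_le_left : E1 ≤ E)) ⟨y, hy, hy1, hyz.symm⟩
        exact C.trip p hp r hr s hs hpr hrs hps v' u z hv'o huo hzo
          (Subgroup.mem_centralizer_iff.mp hu.2 v' hv') hv'z huz)
      (not_dvd_card_of_isPGroup (C.prime q hq) hqr (hE.to_le inf_le_left)) hzW
    obtain ⟨k, hk⟩ := IsPGroup.iff_orderOf.mp hE ⟨e, he⟩
    rw [Subgroup.orderOf_mk] at hk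
    have hk0 : k ≠ 0 := fun h0 => he1 (by rw [h0, pow_zero, orderOf_eq_one_iff] at hk; exact hk)
    set u := e ^ (orderOf e / r) with hu
    have huo : orderOf u = r :=
      orderOf_pow_orderOf_div (orderOf_pos e).ne' (hk ▸ dvd_pow_self r hk0)
    have huE1 : u ∈ E1 := E1.pow_mem heE1 _
    exact C.trip p hp r hr q hq hpr hqr.symm hpq v u w hvo huo hwo
      (Subgroup.mem_centralizer_iff.mp huE1.2 v hv) (D.comm v hv w hw) (hcent u huE1 w hw)
  obtain ⟨x, hx, hxP⟩ := exists_fixes_pair D.pp D.p1 (C.prime s hs) hps.symm hbc (D.pn b) (D.pn c)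
  rcases hx with rfl | ⟨i, rfl⟩
  · exact hfpf x hb hbc.1 hxP
  · exact hfpf _ (mul_mem hc (pow_mem hb i)) (hbc.orderOf_mul (C.prime s hs) i).1 hxP

theorem Cfg.no_translate (C : Cfg H σ) {p q r : ℕ} {P W : Subgroup H} (D : TwoNormal H p q P W)
    (hp : p ∈ σ) (hq : q ∈ σ) (hr : r ∈ σ) (hpq : p ≠ q) (hpr : p ≠ r) (hqr : q ≠ r)
    {u g e : H} (hu : orderOf u = r) (heo : orderOf e = r) (hge : Commute g e) (hue : Commute u e)
    (hun : u ∉ Subgroup.zpowers e) (hconj : g * u * g⁻¹ = u * e) (heP : ¬ Fixes P e)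
    (heW : ¬ Fixes W e) : False := by
  haveI := Fact.mk (C.prime p hp)
  haveI := Fact.mk (C.prime q hq)
  have hpair : IsPair r e u := ⟨heo, hu, hue.symm, hun⟩
  have hi : ∀ i : ℕ, g ^ i * u * (g ^ i)⁻¹ = u * e ^ i := by
    intro i
    induction i with
    | zero => simp
    | succ i ih =>
      calc g ^ (i + 1) * u * (g ^ (i + 1))⁻¹ = g * (g ^ i * u * (g ^ i)⁻¹) * g⁻¹ := by
            rw [pow_succ', mul_inv_rev]; simp [mul_assoc]
        _ = g * u * g⁻¹ * (g * e ^ i * g⁻¹) := by rw [ih]; group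
        _ = u * e * e ^ i := by rw [hconj, (hge.pow_right i).eq, mul_inv_cancel_right]
        _ = _ := by rw [mul_assoc, ← pow_succ']
  have hfix : ∀ {t : ℕ} [Fact t.Prime] {X : Subgroup H}, IsPGroup t X → X ≠ ⊥ → r ≠ t →
      (∀ y : H, y ∈ Subgroup.normalizer (X : Set H)) → ¬ Fixes X e → Fixes X u := by
    intro t _ X hX hX1 hrt hXn he
    obtain ⟨x, hx, hxX⟩ := exists_fixes_pair hX hX1 (C.prime r hr) hrt hpair (hXn e) (hXn u)
    rcases hx with rfl | ⟨i, rfl⟩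
    · exact absurd hxX he
    · have := fixes_conj (hXn (g ^ i)⁻¹) hxX
      rwa [← hi i, show (g ^ i)⁻¹ * (g ^ i * u * (g ^ i)⁻¹) * ((g ^ i)⁻¹)⁻¹ = u by group] at this
  exact C.not_both D hp hq hr hpq hqr hpr hu (hfix D.pp D.p1 hpr.symm D.pn heP)
    (hfix D.qq D.q1 hqr.symm D.qn heW)

theorem Cfg.stepI [Group.IsSolvable H] (C : Cfg H σ) {p q r s : ℕ} {P W : Subgroup H}
    (D : TwoNormal H p q P W)
    (hp : p ∈ σ) (hq : q ∈ σ) (hr : r ∈ σ) (hs : s ∈ σ) (hpq : p ≠ q) (hpr : p ≠ r) (hps : p ≠ s)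
    (hqr : q ≠ r) (hqs : q ≠ s) (hrs : r ≠ s) {J : Subgroup H} (hJr : PairIn r J)
    (hJs : PairIn s J) :
    ¬ PairIn r (core J r) ∧
      (∀ z ∈ J, orderOf z = s → ∀ y ∈ core J r, y ^ r = 1 → Commute z y) ∧
      (∀ y ∈ core J r, y ^ r = 1 → y ≠ 1 → ¬ Fixes P y) ∧
      ∃ a ∈ J, orderOf a = r ∧ Fixes P a ∧ ∀ y ∈ core J r, Commute a y := by
  haveI := Fact.mk (C.prime p hp)
  haveI := Fact.mk (C.prime q hq)
  haveI := Fact.mk (C.prime r hr)
  haveI := Fact.mk (C.prime s hs)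
  have hrp := C.prime r hr
  set T := core J r with hTdef
  have hT : IsPGroup r T := isPGroup_core J r
  have hJT : ∀ g ∈ J, ∀ y ∈ T, g * y * g⁻¹ ∈ T := fun g hg y hy =>
    (Subgroup.mem_normalizer_iff.mp (le_normalizer_core J r hg) y).mp hy
  obtain ⟨a0, ha0J, ha0o, ha0P⟩ : ∃ a ∈ J, orderOf a = r ∧ Fixes P a := by
    obtain ⟨b, hb, c, hc, hbc⟩ := hJr
    obtain ⟨x, hx, hxP⟩ := exists_fixes_pair D.pp D.p1 hrp hpr.symm hbc (D.pn b) (D.pn c)
    rcases hx with rfl | ⟨i, rfl⟩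
    · exact ⟨x, hb, hbc.1, hxP⟩
    · exact ⟨_, mul_mem hc (pow_mem hb i), (hbc.orderOf_mul hrp i).1, hxP⟩
  rcases eq_or_ne T ⊥ with hT0 | hT0
  · have h1 : ∀ y ∈ T, y = 1 := fun y hy => by rw [hT0] at hy; exact Subgroup.mem_bot.mp hy
    exact ⟨fun ⟨b, hb, _, _, hbc⟩ => ne_one_of_orderOf hrp hbc.1 (h1 b hb),
      fun z _ _ y hy _ => h1 y hy ▸ Commute.one_right z,
      fun y hy _ hy1 => absurd (h1 y hy) hy1,
      a0, ha0J, ha0o, ha0P, fun y hy => h1 y hy ▸ Commute.one_right a0⟩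
  -- the central elements of order r
  let E : Subgroup H :=
    { carrier := {e | e ∈ T ∧ (∀ y ∈ T, Commute e y) ∧ e ^ r = 1}
      one_mem' := ⟨one_mem _, fun y _ => Commute.one_left y, one_pow r⟩
      mul_mem' := by
        rintro a b ⟨ha, hac, har⟩ ⟨hb, hbc, hbr⟩
        exact ⟨mul_mem ha hb, fun y hy => (hac y hy).mul_left (hbc y hy),
          by rw [(hac b hb).mul_pow, har, hbr, one_mul]⟩
      inv_mem' := by
        rintro a ⟨ha, hac, har⟩
        exact ⟨inv_mem ha, fun y hy => (hac y hy).inv_left, by rw [inv_pow, har, inv_one]⟩ }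
  have hET : E ≤ T := fun e he => he.1
  have hEJ : E ≤ J := hET.trans (core_le J r)
  have hEr : IsPGroup r E := hT.to_le hET
  have hEab : ∀ a ∈ E, ∀ b ∈ E, Commute a b := fun a ha b hb => ha.2.1 b (hET hb)
  have hEo : ∀ e ∈ E, e ≠ 1 → orderOf e = r := fun e he h1 =>
    orderOf_eq_of_pow_prime hrp he.2.2 h1
  have hJE : ∀ g ∈ J, ∀ e ∈ E, g * e * g⁻¹ ∈ E := by
    rintro g hg e ⟨heT, hec, her⟩
    refine ⟨hJT g hg e heT, fun y hy => ?_, by rw [conj_pow, her, mul_one, mul_inv_cancel]⟩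
    have h1 : g⁻¹ * y * g ∈ T := by simpa using hJT g⁻¹ (inv_mem hg) y hy
    have := commute_conj (g := g) (hec _ h1)
    simpa [mul_assoc] using this
  have hEP := C.faithful_omega D hp hq hr hs hpq hpr hps hqr hqs hrs hJE hEr hJs
  have hEW := C.faithful_omega D.symm hq hp hr hs hpq.symm hqr hqs hpr hps hrs hJE hEr hJs
  -- elements of order s centralise E
  have hzE : ∀ z ∈ J, orderOf z = s → ∀ e ∈ E, Commute z e := by
    intro z hz hzo e he
    have key : ∀ {t : ℕ} [Fact t.Prime] {X : Subgroup H}, IsPGroup t X → r ≠ t →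
        (∀ y : H, y ∈ Subgroup.normalizer (X : Set H)) →
        (∀ e ∈ E, (∀ v ∈ X, Commute e v) → e = 1) → ¬ Fixes X z → Commute z e := by
      intro t _ X hX hrt hXn hfaith hfix
      have h := commutator_cent hrt hX E hEr (hzo ▸ C.prime s hs) (hzo ▸ hrs.symm) (hXn z)
        (fun g _ => hXn g) (hJE z hz)
        (fun a ha b hb v _ => by
          rw [commutatorElement_eq_one_iff_commute.mpr (hEab a ha b hb)]
          exact Commute.one_left v) hfix e he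
      exact commutatorElement_eq_one_iff_commute.mp
        (hfaith _ (mul_mem (hJE z hz e he) (inv_mem he)) h)
    by_cases hzP : Fixes P z
    · exact key D.qq hqr.symm D.qn hEW fun h => C.not_both D hp hq hs hpq hqs hps hzo hzP h
    · exact key D.pp hpr.symm D.pn hEP hzP
  -- non-trivial elements of E fix nothing
  have hEfix : ∀ {t : ℕ} {X : Subgroup H}, t ∈ σ → t ≠ r → t ≠ s → IsPGroup t X →
      (∀ y : H, y ∈ Subgroup.normalizer (X : Set H)) → ∀ e ∈ E, e ≠ 1 → ¬ Fixes X e := by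
    intro t X ht htr hts hX hXn e he he1 hfix
    haveI := Fact.mk (C.prime t ht)
    obtain ⟨b, hb, c, hc, hbc⟩ := hJs
    obtain ⟨v, hv, hv1, hve⟩ := hfix
    have hU1 : X ⊓ Subgroup.centralizer ({e} : Set H) ≠ ⊥ := fun h => hv1
      (Subgroup.mem_bot.mp (h ▸ ⟨hv, Subgroup.mem_centralizer_singleton_iff.mpr hve.eq⟩))
    obtain ⟨x, hx, hxU⟩ := exists_fixes_pair (hX.to_le inf_le_left) hU1 (C.prime s hs) hts.symm hbc
      (mem_normalizer_inf_centralizer (hXn b) (hzE b hb hbc.1 e he))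
      (mem_normalizer_inf_centralizer (hXn c) (hzE c hc hbc.2.1 e he))
    obtain ⟨w, hw, hwo, hwx⟩ := fixes_prime (hX.to_le inf_le_left) hxU
    have hxJ : x ∈ J ∧ orderOf x = s := by
      rcases hx with rfl | ⟨i, rfl⟩
      · exact ⟨hb, hbc.1⟩
      · exact ⟨mul_mem hc (pow_mem hb i), (hbc.orderOf_mul (C.prime s hs) i).1⟩
    exact C.trip t ht r hr s hs htr hrs hts w e x hwo (hEo e he he1) hxJ.2
      (Subgroup.mem_centralizer_singleton_iff.mp hw.2) hwx (hzE x hxJ.1 hxJ.2 e he).symm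
  have hEfP := hEfix hp hpr hps D.pp D.pn
  have hEfW := hEfix hq hqr hqs D.qq D.qn
  have hEno : ¬ PairIn r E := by
    rintro ⟨b, hb, c, hc, hbc⟩
    obtain ⟨x, hx, hxP⟩ := exists_fixes_pair D.pp D.p1 hrp hpr.symm hbc (D.pn b) (D.pn c)
    rcases hx with rfl | ⟨i, rfl⟩
    · exact hEfP x hb (ne_one_of_orderOf hrp hbc.1) hxP
    · exact hEfP _ (mul_mem hc (pow_mem hb i))
        (ne_one_of_orderOf hrp (hbc.orderOf_mul hrp i).1) hxP
  obtain ⟨m, hmT, hmo, hmc⟩ := exists_central_order hT hT0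
  have hmE : m ∈ E := ⟨hmT, hmc, by rw [← hmo, pow_orderOf_eq_one]⟩
  have hEz : ∀ e ∈ E, e ∈ Subgroup.zpowers m := fun e he =>
    mem_zpowers_of_no_pair hEr hEno hmE hmo he he.2.2
  have hzE' : ∀ e ∈ Subgroup.zpowers m, e ∈ E := fun e he => Subgroup.zpowers_le.mpr hmE he
  -- a translate inside a subgroup in which m is central is impossible
  have hno : ∀ R : Subgroup H, IsPGroup r R → m ∈ R → (∀ y ∈ R, Commute m y) → ∀ u₀ ∈ R,
      orderOf u₀ = r → u₀ ∉ Subgroup.zpowers m →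
      ∃ c ∈ R, orderOf c = r ∧ (∀ y ∈ R, Commute c y) ∧ c ∉ Subgroup.zpowers m := by
    intro R hR hmR hmc' u₀ hu₀ hu₀o hu₀n
    by_contra hcon
    push Not at hcon
    obtain ⟨u, g, e, huo, hum, hem, he1, hconj⟩ :=
      exists_translate hR (m := ⟨m, hmR⟩) (u₀ := ⟨u₀, hu₀⟩)
        (fun y => Subtype.ext (hmc' y y.2).eq) (by rwa [Subgroup.orderOf_mk])
        (fun h => hu₀n (coe_zpowers h))
        (fun c hco hcc => mem_zpowers_coe (hcon c c.2 (by rwa [Subgroup.orderOf_coe])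
          fun y hy => congrArg Subtype.val (hcc ⟨y, hy⟩).eq))
    have hem' : (e : H) ∈ Subgroup.zpowers m := coe_zpowers hem
    have he1' : (e : H) ≠ 1 := fun h => he1 (Subtype.ext h)
    have heo := hEo _ (hzE' _ hem') he1'
    obtain ⟨k, hk⟩ := Subgroup.mem_zpowers_iff.mp hem'
    refine C.no_translate D hp hq hr hpq hpr hqr
      (u := (u : H)) (g := (g : H)) (e := (e : H)) (by rwa [Subgroup.orderOf_coe]) heo
      (hk ▸ ((hmc' g g.2).symm.zpow_right k)) (hk ▸ ((hmc' u u.2).symm.zpow_right k))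
      (fun h => hum (mem_zpowers_coe (Subgroup.zpowers_le.mpr hem' h)))
      (congrArg Subtype.val hconj) (hEfP _ (hzE' _ hem') he1') (hEfW _ (hzE' _ hem') he1')
  have hTno : ¬ PairIn r T := by
    rintro ⟨b, hb, c, hc, hbc⟩
    have : b ∉ Subgroup.zpowers m ∨ c ∉ Subgroup.zpowers m := by
      by_contra h
      push Not at h
      exact hbc.2.2.2 (Subgroup.zpowers_le.mpr
        (mem_zpowers_of_prime hrp hmo h.1 (ne_one_of_orderOf hrp hbc.1)) h.2)
    obtain ⟨u₀, hu₀, hu₀o, hu₀n⟩ : ∃ u₀ ∈ T, orderOf u₀ = r ∧ u₀ ∉ Subgroup.zpowers m := by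
      rcases this with h | h
      · exact ⟨b, hb, hbc.1, h⟩
      · exact ⟨c, hc, hbc.2.1, h⟩
    obtain ⟨d, hd, hdo, hdc, hdn⟩ := hno T hT hmT hmc u₀ hu₀ hu₀o hu₀n
    exact hdn (hEz d ⟨hd, hdc, by rw [← hdo, pow_orderOf_eq_one]⟩)
  have hTE : ∀ y ∈ T, y ^ r = 1 → y ∈ E := fun y hy hyr =>
    hzE' y (mem_zpowers_of_no_pair hT hTno hmT hmo hy hyr)
  refine ⟨hTno, fun z hz hzo y hy hyr => hzE z hz hzo y (hTE y hy hyr),
    fun y hy hyr hy1 => hEfP y (hTE y hy hyr) hy1, ?_⟩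
  -- an element fixing P and centralising T
  set R := Subgroup.zpowers a0 ⊔ T with hRdef
  have hR : IsPGroup r R := IsPGroup.to_sup_of_normal_right' (isPGroup_zpowers ha0o) hT
    (Subgroup.zpowers_le.mpr (le_normalizer_core J r ha0J))
  have hRJ : R ≤ J := sup_le (Subgroup.zpowers_le.mpr ha0J) (core_le J r)
  have ham : Commute a0 m := commute_of_pgroup_normalises (n := 1) hmo
    (hEz _ (hJE a0 ha0J m hmE)) (by rw [pow_one, ← ha0o, pow_orderOf_eq_one])
  have hmR : ∀ y ∈ R, Commute m y := by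
    have : R ≤ Subgroup.centralizer ({m} : Set H) := sup_le
      (Subgroup.zpowers_le.mpr (Subgroup.mem_centralizer_singleton_iff.mpr ham.eq))
      (fun y hy => Subgroup.mem_centralizer_singleton_iff.mpr (hmc y hy).eq.symm)
    exact fun y hy => (Subgroup.mem_centralizer_singleton_iff.mp (this hy)).symm
  have ha0n : a0 ∉ Subgroup.zpowers m := fun h =>
    hEfP a0 (hzE' a0 h) (ne_one_of_orderOf hrp ha0o) ha0P
  obtain ⟨c, hcR, hco, hcc, hcn⟩ := hno R hR (le_sup_right (a := Subgroup.zpowers a0) hmT) hmR a0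
    (Subgroup.mem_sup_left (Subgroup.mem_zpowers a0)) ha0o ha0n
  have hpair : IsPair r m c := ⟨hmo, hco, hmR c hcR, hcn⟩
  obtain ⟨x, hx, hxP⟩ := exists_fixes_pair D.pp D.p1 hrp hpr.symm hpair (D.pn m) (D.pn c)
  rcases hx with rfl | ⟨i, rfl⟩
  · exact absurd hxP (hEfP x hmE (ne_one_of_orderOf hrp hmo))
  · refine ⟨_, hRJ (mul_mem hcR (pow_mem (le_sup_right (a := Subgroup.zpowers a0) hmT) i)),
      (hpair.orderOf_mul hrp i).1, hxP, fun y hy => ?_⟩
    exact (hcc y (Subgroup.mem_sup_right hy)).mul_left ((hmc y hy).pow_left i)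

theorem Cfg.caseI_aux [Group.IsSolvable H] (C : Cfg H σ) {p q r s : ℕ} {P W : Subgroup H}
    (D : TwoNormal H p q P W)
    (hp : p ∈ σ) (hq : q ∈ σ) (hr : r ∈ σ) (hs : s ∈ σ) (hpq : p ≠ q) (hpr : p ≠ r) (hps : p ≠ s)
    (hqr : q ≠ r) (hqs : q ≠ s) (hrs : r ≠ s) {J : Subgroup H}
    (hJπ : ∀ t : ℕ, t.Prime → t ∣ Nat.card J → t = r ∨ t = s) (hJr : PairIn r J)
    (hJs : PairIn s J) (hs2 : s ≠ 2) : False := by
  haveI := Fact.mk (C.prime r hr)
  haveI := Fact.mk (C.prime s hs)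
  obtain ⟨-, -, hnf, a, haJ, hao, haP, haT⟩ :=
    C.stepI D hp hq hr hs hpq hpr hps hqr hqs hrs hJr hJs
  obtain ⟨hSno, hScomm, -, -⟩ :=
    C.stepI D hp hq hs hr hpq hps hpr hqs hqr hrs.symm hJs hJr
  have haS : ∀ y ∈ core J s, Commute a y := cent_of_no_pair hs2 (isPGroup_core J s) hSno
    (hao ▸ C.prime r hr) (hao ▸ hrs)
    (fun y hy => (Subgroup.mem_normalizer_iff.mp (le_normalizer_core J s haJ) y).mp hy)
    (fun y hy hys => hScomm a haJ hao y hy hys)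
  have haC : a ∈ core J r := mem_core_of_cent haJ (isPGroup_zpowers hao) fun t ht v hv => by
    by_cases h1 : t = r
    · subst h1; exact haT v hv
    by_cases h2 : t = s
    · subst h2; exact haS v hv
    rw [core_eq_bot_of_forall hJπ ht h1 h2, Subgroup.mem_bot] at hv
    rw [hv]
    exact Commute.one_right a
  exact hnf a haC (by rw [← hao, pow_orderOf_eq_one]) (ne_one_of_orderOf (C.prime r hr) hao) haP

theorem Cfg.caseI [Group.IsSolvable H] (C : Cfg H σ) {p q : ℕ} {P W : Subgroup H}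
    (D : TwoNormal H p q P W) (hp : p ∈ σ) (hq : q ∈ σ) (hpq : p ≠ q) : False := by
  have hc : ((σ.erase p).erase q).card = 2 := by
    rw [Finset.card_erase_of_mem (Finset.mem_erase.mpr ⟨hpq.symm, hq⟩),
      Finset.card_erase_of_mem hp, C.card]
  obtain ⟨r, s, hrs, he⟩ := Finset.card_eq_two.mp hc
  have hmem : ∀ y ∈ ({r, s} : Finset ℕ), y ∈ σ ∧ y ≠ p ∧ y ≠ q := fun y hy => by
    rw [← he, Finset.mem_erase, Finset.mem_erase] at hy
    exact ⟨hy.2.2, hy.2.1, hy.1⟩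
  obtain ⟨hr, hrp, hrq⟩ := hmem r (by simp)
  obtain ⟨hs, hsp, hsq⟩ := hmem s (by simp)
  obtain ⟨J, -, hJπ, hJ⟩ := exists_hallSub (⊤ : Subgroup H) ({r, s} : Set ℕ)
  have hJr := pairIn_hall (C.prime r hr) (Or.inl rfl) hJ (C.pairIn_top hr)
  have hJs := pairIn_hall (C.prime s hs) (Or.inr rfl) hJ (C.pairIn_top hs)
  have hπ : ∀ t : ℕ, t.Prime → t ∣ Nat.card J → t = r ∨ t = s := fun t ht hd => hJπ t ht hd
  rcases eq_or_ne s 2 with hs2 | hs2
  · exact C.caseI_aux D hp hq hs hr hpq hsp.symm hrp.symm hsq.symm hrq.symm hrs.symm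
      (fun t ht hd => (hπ t ht hd).symm) hJs hJr (fun h => hrs (h.trans hs2.symm))
  · exact C.caseI_aux D hp hq hr hs hpq hrp.symm hsp.symm hrq.symm hsq.symm hrs hπ hJr hJs hs2

end CfsgLib.FourPrimes
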