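import Cfsg.Agent.Lib.SolvStruct.FourPrimesCaseI

/-!
Four primes: the case of a single non-trivial core.
-/

set_option autoImplicit false
set_option linter.unusedSectionVars false

namespace CfsgLib.FourPrimes

open scoped commutatorElement

universe u

variable {H : Type u} [Group H] [Finite H] {σ : Finset ℕ}

/-- The data of the second case: `P` self-centralising, `K` a Hall subgroup for `{q, r, s}`,
`J` one for `{r, s}`. -/
structure CtxII (H : Type u) [Group H] (σ : Finset ℕ) (p q r s : ℕ) (P K J : Subgroup H) :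
    Prop where
  hp : p ∈ σ
  hq : q ∈ σ
  hr : r ∈ σ
  hs : s ∈ σ
  pq : p ≠ q
  pr : p ≠ r
  ps : p ≠ s
  qr : q ≠ r
  qs : q ≠ s
  rs : r ≠ s
  Pp : IsPGroup p P
  Pn : ∀ g : H, g ∈ Subgroup.normalizer (P : Set H)
  hC : ∀ t : ℕ, t.Prime → t ≠ p → ∀ x : H, IsPGroup t (Subgroup.zpowers x) →
    (∀ v ∈ P, Commute x v) → x = 1
  JK : J ≤ K
  Kπ : ∀ t : ℕ, t.Prime → t ∣ Nat.card K → t = q ∨ t = r ∨ t = s
  Jπ : ∀ t : ℕ, t.Prime → t ∣ Nat.card J → t = r ∨ t = s
  Q1 : core K q ≠ ⊥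
  Rno : ¬ PairIn r (core K r)
  Sno : ¬ PairIn s (core K s)
  Rle : core K r ≤ core J r
  Sle : core K s ≤ core J s
  Jr : PairIn r J
  Js : PairIn s J

theorem CtxII.symm {p q r s : ℕ} {P K J : Subgroup H} (D : CtxII H σ p q r s P K J) :
    CtxII H σ p q s r P K J :=
  ⟨D.hp, D.hq, D.hs, D.hr, D.pq, D.ps, D.pr, D.qs, D.qr, D.rs.symm, D.Pp, D.Pn, D.hC, D.JK,
    fun t ht hd => (D.Kπ t ht hd).imp id Or.symm, fun t ht hd => (D.Jπ t ht hd).symm, D.Q1,
    D.Sno, D.Rno, D.Sle, D.Rle, D.Js, D.Jr⟩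

theorem isPGroup_zpowers_of_mem {t : ℕ} {T : Subgroup H} (hT : IsPGroup t T) {x : H} (hx : x ∈ T) :
    IsPGroup t (Subgroup.zpowers x) :=
  hT.to_le (Subgroup.zpowers_le.mpr hx)

/-- An element of order `r` fixing nothing on `P` fixes something on `O_q(K)`. -/
theorem Cfg.fix_or (C : Cfg H σ) {p q r s : ℕ} {P K J : Subgroup H} (D : CtxII H σ p q r s P K J)
    {x : H} (hx : x ∈ K) {t : ℕ} (hxo : orderOf x = t) (htσ : t ∈ σ) (htq : t ≠ q)
    (hxP : ¬ Fixes P x) : Fixes (core K q) x := by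
  haveI := Fact.mk (C.prime p D.hp)
  haveI := Fact.mk (C.prime q D.hq)
  by_contra hxQ
  refine D.Q1 (eq_bot_iff.mpr fun y hy => Subgroup.mem_bot.mpr ?_)
  refine D.hC q (C.prime q D.hq) D.pq.symm y (isPGroup_zpowers_of_mem (isPGroup_core K q) hy)
    (kernel_cent D.Pp (core K q) (hxo ▸ C.prime t htσ) (D.Pn x) (fun g _ => D.Pn g)
      (fun z hz => (Subgroup.mem_normalizer_iff.mp (le_normalizer_core K q hx) z).mp hz)
      (fun z hz hc => ?_) (not_dvd_card_of_isPGroup (C.prime p D.hp) D.pq (isPGroup_core K q))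
      hxP y hy)
  by_contra h1
  exact hxQ ⟨z, hz, h1, hc.symm⟩

theorem Cfg.stepII [Group.IsSolvable H] (C : Cfg H σ) {p q r s : ℕ} {P K J : Subgroup H}
    (D : CtxII H σ p q r s P K J) (hT0 : core J r ≠ ⊥) :
    ∃ m ∈ core J r, orderOf m = r ∧ (∀ y ∈ core J r, Commute m y) ∧
      (∀ z ∈ J, z * m * z⁻¹ ∈ Subgroup.zpowers m) ∧
      (∀ y ∈ core K r, y ^ r = 1 → y ∈ Subgroup.zpowers m) ∧
      ∀ b ∈ J, ∀ c ∈ J, IsPair s b c → Commute b m → Commute c m → False := by
  haveI := Fact.mk (C.prime p D.hp)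
  haveI := Fact.mk (C.prime q D.hq)
  haveI := Fact.mk (C.prime r D.hr)
  haveI := Fact.mk (C.prime s D.hs)
  have hrp := C.prime r D.hr
  have hsp := C.prime s D.hs
  set T := core J r with hTdef
  set Q := core K q with hQdef
  have hT : IsPGroup r T := isPGroup_core J r
  have hTJ : T ≤ J := core_le J r
  have hJQ : J ≤ Subgroup.normalizer (Q : Set H) := D.JK.trans (le_normalizer_core K q)
  have hJT : ∀ g ∈ J, ∀ y ∈ T, g * y * g⁻¹ ∈ T := fun g hg y hy =>
    (Subgroup.mem_normalizer_iff.mp (le_normalizer_core J r hg) y).mp hy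
  obtain ⟨m, hmT, hmo, hmc, hmn, hmu⟩ : ∃ m ∈ T, orderOf m = r ∧ (∀ y ∈ T, Commute m y) ∧
      (∀ z ∈ J, z * m * z⁻¹ ∈ Subgroup.zpowers m) ∧
      (∀ y ∈ core K r, y ^ r = 1 → y ∈ Subgroup.zpowers m) := by
    by_cases hR0 : core K r = ⊥
    · let E : Subgroup H :=
        { carrier := {e | e ∈ T ∧ (∀ y ∈ T, Commute e y) ∧ e ^ r = 1}
          one_mem' := ⟨one_mem _, fun y _ => Commute.one_left y, one_pow r⟩
          mul_mem' := by
            rintro a b ⟨ha, hac, har⟩ ⟨hb, hbc, hbr⟩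
            exact ⟨mul_mem ha hb, fun y hy => (hac y hy).mul_left (hbc y hy),
              by rw [(hac b hb).mul_pow, har, hbr, one_mul]⟩
          inv_mem' := by
            rintro a ⟨ha, hac, har⟩
            exact ⟨inv_mem ha, fun y hy => (hac y hy).inv_left, by rw [inv_pow, har, inv_one]⟩ }
      have hEr : IsPGroup r E := hT.to_le fun e he => he.1
      have hEJ : E ≤ J := fun e he => hTJ he.1
      have hJE : ∀ g ∈ J, ∀ e ∈ E, g * e * g⁻¹ ∈ E := by
        rintro g hg e ⟨heT, hec, her⟩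
        refine ⟨hJT g hg e heT, fun y hy => ?_, by rw [conj_pow, her, mul_one, mul_inv_cancel]⟩
        have h1 : g⁻¹ * y * g ∈ T := by simpa using hJT g⁻¹ (inv_mem hg) y hy
        have := commute_conj (g := g) (hec _ h1)
        simpa [mul_assoc] using this
      have hEP : ∀ e ∈ E, (∀ v ∈ P, Commute e v) → e = 1 := fun e he h =>
        D.hC r hrp D.pr.symm e (isPGroup_zpowers_of_mem hEr he) h
      have hEQ : ∀ e ∈ E, (∀ v ∈ Q, Commute e v) → e = 1 := by
        intro e he h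
        have hd : Disjoint T (core J s) := disjoint_of_pgroups D.rs hT (isPGroup_core J s)
        have := mem_core_of_cent (K := K) (t := r) (D.JK (hEJ he))
          (isPGroup_zpowers_of_mem hEr he) fun t ht v hv => by
            by_cases h1 : t = q
            · subst h1; exact h v hv
            by_cases h2 : t = r
            · subst h2
              rw [hR0, Subgroup.mem_bot] at hv
              rw [hv]; exact Commute.one_right e
            by_cases h3 : t = s
            · subst h3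
              exact commute_of_disjoint_normalised hd
                ((core_le J _).trans (le_normalizer_core J r))
                (hTJ.trans (le_normalizer_core J _)) e he.1 v (D.Sle hv)
            haveI := Fact.mk ht
            have hb0 : core K t = ⊥ := by
              by_contra hne
              rcases D.Kπ t ht (dvd_card_of_core_ne_bot hne) with hh | hh | hh
              · exact h1 hh
              · exact h2 hh
              · exact h3 hh
            rw [hb0, Subgroup.mem_bot] at hv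
            rw [hv]
            exact Commute.one_right e
        rw [hR0] at this
        exact Subgroup.mem_bot.mp this
      have hzE : ∀ z ∈ J, orderOf z = s → Fixes E z → ∀ e ∈ E, Commute z e := by
        intro z hz hzo hzfix e he
        have key : ∀ {t : ℕ} [Fact t.Prime] {X : Subgroup H}, IsPGroup t X → r ≠ t →
            J ≤ Subgroup.normalizer (X : Set H) →
            (∀ e ∈ E, (∀ v ∈ X, Commute e v) → e = 1) → ¬ Fixes X z → Commute z e := by
          intro t _ X hX hrt hXn hfaith hfix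
          have h := commutator_cent hrt hX E hEr (hzo ▸ hsp) (hzo ▸ D.rs.symm) (hXn hz)
            (fun g hg => hXn (hEJ hg)) (hJE z hz)
            (fun a ha b hb v _ => by
              rw [commutatorElement_eq_one_iff_commute.mpr (ha.2.1 b hb.1)]
              exact Commute.one_left v) hfix e he
          exact commutatorElement_eq_one_iff_commute.mp
            (hfaith _ (mul_mem (hJE z hz e he) (inv_mem he)) h)
        by_cases hzP : Fixes P z
        · refine key (isPGroup_core K q) D.qr.symm hJQ hEQ fun hzQ => ?_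
          obtain ⟨v, -, hvo, hvz⟩ := fixes_prime D.Pp hzP
          obtain ⟨w, -, hwo, hwz⟩ := fixes_prime (isPGroup_core K q) hzQ
          obtain ⟨u, -, huo, huz⟩ := fixes_prime hEr hzfix
          exact C.no_three D.hs D.hp D.hq D.hr D.ps.symm D.qs.symm D.rs.symm D.pq D.qr D.pr hzo
            hvo hwo huo hvz.symm hwz.symm huz.symm
        · exact key D.Pp D.pr.symm (fun g _ => D.Pn g) hEP hzP
      obtain ⟨m, hmT, hmo, hmc⟩ := exists_central_order hT hT0
      have hmE : m ∈ E := ⟨hmT, hmc, by rw [← hmo, pow_orderOf_eq_one]⟩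
      have hEno : ¬ PairIn r E := by
        rintro ⟨e₁, he₁, e₂, he₂, hee⟩
        obtain ⟨b, hb, c, hc, hbc⟩ := D.Js
        have hEn : J ≤ Subgroup.normalizer (E : Set H) := fun g hg =>
          Subgroup.mem_normalizer_iff.mpr fun y =>
            ⟨hJE g hg y, fun h => by simpa [mul_assoc] using hJE g⁻¹ (inv_mem hg) _ h⟩
        obtain ⟨w, hw, hwE⟩ := exists_fixes_pair hEr
          (fun h => ne_one_of_orderOf hrp hmo (Subgroup.mem_bot.mp (h ▸ hmE))) hsp D.rs.symm hbc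
          (hEn hb) (hEn hc)
        obtain ⟨hwJ, hwo⟩ : w ∈ J ∧ orderOf w = s := by
          rcases hw with rfl | ⟨i, rfl⟩
          · exact ⟨hb, hbc.1⟩
          · exact ⟨mul_mem hc (pow_mem hb i), (hbc.orderOf_mul hsp i).1⟩
        have hwc := hzE w hwJ hwo hwE
        have key : ∀ {t : ℕ} [Fact t.Prime] {X : Subgroup H}, t ∈ σ → r ≠ t → s ≠ t →
            IsPGroup t X → J ≤ Subgroup.normalizer (X : Set H) → Fixes X w → False := by
          intro t _ X ht hrt hst hX hXn hfix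
          obtain ⟨v, hv, hv1, hvw⟩ := hfix
          have hU1 : X ⊓ Subgroup.centralizer ({w} : Set H) ≠ ⊥ := fun h => hv1
            (Subgroup.mem_bot.mp (h ▸ ⟨hv, Subgroup.mem_centralizer_singleton_iff.mpr hvw.eq⟩))
          obtain ⟨x, hx, hxU⟩ := exists_fixes_pair (hX.to_le inf_le_left) hU1 hrp hrt hee
            (mem_normalizer_inf_centralizer (hXn (hEJ he₁)) (hwc e₁ he₁).symm)
            (mem_normalizer_inf_centralizer (hXn (hEJ he₂)) (hwc e₂ he₂).symm)
          obtain ⟨hxE, hxo⟩ : x ∈ E ∧ orderOf x = r := by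
            rcases hx with rfl | ⟨i, rfl⟩
            · exact ⟨he₁, hee.1⟩
            · exact ⟨mul_mem he₂ (pow_mem he₁ i), (hee.orderOf_mul hrp i).1⟩
          obtain ⟨u, hu, huo, hux⟩ := fixes_prime (hX.to_le inf_le_left) hxU
          exact C.trip t ht r D.hr s D.hs hrt.symm D.rs hst.symm u x w huo hxo hwo hux
            (Subgroup.mem_centralizer_singleton_iff.mp hu.2) (hwc x hxE).symm
        by_cases hwP : Fixes P w
        · exact key D.hp D.pr.symm D.ps.symm D.Pp (fun g _ => D.Pn g) hwP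
        · exact key D.hq D.qr.symm D.qs.symm (isPGroup_core K q) hJQ
            (C.fix_or D (D.JK hwJ) hwo D.hs D.qs.symm hwP)
      refine ⟨m, hmT, hmo, hmc, fun z hz => ?_, fun y hy _ => ?_⟩
      · exact mem_zpowers_of_no_pair hEr hEno hmE hmo (hJE z hz m hmE) (hJE z hz m hmE).2.2
      · rw [hR0, Subgroup.mem_bot] at hy
        rw [hy]
        exact one_mem _
    · obtain ⟨m, hm, hmo, -⟩ := exists_central_order (isPGroup_core K r) hR0
      have hu : ∀ y ∈ core K r, y ^ r = 1 → y ∈ Subgroup.zpowers m := fun y hy hyr =>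
        mem_zpowers_of_no_pair (isPGroup_core K r) D.Rno hm hmo hy hyr
      have hn : ∀ z ∈ J, z * m * z⁻¹ ∈ Subgroup.zpowers m := fun z hz =>
        hu _ ((Subgroup.mem_normalizer_iff.mp (le_normalizer_core K r (D.JK hz)) m).mp hm)
          (by rw [conj_pow, show m ^ r = 1 by rw [← hmo, pow_orderOf_eq_one], mul_one,
            mul_inv_cancel])
      exact ⟨m, D.Rle hm, hmo, fun y hy =>
        (commute_of_normalises_of_mem hmo hT hy (hn y (hTJ hy))).symm, hn, hu⟩
  refine ⟨m, hmT, hmo, hmc, hmn, hmu, fun b hb c hc hbc hbm hcm => ?_⟩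
  have key : ∀ {t : ℕ} [Fact t.Prime] {X : Subgroup H}, t ∈ σ → r ≠ t → s ≠ t →
      IsPGroup t X → J ≤ Subgroup.normalizer (X : Set H) → Fixes X m → False := by
    intro t _ X ht hrt hst hX hXn hfix
    obtain ⟨v, hv, hv1, hvm⟩ := hfix
    have hU1 : X ⊓ Subgroup.centralizer ({m} : Set H) ≠ ⊥ := fun h => hv1
      (Subgroup.mem_bot.mp (h ▸ ⟨hv, Subgroup.mem_centralizer_singleton_iff.mpr hvm.eq⟩))
    obtain ⟨x, hx, hxU⟩ := exists_fixes_pair (hX.to_le inf_le_left) hU1 hsp hst hbc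
      (mem_normalizer_inf_centralizer (hXn hb) hbm) (mem_normalizer_inf_centralizer (hXn hc) hcm)
    obtain ⟨hxm, hxo⟩ : Commute x m ∧ orderOf x = s := by
      rcases hx with rfl | ⟨i, rfl⟩
      · exact ⟨hbm, hbc.1⟩
      · exact ⟨hcm.mul_left (hbm.pow_left i), (hbc.orderOf_mul hsp i).1⟩
    obtain ⟨u, hu, huo, hux⟩ := fixes_prime (hX.to_le inf_le_left) hxU
    exact C.trip t ht r D.hr s D.hs hrt.symm D.rs hst.symm u m x huo hmo hxo
      (Subgroup.mem_centralizer_singleton_iff.mp hu.2) hux hxm.symm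
  by_cases hmP : Fixes P m
  · exact key D.hp D.pr.symm D.ps.symm D.Pp (fun g _ => D.Pn g) hmP
  · exact key D.hq D.qr.symm D.qs.symm (isPGroup_core K q) hJQ
      (C.fix_or D (D.JK (hTJ hmT)) hmo D.hr D.qr.symm hmP)

/-- A pair one of whose members commutes with `m`. -/
theorem exists_pair_commute {r s : ℕ} [Fact r.Prime] (hs : s.Prime) {m : H} (hm : orderOf m = r)
    {J : Subgroup H} (hJm : ∀ z ∈ J, z * m * z⁻¹ ∈ Subgroup.zpowers m) (hpair : PairIn s J)
    (hN : ∀ b ∈ J, ∀ c ∈ J, IsPair s b c → Commute b m → Commute c m → False) :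
    ∃ b ∈ J, ∃ c ∈ J, IsPair s b c ∧ Commute b m ∧ ∀ i : ℕ, ¬ Commute (c * b ^ i) m := by
  suffices h : ∃ b ∈ J, ∃ c ∈ J, IsPair s b c ∧ Commute b m by
    obtain ⟨b, hb, c, hc, hbc, hbm⟩ := h
    refine ⟨b, hb, c, hc, hbc, hbm, fun i hi => hN b hb c hc hbc hbm ?_⟩
    simpa using hi.mul_left (hbm.pow_left i).inv_left
  obtain ⟨b, hb, c, hc, hbc⟩ := hpair
  by_cases hbm : Commute b m
  · exact ⟨b, hb, c, hc, hbc, hbm⟩
  obtain ⟨k, hk, hk1⟩ := zmod_exponent hm (hJm b hb) (hbc.1 ▸ pow_orderOf_eq_one b)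
  obtain ⟨l, hl, hl1⟩ := zmod_exponent hm (hJm c hc) (hbc.2.1 ▸ pow_orderOf_eq_one c)
  haveI := Fact.mk hs
  haveI : NeZero s := ⟨hs.ne_zero⟩
  have hko : orderOf (k : ZMod r) = s :=
    orderOf_eq_prime hk1 fun h => hbm (commute_of_zmod_one hm hk h)
  obtain ⟨i, -, hi⟩ :=
    (hko ▸ IsPrimitiveRoot.orderOf (k : ZMod r)).eq_pow_of_pow_eq_one hl1
  set n := i * (s - 1) with hn
  have hcomm : Commute (c * b ^ n) m := by
    refine commute_of_zmod_one hm (k := l * k ^ n) ?_ ?_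
    · calc c * b ^ n * m * (c * b ^ n)⁻¹ = c * (b ^ n * m * (b ^ n)⁻¹) * c⁻¹ := by group
        _ = (c * m * c⁻¹) ^ (k ^ n) := by rw [PGroups.conj_zpow_iterate hk n, conj_zpow]
        _ = _ := by rw [hl, ← zpow_mul]
    · push_cast
      rw [← hi, ← pow_add, hn, show i + i * (s - 1) = s * i by
        obtain ⟨s', rfl⟩ : ∃ s', s = s' + 1 := ⟨s - 1, by have := hs.pos; omega⟩
        simp only [Nat.add_sub_cancel]; ring, pow_mul, hk1, one_pow]
  obtain ⟨ho, -⟩ := hbc.orderOf_mul hs n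
  refine ⟨c * b ^ n, mul_mem hc (pow_mem hb n), b, hb,
    ⟨ho, hbc.1, hbc.2.2.1.symm.mul_left ((Commute.refl b).pow_left n), fun h => hbm ?_⟩, hcomm⟩
  obtain ⟨j, hj⟩ := Subgroup.mem_zpowers_iff.mp h
  exact hj ▸ hcomm.zpow_left j

theorem Cfg.caseII_aux [Group.IsSolvable H] (C : Cfg H σ) {p q r s : ℕ} {P K J : Subgroup H}
    (D : CtxII H σ p q r s P K J) (hT0 : core J r ≠ ⊥) (hS0 : core J s = ⊥) : False := by
  haveI := Fact.mk (C.prime p D.hp)
  haveI := Fact.mk (C.prime q D.hq)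
  haveI := Fact.mk (C.prime r D.hr)
  haveI := Fact.mk (C.prime s D.hs)
  have hrp := C.prime r D.hr
  have hsp := C.prime s D.hs
  obtain ⟨m, hmT, hmo, hmc, hmn, hmu, hN⟩ := C.stepII D hT0
  obtain ⟨b, hb, c, hc, hbc, hbm, hcm⟩ := exists_pair_commute hsp hmo hmn D.Js hN
  set T := core J r with hTdef
  set Q := core K q with hQdef
  set C0 := Subgroup.centralizer (Q : Set H) with hC0
  have hT : IsPGroup r T := isPGroup_core J r
  have hTJ : T ≤ J := core_le J r
  have hQ : IsPGroup q Q := isPGroup_core K q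
  have hJQ : J ≤ Subgroup.normalizer (Q : Set H) := D.JK.trans (le_normalizer_core K q)
  have hJT : ∀ g ∈ J, ∀ y ∈ T, g * y * g⁻¹ ∈ T := fun g hg y hy =>
    (Subgroup.mem_normalizer_iff.mp (le_normalizer_core J r hg) y).mp hy
  have hz : ∀ i : ℕ, c * b ^ i ∈ J ∧ orderOf (c * b ^ i) = s := fun i =>
    ⟨mul_mem hc (pow_mem hb i), (hbc.orderOf_mul hsp i).1⟩
  have hr2 : r ≠ 2 := by
    intro h2
    have := dvd_pred_of_noncomm hsp hmo (hz 0).2 (hmn _ (hz 0).1) (hcm 0)
    subst h2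
    exact hsp.ne_one (Nat.dvd_one.mp this)
  -- m is acted on without fixed points
  have hkernel : ∀ i : ℕ, ∀ {t : ℕ} [Fact t.Prime] {X : Subgroup H}, t ≠ r → IsPGroup t X →
      J ≤ Subgroup.normalizer (X : Set H) → ¬ Fixes X (c * b ^ i) → ∀ v ∈ X, Commute m v := by
    intro i t _ X htr hX hXn hfix
    refine kernel_cent hX (Subgroup.zpowers m) ((hz i).2 ▸ hsp) (hXn (hz i).1)
      ((Subgroup.zpowers_le.mpr (hTJ hmT)).trans hXn) (fun y hy => ?_) (fun y hy hyz => ?_)
      (not_dvd_card_of_isPGroup Fact.out htr (isPGroup_zpowers hmo)) hfix m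
      (Subgroup.mem_zpowers m)
    · obtain ⟨k, rfl⟩ := Subgroup.mem_zpowers_iff.mp hy
      rw [← conj_zpow]
      exact Subgroup.zpow_mem _ (hmn _ (hz i).1) k
    · by_contra hy1
      obtain ⟨k, hk⟩ := Subgroup.mem_zpowers_iff.mp (mem_zpowers_of_prime hrp hmo hy hy1)
      exact hcm i (hk ▸ hyz.zpow_right k)
  have hzP : ∀ i : ℕ, Fixes P (c * b ^ i) := by
    intro i
    by_contra h
    exact ne_one_of_orderOf hrp hmo (D.hC r hrp D.pr.symm m (isPGroup_zpowers hmo)
      (hkernel i D.pr D.Pp (fun g _ => D.Pn g) h))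
  -- a member fixing P and Q has no fixed points on T
  have hboth : ∀ i : ℕ, Fixes Q (c * b ^ i) → ¬ Fixes T (c * b ^ i) := by
    intro i h1 h2
    obtain ⟨v, -, hvo, hvz⟩ := fixes_prime D.Pp (hzP i)
    obtain ⟨w, -, hwo, hwz⟩ := fixes_prime hQ h1
    obtain ⟨u, -, huo, huz⟩ := fixes_prime hT h2
    exact C.no_three D.hs D.hp D.hq D.hr D.ps.symm D.qs.symm D.rs.symm D.pq D.qr D.pr (hz i).2
      hvo hwo huo hvz.symm hwz.symm huz.symm
  have hcores : ∀ {x : H}, x ∈ J → IsPGroup s (Subgroup.zpowers x) →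
      (∀ y ∈ T, Commute x y) → x = 1 := by
    intro x hx hxs hxT
    have := mem_core_of_cent hx hxs fun t ht v hv => by
      by_cases h1 : t = r
      · subst h1; exact hxT v hv
      by_cases h2 : t = s
      · subst h2
        rw [hS0, Subgroup.mem_bot] at hv
        rw [hv]; exact Commute.one_right x
      rw [core_eq_bot_of_forall D.Jπ ht h1 h2, Subgroup.mem_bot] at hv
      rw [hv]
      exact Commute.one_right x
    rw [hS0] at this
    exact Subgroup.mem_bot.mp this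
  by_cases hall : ∀ i : ℕ, Fixes Q (c * b ^ i)
  · exact ne_one_of_orderOf hsp hbc.1 (hcores hb (isPGroup_zpowers hbc.1)
      (pair_cent hT hsp D.rs.symm hbc (le_normalizer_core J r hb) (le_normalizer_core J r hc)
        fun i => hboth i (hall i)))
  push Not at hall
  obtain ⟨i₀, hi₀⟩ := hall
  have hmQ := hkernel i₀ D.qr hQ hJQ hi₀
  have hbQ : ¬ Fixes Q b := by
    intro h
    obtain ⟨w, hw, hwo, hwb⟩ := fixes_prime hQ h
    exact C.trip q D.hq r D.hr s D.hs D.qr D.rs D.qs w m b hwo hmo hbc.1 (hmQ w hw).symm hwb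
      hbm.symm
  -- the preimage of the centre of T acting on Q
  let Y : Subgroup H :=
    { carrier := {y | y ∈ T ∧ ∀ x ∈ T, ⁅y, x⁆ ∈ C0}
      one_mem' := ⟨one_mem _, fun x _ => by rw [commutatorElement_one_left]; exact one_mem _⟩
      mul_mem' := by
        rintro y z ⟨hy, hyc⟩ ⟨hz', hzc⟩
        refine ⟨mul_mem hy hz', fun x hx => ?_⟩
        rw [show ⁅y * z, x⁆ = y * ⁅z, x⁆ * y⁻¹ * ⁅y, x⁆ by
          simp only [commutatorElement_def]; group]
        exact mul_mem (conj_mem_centralizer (hJQ (hTJ hy)) (hzc x hx)) (hyc x hx)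
      inv_mem' := by
        rintro y ⟨hy, hyc⟩
        refine ⟨inv_mem hy, fun x hx => ?_⟩
        rw [show ⁅y⁻¹, x⁆ = y⁻¹ * ⁅y, x⁆⁻¹ * (y⁻¹)⁻¹ by simp only [commutatorElement_def]; group]
        exact conj_mem_centralizer (hJQ (inv_mem (hTJ hy))) (inv_mem (hyc x hx)) }
  have hYT : Y ≤ T := fun y hy => hy.1
  have hJY : ∀ g ∈ J, ∀ y ∈ Y, g * y * g⁻¹ ∈ Y := by
    rintro g hg y ⟨hy, hyc⟩
    refine ⟨hJT g hg y hy, fun x hx => ?_⟩
    have h1 : g⁻¹ * x * g ∈ T := by simpa using hJT g⁻¹ (inv_mem hg) x hx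
    rw [show ⁅g * y * g⁻¹, x⁆ = g * ⁅y, g⁻¹ * x * g⁆ * g⁻¹ by
      simp only [commutatorElement_def]; group]
    exact conj_mem_centralizer (hJQ hg) (hyc _ h1)
  have hmemC0 : ∀ {x : H}, x ∈ C0 ↔ ∀ v ∈ Q, Commute x v := by
    intro x
    rw [hC0, Subgroup.mem_centralizer_iff]
    exact ⟨fun h v hv => (h v hv).symm, fun h v hv => (h v hv).eq.symm⟩
  have hcommY : ∀ g ∈ J, orderOf g = s → ¬ Fixes Q g → ∀ y ∈ Y, ⁅g, y⁆ ∈ C0 := by
    intro g hg hgo hgQ y hy
    refine hmemC0.mpr (commutator_cent D.qr.symm hQ Y (hT.to_le hYT) (hgo ▸ hsp)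
      (hgo ▸ D.rs.symm) (hJQ hg) ((hYT.trans hTJ).trans hJQ) (hJY g hg)
      (fun a ha a' ha' => hmemC0.mp (ha.2 a' ha'.1)) hgQ y hy)
  have hmul : ∀ g ∈ J, ∀ h ∈ J, (∀ y ∈ Y, ⁅g, y⁆ ∈ C0) → (∀ y ∈ Y, ⁅h, y⁆ ∈ C0) →
      ∀ y ∈ Y, ⁅g * h, y⁆ ∈ C0 := by
    intro g hg h hh h1 h2 y hy
    rw [show ⁅g * h, y⁆ = g * ⁅h, y⁆ * g⁻¹ * ⁅g, y⁆ by simp only [commutatorElement_def]; group]
    exact mul_mem (conj_mem_centralizer (hJQ hg) (h2 y hy)) (h1 y hy)
  have hbY : ∀ n : ℕ, ∀ y ∈ Y, ⁅b ^ n, y⁆ ∈ C0 := by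
    intro n
    induction n with
    | zero => intro y _; rw [pow_zero, commutatorElement_one_left]; exact one_mem _
    | succ n ih =>
      rw [pow_succ]
      exact hmul _ (pow_mem hb n) b hb ih (hcommY b hb hbc.1 hbQ)
  have hcY : ∀ y ∈ Y, ⁅c, y⁆ ∈ C0 := by
    have h0 := hcommY _ (hz i₀).1 (hz i₀).2 hi₀
    obtain ⟨j, hj⟩ : ∃ j, b ^ i₀ * b ^ j = 1 := by
      refine ⟨(s - 1) * i₀, ?_⟩
      rw [← pow_add, show i₀ + (s - 1) * i₀ = s * i₀ by
        obtain ⟨s', hs'⟩ : ∃ s', s = s' + 1 := ⟨s - 1, by have := hsp.pos; omega⟩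
        rw [hs', Nat.add_sub_cancel]; ring, pow_mul, ← hbc.1, pow_orderOf_eq_one, one_pow]
    have := hmul _ (hz i₀).1 (b ^ j) (pow_mem hb j) h0 (hbY j)
    rwa [mul_assoc, hj, mul_one] at this
  obtain ⟨w, hw, hwQ⟩ :=
    exists_fixes_pair hQ D.Q1 hsp D.qs.symm hbc (hJQ hb) (hJQ hc)
  rcases hw with rfl | ⟨i₁, rfl⟩
  · exact hbQ hwQ
  have hwY := hmul c hc (b ^ i₁) (pow_mem hb i₁) hcY (hbY i₁)
  have hwT := hboth i₁ hwQ
  -- Y centralises Q
  have hYC : Y ≤ C0 := by
    let δ : (Y ⊓ C0 : Subgroup H) → (Y ⊓ C0 : Subgroup H) := fun y =>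
      ⟨⁅c * b ^ i₁, (y : H)⁆,
        ⟨Y.mul_mem (hJY _ (hz i₁).1 _ y.2.1) (Y.inv_mem y.2.1), hwY _ y.2.1⟩⟩
    have hinj : ∀ y ∈ Y, ∀ z ∈ Y, ⁅c * b ^ i₁, y⁆ = ⁅c * b ^ i₁, z⁆ → y = z := by
      intro y hy z hzY h
      set g := c * b ^ i₁
      simp only [commutatorElement_def] at h
      have h3 : Commute (z⁻¹ * y) g := by
        have h4 : g * (z⁻¹ * y) * g⁻¹ = z⁻¹ * y := by
          calc g * (z⁻¹ * y) * g⁻¹ = (g * z * g⁻¹)⁻¹ * (g * y * g⁻¹ * y⁻¹) * y := by group
            _ = (g * z * g⁻¹)⁻¹ * (g * z * g⁻¹ * z⁻¹) * y := by rw [h]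
            _ = z⁻¹ * y := by group
        exact (mul_inv_eq_iff_eq_mul.mp h4).symm
      by_contra hne
      exact hwT ⟨z⁻¹ * y, mul_mem (inv_mem (hYT hzY)) (hYT hy),
        fun h1 => hne (inv_mul_eq_one.mp h1).symm, h3⟩
    have hδ : Function.Injective δ := fun y z h =>
      Subtype.ext (hinj _ y.2.1 _ z.2.1 (congrArg Subtype.val h))
    intro y hy
    obtain ⟨z, hzy⟩ := Finite.injective_iff_surjective.mp hδ ⟨⁅c * b ^ i₁, y⁆,
      ⟨Y.mul_mem (hJY _ (hz i₁).1 _ hy) (Y.inv_mem hy), hwY _ hy⟩⟩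
    rw [hinj y hy z z.2.1 (congrArg Subtype.val hzy).symm]
    exact z.2.2
  -- hence T centralises Q
  have hTC : T ≤ C0 := by
    by_contra hTC
    obtain ⟨x, hx, hxC⟩ := SetLike.not_le_iff_exists.mp hTC
    have hTN : T ≤ Subgroup.normalizer (Q : Set H) := hTJ.trans hJQ
    set Tb := (T.subgroupOf (Subgroup.normalizer (Q : Set H))).map Q.normalizerMonoidHom with hTb
    have hTbp : IsPGroup r Tb := (hT.of_equiv (Subgroup.subgroupOfEquivOfLe hTN).symm).map Q.normalizerMonoidHom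
    have hTb1 : Tb ≠ ⊥ := fun h => by
      have hm' : Q.normalizerMonoidHom ⟨x, hTN hx⟩ ∈ Tb := ⟨⟨x, hTN hx⟩, hx, rfl⟩
      rw [h, Subgroup.mem_bot] at hm'
      exact hxC (hmemC0.mpr ((act_eq_one_iff ⟨x, hTN hx⟩).mp hm'))
    obtain ⟨_, ⟨y, hy, rfl⟩, hyo, hyc⟩ := exists_central_order hTbp hTb1
    have hyY : (y : H) ∈ Y := by
      refine ⟨hy, fun x' hx' => hmemC0.mpr ((act_eq_one_iff ⁅y, ⟨x', hTN hx'⟩⁆).mp ?_)⟩
      rw [map_commutatorElement, commutatorElement_eq_one_iff_commute]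
      exact hyc _ ⟨⟨x', hTN hx'⟩, hx', rfl⟩
    exact ne_one_of_orderOf hrp hyo ((act_eq_one_iff y).mpr (hmemC0.mp (hYC hyY)))
  -- b centralises T
  set T0 := core K r with hT0def
  have hbT0 : ∀ u ∈ T0, Commute b u := cent_of_no_pair hr2 (isPGroup_core K r) D.Rno
    (hbc.1 ▸ hsp) (hbc.1 ▸ D.rs.symm)
    (fun u hu => (Subgroup.mem_normalizer_iff.mp (le_normalizer_core K r (D.JK hb)) u).mp hu)
    (fun u hu hur => by
      obtain ⟨k, rfl⟩ := Subgroup.mem_zpowers_iff.mp (hmu u hu hur)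
      exact hbm.zpow_right k)
  have hS : core K s = ⊥ := eq_bot_iff.mpr (D.Sle.trans hS0.le)
  have hbT : ∀ y ∈ T, Commute b y := by
    intro y hy
    set g := ⁅b, y⁆ with hg
    have hgT : g ∈ T := mul_mem (hJT b hb y hy) (inv_mem hy)
    have hgT0 : g ∈ T0 := mem_core_of_cent (D.JK (hTJ hgT)) (isPGroup_zpowers_of_mem hT hgT)
      fun t ht v hv => by
        by_cases h1 : t = q
        · subst h1; exact hmemC0.mp (hTC hgT) v hv
        by_cases h2 : t = r
        · subst h2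
          have h3 : y⁻¹ * v * y ∈ T0 := by
            simpa using (Subgroup.mem_normalizer_iff.mp
              (le_normalizer_core K _ (inv_mem (D.JK (hTJ hy)))) v).mp hv
          show g * v = v * g
          calc g * v = b * y * b⁻¹ * (y⁻¹ * v * y) * y⁻¹ := by
                rw [hg, commutatorElement_def]; group
            _ = b * y * ((y⁻¹ * v * y) * b⁻¹) * y⁻¹ := by
                rw [← (hbT0 _ h3).inv_left.eq]; group
            _ = b * v * y * b⁻¹ * y⁻¹ := by group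
            _ = v * g := by rw [(hbT0 v hv).eq, hg, commutatorElement_def]; group
        by_cases h3 : t = s
        · subst h3
          rw [hS, Subgroup.mem_bot] at hv
          rw [hv]; exact Commute.one_right g
        haveI := Fact.mk ht
        have hb0 : core K t = ⊥ := by
          by_contra hne
          rcases D.Kπ t ht (dvd_card_of_core_ne_bot hne) with hh | hh | hh
          · exact h1 hh
          · exact h2 hh
          · exact h3 hh
        rw [hb0, Subgroup.mem_bot] at hv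
        rw [hv]
        exact Commute.one_right g
    have hbg : Commute b g := hbT0 g hgT0
    have hiter : ∀ n : ℕ, b ^ n * y * (b ^ n)⁻¹ = g ^ n * y := by
      intro n
      induction n with
      | zero => simp
      | succ n ih =>
        calc b ^ (n + 1) * y * (b ^ (n + 1))⁻¹ = b * (b ^ n * y * (b ^ n)⁻¹) * b⁻¹ := by
              rw [pow_succ', mul_inv_rev]; simp [mul_assoc]
          _ = g ^ n * (b * y * b⁻¹) := by
              rw [ih, ← mul_assoc, (hbg.pow_right n).eq]; simp [mul_assoc]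
          _ = _ := by rw [show b * y * b⁻¹ = g * y by simp [hg, commutatorElement_def],
              pow_succ, mul_assoc]
    have h := hiter s
    rw [← hbc.1, pow_orderOf_eq_one, one_mul, inv_one, mul_one, hbc.1] at h
    have hd := orderOf_dvd_of_pow_eq_one (right_eq_mul.mp h)
    obtain ⟨k, hk⟩ := IsPGroup.iff_orderOf.mp hT ⟨g, hgT⟩
    rw [Subgroup.orderOf_mk] at hk
    rw [← commutatorElement_eq_one_iff_commute, ← hg, ← orderOf_eq_one_iff, hk]
    rcases Nat.eq_zero_or_pos k with rfl | hk0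
    · rw [pow_zero]
    · exact absurd ((Nat.prime_dvd_prime_iff_eq hrp hsp).mp
        ((dvd_pow_self r hk0.ne').trans (hk ▸ hd))) D.rs
  exact ne_one_of_orderOf hsp hbc.1 (hcores hb (isPGroup_zpowers hbc.1) hbT)

theorem Cfg.caseII [Group.IsSolvable H] (C : Cfg H σ) {p q r s : ℕ} {P K J : Subgroup H}
    (D : CtxII H σ p q r s P K J) : False := by
  haveI := Fact.mk (C.prime r D.hr)
  haveI := Fact.mk (C.prime s D.hs)
  have hrp := C.prime r D.hr
  have hsp := C.prime s D.hs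
  by_cases hr0 : core J r = ⊥ <;> by_cases hs0 : core J s = ⊥
  · obtain ⟨b, hb, c, -, hbc⟩ := D.Jr
    have hJ1 : J ≠ ⊥ := fun h => ne_one_of_orderOf hrp hbc.1 (Subgroup.mem_bot.mp (h ▸ hb))
    obtain ⟨t, ht, htd, hne⟩ := exists_core_ne_bot hJ1
    rcases D.Jπ t ht htd with rfl | rfl
    · exact hne hr0
    · exact hne hs0
  · exact C.caseII_aux D.symm hs0 hr0
  · exact C.caseII_aux D hr0 hs0
  · obtain ⟨m, -, hmo, -, hmn, -, hNm⟩ := C.stepII D hr0
    obtain ⟨n, -, hno, -, hnn, -, hNn⟩ := C.stepII D.symm hs0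
    obtain ⟨_, _, c, hc, hbc, -, hcm⟩ := exists_pair_commute hsp hmo hmn D.Js hNm
    obtain ⟨_, _, c', hc', hbc', -, hcn⟩ := exists_pair_commute hrp hno hnn D.Jr hNn
    have h1 := dvd_pred_of_noncomm hsp hmo hbc.2.1 (hmn c hc) (by simpa using hcm 0)
    have h2 := dvd_pred_of_noncomm hrp hno hbc'.2.1 (hnn c' hc') (by simpa using hcn 0)
    have hr2 : 2 ≤ r := hrp.two_le
    have hs2 : 2 ≤ s := hsp.two_le
    have h1' : s ≤ r - 1 := Nat.le_of_dvd (by omega) h1
    have h2' : r ≤ s - 1 := Nat.le_of_dvd (by omega) h2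
    exact absurd (le_trans h1' (Nat.sub_le r 1)) (by omega)

end CfsgLib.FourPrimes
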