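import Cfsg.Agent.Lib.SolvStruct.FourPrimesBase

/-!
The centraliser of an element of prime order meets at most two further primes of the configuration,
and each prime has a pair.
-/

set_option autoImplicit false
set_option linter.unusedSectionVars false

namespace CfsgLib.FourPrimes

open scoped commutatorElement

universe u

variable {H : Type u} [Group H] [Finite H]

/-- Four primes, pairwise joined, no three jointly joined. -/
structure Cfg (H : Type u) [Group H] (σ : Finset ℕ) : Prop where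
  card : σ.card = 4
  prime : ∀ a ∈ σ, a.Prime
  pair : ∀ a ∈ σ, ∀ b ∈ σ, a ≠ b → ∃ x y : H, orderOf x = a ∧ orderOf y = b ∧ Commute x y
  trip : ∀ a ∈ σ, ∀ b ∈ σ, ∀ c ∈ σ, a ≠ b → b ≠ c → a ≠ c → ∀ x y z : H,
    orderOf x = a → orderOf y = b → orderOf z = c →
    Commute x y → Commute x z → Commute y z → False
  supp : ∀ t : ℕ, t.Prime → t ∣ Nat.card H → t ∈ σ

theorem not_dvd_card_of_isPGroup {p t : ℕ} (hp : p.Prime) [Fact t.Prime] (h : p ≠ t)
    {Y : Subgroup H} (hY : IsPGroup t Y) : ¬ p ∣ Nat.card Y := by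
  intro hd
  obtain ⟨k, hk⟩ := IsPGroup.iff_card.mp hY
  rw [hk] at hd
  exact h ((Nat.prime_dvd_prime_iff_eq hp Fact.out).mp (hp.dvd_of_dvd_pow hd))

variable {σ : Finset ℕ}

theorem Cfg.inner (C : Cfg H σ) {p t e f : ℕ} (hp : p ∈ σ) (ht : t ∈ σ) (he : e ∈ σ) (hf : f ∈ σ)
    (hpt : p ≠ t) (hpe : p ≠ e) (hpf : p ≠ f) (hte : t ≠ e) (htf : t ≠ f) (hef : e ≠ f)
    {x : H} (hx : orderOf x = p) {T E : Subgroup H} (hT : IsPGroup t T) (hT1 : T ≠ ⊥)
    (hE : IsPGroup e E) (hE1 : E ≠ ⊥) (hTx : ∀ v ∈ T, Commute x v) (hEx : ∀ v ∈ E, Commute x v)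
    (hEN : E ≤ Subgroup.normalizer (T : Set H)) {z : H} (hz : orderOf z = f) (hxz : Commute x z)
    (hzT : z ∈ Subgroup.normalizer (T : Set H)) (hzE : ∀ y ∈ E, z * y * z⁻¹ ∈ E) : False := by
  haveI := Fact.mk (C.prime t ht)
  haveI := Fact.mk (C.prime e he)
  have hcent := kernel_cent hT E (x := z) (hz ▸ C.prime f hf) hzT hEN hzE
    (fun y hy hc => by
      by_contra h1
      obtain ⟨v, hv, hvo, hvc⟩ := fixes_prime hE ⟨y, hy, h1, hc.symm⟩
      exact C.trip p hp e he f hf hpe hef hpf x v z hx hvo hz (hEx v hv) hxz hvc)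
    (not_dvd_card_of_isPGroup (C.prime t ht) hte hE)
    (fun h => by
      obtain ⟨v, hv, hvo, hvc⟩ := fixes_prime hT h
      exact C.trip p hp t ht f hf hpt htf hpf x v z hx hvo hz (hTx v hv) hxz hvc)
  obtain ⟨v, hv, hvo, -⟩ := exists_central_order hT hT1
  obtain ⟨y, hy, hyo, -⟩ := exists_central_order hE hE1
  exact C.trip p hp e he t ht hpe hte.symm hpt x y v hx hyo hvo (hEx y hy) (hTx v hv)
    (hcent y hy v hv)

theorem Cfg.outer [Group.IsSolvable H] (C : Cfg H σ) {p t e f : ℕ} (hp : p ∈ σ) (ht : t ∈ σ)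
    (he : e ∈ σ) (hf : f ∈ σ)
    (hpt : p ≠ t) (hpe : p ≠ e) (hpf : p ≠ f) (hte : t ≠ e) (htf : t ≠ f) (hef : e ≠ f)
    {x : H} (hx : orderOf x = p) {K : Subgroup H} (hKx : ∀ v ∈ K, Commute x v)
    (hT1 : core K t ≠ ⊥) {y z : H} (hyK : y ∈ K) (hy : orderOf y = e) (hzK : z ∈ K)
    (hz : orderOf z = f) : False := by
  obtain ⟨J, hJK, hJπ, hJ⟩ := exists_hallSub K ({e, f} : Set ℕ)
  obtain ⟨g, hgK, hgy⟩ := exists_orderOf_in_hall (C.prime e he) (Or.inl rfl) hJ hyK hy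
  obtain ⟨h, hhK, hhz⟩ := exists_orderOf_in_hall (C.prime f hf) (Or.inr rfl) hJ hzK hz
  have hJx : ∀ v ∈ J, Commute x v := fun v hv => hKx v (hJK hv)
  have hJT : J ≤ Subgroup.normalizer (core K t : Set H) := hJK.trans (le_normalizer_core K t)
  have hTx : ∀ v ∈ core K t, Commute x v := fun v hv => hKx v (core_le K t hv)
  have hJ1 : J ≠ ⊥ := fun hb => by
    rw [hb, Subgroup.mem_bot] at hgy
    exact ne_one_of_orderOf (C.prime e he) ((orderOf_conj' g y).trans hy) hgy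
  obtain ⟨e', he', hed, hE1⟩ := exists_core_ne_bot hJ1
  have hconj : ∀ w ∈ J, ∀ v ∈ core J e', w * v * w⁻¹ ∈ core J e' := fun w hw v hv =>
    (Subgroup.mem_normalizer_iff.mp (le_normalizer_core J e' hw) v).mp hv
  rcases hJπ e' he' hed with rfl | rfl
  · exact C.inner hp ht he hf hpt hpe hpf hte htf hef hx (isPGroup_core K t) hT1
      (isPGroup_core J _) hE1 hTx (fun v hv => hJx v (core_le J _ hv))
      ((core_le J _).trans hJT) ((orderOf_conj' h z).trans hz) (hJx _ hhz) (hJT hhz) (hconj _ hhz)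
  · exact C.inner hp ht hf he hpt hpf hpe htf hte hef.symm hx (isPGroup_core K t) hT1
      (isPGroup_core J _) hE1 hTx (fun v hv => hJx v (core_le J _ hv))
      ((core_le J _).trans hJT) ((orderOf_conj' g y).trans hy) (hJx _ hgy) (hJT hgy) (hconj _ hgy)

/-- At most two other primes occur in the centraliser of an element of prime order. -/
theorem Cfg.no_three [Group.IsSolvable H] (C : Cfg H σ) {p a b c : ℕ} (hp : p ∈ σ) (ha : a ∈ σ)
    (hb : b ∈ σ) (hc : c ∈ σ) (hpa : p ≠ a) (hpb : p ≠ b) (hpc : p ≠ c) (hab : a ≠ b) (hbc : b ≠ c)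
    (hac : a ≠ c) {x u v w : H} (hx : orderOf x = p) (hu : orderOf u = a) (hv : orderOf v = b)
    (hw : orderOf w = c) (hxu : Commute x u) (hxv : Commute x v) (hxw : Commute x w) : False := by
  set Z := Subgroup.centralizer ({x} : Set H) with hZ
  have hmem : ∀ y, Commute x y → y ∈ Z := fun y hy =>
    Subgroup.mem_centralizer_singleton_iff.mpr hy.eq.symm
  obtain ⟨K, hKZ, hKπ, hK⟩ := exists_hallSub Z ({a, b, c} : Set ℕ)
  have hKx : ∀ y ∈ K, Commute x y := fun y hy =>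
    (Subgroup.mem_centralizer_singleton_iff.mp (hKZ hy)).symm
  obtain ⟨g₁, -, h₁⟩ := exists_orderOf_in_hall (C.prime a ha) (by simp) hK (hmem u hxu) hu
  obtain ⟨g₂, -, h₂⟩ := exists_orderOf_in_hall (C.prime b hb) (by simp) hK (hmem v hxv) hv
  obtain ⟨g₃, -, h₃⟩ := exists_orderOf_in_hall (C.prime c hc) (by simp) hK (hmem w hxw) hw
  have o₁ := (orderOf_conj' g₁ u).trans hu
  have o₂ := (orderOf_conj' g₂ v).trans hv
  have o₃ := (orderOf_conj' g₃ w).trans hw
  have hK1 : K ≠ ⊥ := fun h => by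
    rw [h, Subgroup.mem_bot] at h₁
    exact ne_one_of_orderOf (C.prime a ha) o₁ h₁
  obtain ⟨t, ht, htd, hT⟩ := exists_core_ne_bot hK1
  have h := hKπ t ht htd
  simp only [Set.mem_insert_iff, Set.mem_singleton_iff] at h
  rcases h with rfl | rfl | rfl
  · exact C.outer hp ha hb hc hpa hpb hpc hab hac hbc hx hKx hT h₂ o₂ h₃ o₃
  · exact C.outer hp hb ha hc hpb hpa hpc hab.symm hbc hac hx hKx hT h₁ o₁ h₃ o₃
  · exact C.outer hp hc ha hb hpc hpa hpb hac.symm hbc.symm hab hx hKx hT h₁ o₁ h₂ o₂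

/-- Every prime of the configuration has a pair. -/
theorem Cfg.pairIn_top [Group.IsSolvable H] (C : Cfg H σ) {a : ℕ} (ha : a ∈ σ) :
    PairIn a (⊤ : Subgroup H) := by
  haveI := Fact.mk (C.prime a ha)
  by_contra hno
  have h3 : (σ.erase a).card = 3 := by rw [Finset.card_erase_of_mem ha, C.card]
  obtain ⟨b, c, d, hbc, hbd, hcd, hs⟩ := Finset.card_eq_three.mp h3
  have hmem : ∀ y ∈ ({b, c, d} : Finset ℕ), y ∈ σ ∧ y ≠ a := fun y hy => by
    rw [← hs, Finset.mem_erase] at hy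
    exact ⟨hy.2, hy.1⟩
  obtain ⟨hb, hba⟩ := hmem b (by simp)
  obtain ⟨hc, hca⟩ := hmem c (by simp)
  obtain ⟨hd, hda⟩ := hmem d (by simp)
  obtain ⟨R⟩ : Nonempty (Sylow a H) := inferInstance
  have hnoR : ¬ PairIn a (R : Subgroup H) := fun ⟨x, _, y, _, hxy⟩ =>
    hno ⟨x, Subgroup.mem_top _, y, Subgroup.mem_top _, hxy⟩
  have hconj : ∀ x : H, orderOf x = a → ∃ g, g * x * g⁻¹ ∈ (R : Subgroup H) := by
    intro x hx
    obtain ⟨R', hR'⟩ := (isPGroup_zpowers hx).exists_le_sylow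
    obtain ⟨g, hg⟩ := MulAction.exists_smul_eq H R' R
    refine ⟨g, ?_⟩
    rw [← hg, Sylow.coe_subgroup_smul]
    exact Subgroup.smul_mem_pointwise_smul x (MulAut.conj g) (R' : Subgroup H)
      (hR' (Subgroup.mem_zpowers x))
  obtain ⟨x₀, -, hx₀, -, -⟩ := C.pair a ha b hb hba.symm
  obtain ⟨g₀, hg₀⟩ := hconj x₀ hx₀
  set z := g₀ * x₀ * g₀⁻¹ with hz
  have hzo : orderOf z = a := (orderOf_conj' g₀ x₀).trans hx₀
  have key : ∀ e ∈ σ, e ≠ a → ∃ y, orderOf y = e ∧ Commute z y := by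
    intro e he hea
    obtain ⟨x, y, hx, hy, hxy⟩ := C.pair a ha e he hea.symm
    obtain ⟨g, hg⟩ := hconj x hx
    have hxo : orderOf (g * x * g⁻¹) = a := (orderOf_conj' g x).trans hx
    have h1 := mem_zpowers_of_no_pair R.isPGroup' hnoR hg hxo hg₀
      (by rw [← hzo, pow_orderOf_eq_one])
    obtain ⟨k, hk⟩ := Subgroup.mem_zpowers_iff.mp h1
    exact ⟨g * y * g⁻¹, (orderOf_conj' g y).trans hy, hk ▸ (commute_conj hxy).zpow_left k⟩
  obtain ⟨u, hu, hzu⟩ := key b hb hba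
  obtain ⟨v, hv, hzv⟩ := key c hc hca
  obtain ⟨w, hw, hzw⟩ := key d hd hda
  exact C.no_three ha hb hc hd hba.symm hca.symm hda.symm hbc hcd hbd hzo hu hv hw hzu hzv hzw

theorem core_eq_bot_of_forall {K : Subgroup H} {r s t : ℕ}
    (hK : ∀ t : ℕ, t.Prime → t ∣ Nat.card K → t = r ∨ t = s) (ht : t.Prime) (h1 : t ≠ r)
    (h2 : t ≠ s) : core K t = ⊥ := by
  by_contra h
  haveI := Fact.mk ht
  rcases hK t ht (dvd_card_of_core_ne_bot h) with rfl | rfl
  · exact h1 rfl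
  · exact h2 rfl

theorem zmod_exponent {r : ℕ} [Fact r.Prime] {m g : H} (hm : orderOf m = r)
    (hg : g * m * g⁻¹ ∈ Subgroup.zpowers m) {N : ℕ} (hN : g ^ N = 1) :
    ∃ k : ℤ, g * m * g⁻¹ = m ^ k ∧ (k : ZMod r) ^ N = 1 := by
  obtain ⟨k, hk⟩ := Subgroup.mem_zpowers_iff.mp hg
  refine ⟨k, hk.symm, ?_⟩
  have h := PGroups.conj_zpow_iterate hk.symm N
  rw [hN, one_mul, inv_one, mul_one] at h
  have h2 : m ^ (k ^ N - 1) = 1 := by rw [zpow_sub_one, ← h, mul_inv_cancel]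
  have h3 := orderOf_dvd_iff_zpow_eq_one.mpr h2
  rw [hm, ← ZMod.intCast_zmod_eq_zero_iff_dvd] at h3
  push_cast at h3
  exact sub_eq_zero.mp h3

theorem zpow_eq_of_zmod {r : ℕ} {m : H} (hm : orderOf m = r) {a b : ℤ}
    (h : (a : ZMod r) = b) : m ^ a = m ^ b := by
  rw [← mul_inv_eq_one, ← zpow_sub, ← orderOf_dvd_iff_zpow_eq_one, hm,
    ← ZMod.intCast_zmod_eq_zero_iff_dvd, Int.cast_sub, h, sub_self]

theorem commute_of_zmod_one {r : ℕ} {m g : H} (hm : orderOf m = r) {k : ℤ}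
    (hk : g * m * g⁻¹ = m ^ k) (h : (k : ZMod r) = 1) : Commute g m := by
  rw [zpow_eq_of_zmod hm (b := 1) (by simpa using h), zpow_one] at hk
  exact mul_inv_eq_iff_eq_mul.mp hk

theorem commute_of_pgroup_normalises {r : ℕ} [Fact r.Prime] {m g : H} (hm : orderOf m = r)
    (hg : g * m * g⁻¹ ∈ Subgroup.zpowers m) {n : ℕ} (hgn : g ^ r ^ n = 1) : Commute g m := by
  obtain ⟨k, hk, h⟩ := zmod_exponent hm hg hgn
  refine commute_of_zmod_one hm hk ?_
  rwa [ZMod.pow_card_pow] at h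

theorem commute_of_normalises_of_mem {r : ℕ} [Fact r.Prime] {m g : H} (hm : orderOf m = r)
    {T : Subgroup H} (hT : IsPGroup r T) (hgT : g ∈ T)
    (hg : g * m * g⁻¹ ∈ Subgroup.zpowers m) : Commute g m := by
  obtain ⟨n, hn⟩ := hT ⟨g, hgT⟩
  exact commute_of_pgroup_normalises hm hg (congrArg Subtype.val hn)

theorem dvd_pred_of_noncomm {r s : ℕ} [Fact r.Prime] (hs : s.Prime) {m g : H} (hm : orderOf m = r)
    (hgo : orderOf g = s) (hg : g * m * g⁻¹ ∈ Subgroup.zpowers m) (hne : ¬ Commute g m) :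
    s ∣ r - 1 := by
  obtain ⟨k, hk, h⟩ := zmod_exponent hm hg (hgo ▸ pow_orderOf_eq_one g)
  have h1 : (k : ZMod r) ≠ 1 := fun h1 => hne (commute_of_zmod_one hm hk h1)
  have h0 : (k : ZMod r) ≠ 0 := fun h0 => by
    rw [h0, zero_pow hs.ne_zero] at h
    exact zero_ne_one h
  haveI := Fact.mk hs
  rw [← orderOf_eq_prime h h1]
  exact orderOf_dvd_of_pow_eq_one (ZMod.pow_card_sub_one_eq_one h0)

theorem conj_mem_centralizer {Q : Subgroup H} {g x : H}
    (hg : g ∈ Subgroup.normalizer (Q : Set H)) (hx : x ∈ Subgroup.centralizer (Q : Set H)) :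
    g * x * g⁻¹ ∈ Subgroup.centralizer (Q : Set H) := by
  rw [Subgroup.mem_centralizer_iff] at hx ⊢
  intro v hv
  have hv' : g⁻¹ * v * g ∈ Q := (Subgroup.mem_normalizer_iff.mp hg _).mpr (by
    simpa [mul_assoc] using hv)
  have h := commute_conj (g := g) (show Commute (g⁻¹ * v * g) x from hx _ hv')
  simpa [mul_assoc] using h.eq

theorem mem_normalizer_inf_centralizer {X : Subgroup H} {g x : H}
    (hg : g ∈ Subgroup.normalizer (X : Set H)) (hgx : Commute g x) :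
    g ∈ Subgroup.normalizer ((X ⊓ Subgroup.centralizer ({x} : Set H) : Subgroup H) : Set H) := by
  rw [Subgroup.mem_normalizer_iff]
  intro v
  simp only [Subgroup.mem_inf, Subgroup.mem_centralizer_singleton_iff]
  refine and_congr (Subgroup.mem_normalizer_iff.mp hg v) ?_
  constructor
  · intro h
    calc g * v * g⁻¹ * x = g * (v * x) * g⁻¹ := by rw [mul_assoc, hgx.inv_left.eq]; group
      _ = g * (x * v) * g⁻¹ := by rw [h]
      _ = x * (g * v * g⁻¹) := by rw [← mul_assoc g x v, hgx.eq]; group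
  · intro h
    calc v * x = g⁻¹ * (g * v * g⁻¹ * x) * g := by
          rw [show g⁻¹ * (g * v * g⁻¹ * x) * g = v * (g⁻¹ * (x * g)) by group, ← hgx.eq]; group
      _ = g⁻¹ * (x * (g * v * g⁻¹)) * g := by rw [h]
      _ = x * v := by
          rw [show g⁻¹ * (x * (g * v * g⁻¹)) * g = g⁻¹ * (x * g) * v by group, ← hgx.eq]; group

theorem coe_zpowers {T : Subgroup H} {a b : T} (h : a ∈ Subgroup.zpowers b) :
    (a : H) ∈ Subgroup.zpowers (b : H) := by
  obtain ⟨k, rfl⟩ := Subgroup.mem_zpowers_iff.mp h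
  exact Subgroup.mem_zpowers_iff.mpr ⟨k, by simp⟩

theorem mem_zpowers_coe {T : Subgroup H} {a b : T} (h : (a : H) ∈ Subgroup.zpowers (b : H)) :
    a ∈ Subgroup.zpowers b := by
  obtain ⟨k, hk⟩ := Subgroup.mem_zpowers_iff.mp h
  exact Subgroup.mem_zpowers_iff.mpr ⟨k, Subtype.ext (by simpa using hk)⟩

theorem commute_of_disjoint_normalised {A B : Subgroup H} (h : Disjoint A B)
    (hA : B ≤ Subgroup.normalizer (A : Set H)) (hB : A ≤ Subgroup.normalizer (B : Set H)) :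
    ∀ a ∈ A, ∀ b ∈ B, Commute a b := by
  intro a ha b hb
  rw [← commutatorElement_eq_one_iff_commute]
  refine Subgroup.disjoint_def.mp h ?_ ?_
  · rw [commutatorElement_def, mul_assoc a b, mul_assoc]
    exact mul_mem ha ((Subgroup.mem_normalizer_iff.mp (hA hb) _).mp (inv_mem ha))
  · rw [commutatorElement_def]
    exact mul_mem ((Subgroup.mem_normalizer_iff.mp (hB ha) _).mp hb) (inv_mem hb)

theorem disjoint_of_pgroups {r s : ℕ} [Fact r.Prime] [Fact s.Prime] (h : r ≠ s)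
    {A B : Subgroup H} (hA : IsPGroup r A) (hB : IsPGroup s B) : Disjoint A B :=
  IsPGroup.disjoint_of_ne r s h A B hA hB

end CfsgLib.FourPrimes
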