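import Mathlib

/-!
Fixed-point-free actions on finite p-groups: the two summation lemmas (Frobenius kernel, elementary
abelian group of rank two) lifted to non-abelian p-groups along the upper central series.
-/

set_option autoImplicit false
set_option linter.unusedSectionVars false

namespace CfsgLib.FpfPairs

universe u v

section Stab

variable {V : Type u} [Group V] [Finite V] {p : ℕ} [Fact p.Prime]

/-- A p'-automorphism of a p-group which is trivial on a subgroup and on its cosets is trivial. -/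
theorem eq_one_of_stabilise (hV : IsPGroup p V) (φ : MulAut V) (hφ : ¬ p ∣ orderOf φ)
    (h : ∀ v, φ (v⁻¹ * φ v) = v⁻¹ * φ v) : φ = 1 := by
  refine MulEquiv.ext fun v => ?_
  set z := v⁻¹ * φ v with hz
  have hiter : ∀ n : ℕ, (φ ^ n) v = v * z ^ n := by
    intro n
    induction n with
    | zero => simp
    | succ n ih =>
      rw [pow_succ', MulAut.mul_apply, ih, map_mul, map_pow, h v, pow_succ', ← mul_assoc]
      simp [hz]
  have h1 : z ^ orderOf φ = 1 := by
    have h2 := hiter (orderOf φ)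
    rw [pow_orderOf_eq_one, MulAut.one_apply] at h2
    exact left_eq_mul.mp h2
  have h3 : z = 1 := by
    rw [← orderOf_eq_one_iff]
    obtain ⟨k, hk⟩ := IsPGroup.iff_orderOf.mp hV z
    have hd := orderOf_dvd_of_pow_eq_one h1
    rw [hk] at hd ⊢
    rcases Nat.eq_zero_or_pos k with rfl | hk0
    · rw [pow_zero]
    · exact absurd ((dvd_pow_self p hk0.ne').trans hd) hφ
  show φ v = v
  have : φ v = v * z := by simp [hz]
  rw [this, h3, mul_one]

end Stab

/-- Restriction of an action to the centre. -/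
def centerAct {A : Type v} [Group A] {V : Type u} [Group V] (ρ : A →* MulAut V) :
    A →* MulAut (Subgroup.center V) where
  toFun a :=
    { toFun := fun z => ⟨ρ a z, Subgroup.mem_center_iff.mpr fun g => by
        conv_lhs => rw [← (ρ a).apply_symm_apply g, ← map_mul, Subgroup.mem_center_iff.mp z.2 _]
        rw [map_mul, MulEquiv.apply_symm_apply]⟩
      invFun := fun z => ⟨(ρ a).symm z, Subgroup.mem_center_iff.mpr fun g => by
        conv_lhs => rw [← (ρ a).symm_apply_apply g, ← map_mul, Subgroup.mem_center_iff.mp z.2 _]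
        rw [map_mul, MulEquiv.symm_apply_apply]⟩
      left_inv := fun z => Subtype.ext ((ρ a).symm_apply_apply _)
      right_inv := fun z => Subtype.ext ((ρ a).apply_symm_apply _)
      map_mul' := fun x y => Subtype.ext (map_mul (ρ a) _ _) }
  map_one' := MulEquiv.ext fun z => Subtype.ext (by simp)
  map_mul' a b := MulEquiv.ext fun z => Subtype.ext (by simp)

theorem centerAct_apply {A : Type v} [Group A] {V : Type u} [Group V] (ρ : A →* MulAut V)
    (a : A) (z : Subgroup.center V) : (centerAct ρ a z : V) = ρ a (z : V) := rfl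

/-- The action on the quotient by the centre. -/
def quotCenterAct {A : Type v} [Group A] {V : Type u} [Group V] (ρ : A →* MulAut V) :
    A →* MulAut (V ⧸ Subgroup.center V) where
  toFun a :=
    MonoidHom.toMulEquiv
      (QuotientGroup.map _ _ (ρ a).toMonoidHom fun z hz => (centerAct ρ a ⟨z, hz⟩).2)
      (QuotientGroup.map _ _ (ρ a).symm.toMonoidHom fun z hz => ((centerAct ρ a).symm ⟨z, hz⟩).2)
      (QuotientGroup.monoidHom_ext _ (MonoidHom.ext fun g => by simp))
      (QuotientGroup.monoidHom_ext _ (MonoidHom.ext fun g => by simp))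
  map_one' := MulEquiv.ext fun q => by
    obtain ⟨g, rfl⟩ := QuotientGroup.mk_surjective q
    simp
  map_mul' a b := MulEquiv.ext fun q => by
    obtain ⟨g, rfl⟩ := QuotientGroup.mk_surjective q
    simp

theorem quotCenterAct_mk {A : Type v} [Group A] {V : Type u} [Group V] (ρ : A →* MulAut V)
    (a : A) (g : V) :
    quotCenterAct ρ a (g : V ⧸ Subgroup.center V) = ((ρ a g : V) : V ⧸ Subgroup.center V) := rfl

/-- If "fixed-point-free on `T` forces trivial on `S`" holds for abelian p-groups, it holds for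
all finite p-groups. -/
theorem of_abelian {A : Type v} [Group A] [Finite A] {p : ℕ} [Fact p.Prime] (S T : Set A)
    (hS : ∀ s ∈ S, ¬ p ∣ orderOf s)
    (hab : ∀ (V : Type u) [CommGroup V] [Finite V], IsPGroup p V → ∀ ρ : A →* MulAut V,
      (∀ t ∈ T, ∀ v, ρ t v = v → v = 1) → ∀ s ∈ S, ρ s = 1) :
    ∀ (V : Type u) [Group V] [Finite V], IsPGroup p V → ∀ ρ : A →* MulAut V,
      (∀ t ∈ T, ∀ v, ρ t v = v → v = 1) → ∀ s ∈ S, ρ s = 1 := by
  intro V _ _ hV
  induction hn : Nat.card V using Nat.strong_induction_on generalizing V with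
  | _ n ih =>
    intro ρ hT s hs
    rcases subsingleton_or_nontrivial V with hsub | hnt
    · exact MulEquiv.ext fun v => Subsingleton.elim _ _
    haveI : Nontrivial (Subgroup.center V) := IsPGroup.center_nontrivial hV
    letI : CommGroup (Subgroup.center V) :=
      { (inferInstance : Group (Subgroup.center V)) with
        mul_comm := fun a b => Subtype.ext (Subgroup.mem_center_iff.mp b.2 a) }
    have hZ : centerAct ρ s = 1 := hab (Subgroup.center V) (hV.to_subgroup _) (centerAct ρ)
      (fun t ht z hz => Subtype.ext (hT t ht z (congrArg Subtype.val hz))) s hs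
    have hcard : Nat.card (V ⧸ Subgroup.center V) < n := by
      have h1 : 1 < Nat.card (Subgroup.center V) := Finite.one_lt_card
      have h2 := Subgroup.card_eq_card_quotient_mul_card_subgroup (Subgroup.center V)
      have h3 : 0 < Nat.card (V ⧸ Subgroup.center V) := Nat.card_pos
      nlinarith [h1, h2, h3, hn]
    have hQT : ∀ t ∈ T, ∀ q, quotCenterAct ρ t q = q → q = 1 := by
      intro t ht q hq
      obtain ⟨g, rfl⟩ := QuotientGroup.mk_surjective q
      rw [quotCenterAct_mk] at hq
      rw [QuotientGroup.eq_one_iff]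
      have hmem : g⁻¹ * ρ t g ∈ Subgroup.center V := QuotientGroup.eq.mp hq.symm
      let δ : Subgroup.center V → Subgroup.center V := fun z => z⁻¹ * centerAct ρ t z
      have hδ : Function.Injective δ := by
        intro z w hzw
        have h1 : centerAct ρ t (z / w) = z / w := by
          rw [map_div]
          have h2 : z⁻¹ * centerAct ρ t z = w⁻¹ * centerAct ρ t w := hzw
          rw [inv_mul_eq_iff_eq_mul] at h2
          rw [h2, div_eq_mul_inv, div_eq_mul_inv]
          group
        exact div_eq_one.mp (Subtype.ext (hT t ht _ (congrArg Subtype.val h1)))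
      obtain ⟨z, hz⟩ := (Finite.injective_iff_surjective.mp hδ) ⟨g⁻¹ * ρ t g, hmem⟩
      have hz' : (z : V)⁻¹ * ρ t (z : V) = g⁻¹ * ρ t g := congrArg Subtype.val hz
      have hfix : ρ t (g * (z : V)⁻¹) = g * (z : V)⁻¹ := by
        rw [map_mul, map_inv]
        have e1 : ρ t g = g * ((z : V)⁻¹ * ρ t (z : V)) := by rw [hz']; simp
        rw [e1]
        group
      have := hT t ht _ hfix
      rw [mul_inv_eq_one] at this
      rw [this]
      exact z.2
    have hQ : quotCenterAct ρ s = 1 := ih _ hcard (V ⧸ Subgroup.center V)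
      (hV.to_quotient _) rfl (quotCenterAct ρ) hQT s hs
    refine eq_one_of_stabilise hV (ρ s)
      (fun h => hS s hs (h.trans (orderOf_map_dvd ρ s))) fun v => ?_
    have hv : (v : V ⧸ Subgroup.center V) = (ρ s v : V) := by
      rw [← quotCenterAct_mk, hQ, MulAut.one_apply]
    have hm : v⁻¹ * ρ s v ∈ Subgroup.center V := QuotientGroup.eq.mp hv
    have := congrArg Subtype.val (DFunLike.congr_fun hZ ⟨v⁻¹ * ρ s v, hm⟩)
    rw [centerAct_apply] at this
    simpa using this

section Abelian

variable {A : Type v} [Group A] [Finite A] {V : Type u} [CommGroup V] [Finite V] {p : ℕ}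
  [Fact p.Prime]

theorem eq_of_pow_card_eq (hV : IsPGroup p V) {n : ℕ} (hn : ¬ p ∣ n) {v w : V}
    (h : v ^ n = w ^ n) : v = w := by
  obtain ⟨k, hk⟩ := IsPGroup.iff_card.mp hV
  refine (powCoprime (G := V) (n := n) ?_).injective h
  rw [hk]
  exact Nat.Coprime.pow_left _ ((Fact.out : p.Prime).coprime_iff_not_dvd.mpr hn)

theorem prod_pow_eq_one (ρ : A →* MulAut V) {x : A} (hx : 0 < orderOf x)
    (hfix : ∀ v, ρ x v = v → v = 1) (v : V) :
    ∏ i ∈ Finset.range (orderOf x), ρ (x ^ i) v = 1 := by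
  refine hfix _ ?_
  rw [map_prod]
  have : ∀ i, ρ x (ρ (x ^ i) v) = ρ (x ^ (i + 1)) v := fun i => by
    rw [pow_succ', map_mul]; rfl
  simp only [this]
  obtain ⟨a, ha⟩ : ∃ a, orderOf x = a + 1 := ⟨orderOf x - 1, by omega⟩
  rw [ha, Finset.prod_range_succ, Finset.prod_range_succ']
  rw [pow_zero, ← ha, pow_orderOf_eq_one]

/-- Frobenius kernel: `x` of prime order fixed-point-free on `Y` and on `V` forces `Y` trivial on
`V`. -/
theorem kernel_trivial (hV : IsPGroup p V) (ρ : A →* MulAut V) (Y : Subgroup A) (x : A)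
    (hx : (orderOf x).Prime) (hYx : ∀ y ∈ Y, x * y * x⁻¹ ∈ Y)
    (hY : ∀ y ∈ Y, Commute x y → y = 1) (hpY : ¬ p ∣ Nat.card Y)
    (hfix : ∀ v, ρ x v = v → v = 1) : ∀ y ∈ Y, ρ y = 1 := by
  haveI := Fintype.ofFinite Y
  haveI := Fact.mk hx
  have hxi : ∀ (i : ℕ) (y : A), y ∈ Y → x ^ i * y * (x ^ i)⁻¹ ∈ Y := by
    intro i
    induction i with
    | zero => intro y hy; simpa using hy
    | succ i ih =>
      intro y hy
      have := ih _ (hYx y hy)
      simpa [pow_succ, mul_assoc] using this
  -- sum over the conjugate of `⟨x⟩` by `y`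
  have h0 : ∀ (v : V), ∀ y : Y,
      ∏ i ∈ Finset.range (orderOf x), ρ ((y : A) * x ^ i * (y : A)⁻¹) v = 1 := by
    intro v y
    simp only [map_mul, MulAut.mul_apply]
    rw [← map_prod, prod_pow_eq_one ρ hx.pos hfix, map_one]
  -- reindexing
  have h1 : ∀ (v : V), ∀ i ∈ Finset.range (orderOf x), i ≠ 0 →
      ∏ y : Y, ρ ((y : A) * x ^ i * (y : A)⁻¹) v = ∏ y : Y, ρ (y : A) (ρ (x ^ i) v) := by
    intro v i hi hi0
    rw [Finset.mem_range] at hi
    let φ : Y → Y := fun y =>
      ⟨(y : A) * (x ^ i * (y : A)⁻¹ * (x ^ i)⁻¹), mul_mem y.2 (hxi i _ (inv_mem y.2))⟩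
    have hφ : Function.Injective φ := by
      intro y z hyz
      have h2 : (y : A) * (x ^ i * (y : A)⁻¹ * (x ^ i)⁻¹) =
          (z : A) * (x ^ i * (z : A)⁻¹ * (x ^ i)⁻¹) := congrArg Subtype.val hyz
      have hc : Commute (x ^ i) ((z : A)⁻¹ * (y : A)) := by
        show x ^ i * ((z : A)⁻¹ * (y : A)) = (z : A)⁻¹ * (y : A) * x ^ i
        have h3 : (y : A) * x ^ i * (y : A)⁻¹ = (z : A) * x ^ i * (z : A)⁻¹ := by
          have := congrArg (· * x ^ i) h2
          simpa [mul_assoc] using this
        calc x ^ i * ((z : A)⁻¹ * (y : A))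
            = (z : A)⁻¹ * ((z : A) * x ^ i * (z : A)⁻¹) * (y : A) := by group
          _ = (z : A)⁻¹ * ((y : A) * x ^ i * (y : A)⁻¹) * (y : A) := by rw [h3]
          _ = _ := by group
      have hx' : x ∈ Subgroup.zpowers (x ^ i) := by
        have hcop : (orderOf x).Coprime i :=
          hx.coprime_iff_not_dvd.mpr fun hd => absurd (Nat.le_of_dvd (by omega) hd) (by omega)
        obtain ⟨j, hj⟩ := exists_pow_eq_self_of_coprime hcop.symm
        exact ⟨(j : ℤ), by simpa using hj⟩
      obtain ⟨j, hj⟩ := hx'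
      have : Commute x ((z : A)⁻¹ * (y : A)) := hj ▸ hc.zpow_left j
      have := hY _ (mul_mem (inv_mem z.2) y.2) this
      rw [inv_mul_eq_one] at this
      exact Subtype.ext this.symm
    rw [← (Equiv.ofBijective φ (Finite.injective_iff_bijective.mp hφ)).prod_comp
      (fun y : Y => ρ (y : A) (ρ (x ^ i) v))]
    refine Finset.prod_congr rfl fun y _ => ?_
    show ρ _ v = ρ ((y : A) * (x ^ i * (y : A)⁻¹ * (x ^ i)⁻¹)) (ρ (x ^ i) v)
    rw [← MulAut.mul_apply, ← map_mul]
    congr 2
    group
  intro y hy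
  refine MulEquiv.ext fun v => ?_
  set M := ∏ z : Y, ρ (z : A) v with hM
  have h2 : (1 : V) = v ^ Fintype.card Y * M⁻¹ := by
    calc (1 : V) = ∏ z : Y, ∏ i ∈ Finset.range (orderOf x), ρ ((z : A) * x ^ i * (z : A)⁻¹) v :=
          (Finset.prod_eq_one fun z _ => h0 v z).symm
      _ = ∏ i ∈ Finset.range (orderOf x), ∏ z : Y, ρ ((z : A) * x ^ i * (z : A)⁻¹) v :=
          Finset.prod_comm
      _ = (∏ z : Y, ρ ((z : A) * x ^ 0 * (z : A)⁻¹) v) *
            ∏ i ∈ (Finset.range (orderOf x)).erase 0, ∏ z : Y, ρ ((z : A) * x ^ i * (z : A)⁻¹) v :=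
          (Finset.mul_prod_erase (Finset.range (orderOf x))
            (fun i => ∏ z : Y, ρ ((z : A) * x ^ i * (z : A)⁻¹) v)
            (Finset.mem_range.mpr hx.pos)).symm
      _ = v ^ Fintype.card Y * ∏ i ∈ (Finset.range (orderOf x)).erase 0,
            ∏ z : Y, ρ (z : A) (ρ (x ^ i) v) := by
          congr 1
          · simp
          · refine Finset.prod_congr rfl fun i hi => ?_
            rw [Finset.mem_erase] at hi
            exact h1 v i hi.2 hi.1
      _ = v ^ Fintype.card Y * ∏ z : Y, ρ (z : A)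
            (∏ i ∈ (Finset.range (orderOf x)).erase 0, ρ (x ^ i) v) := by
          rw [Finset.prod_comm]; simp only [map_prod]
      _ = v ^ Fintype.card Y * M⁻¹ := by
          have hrest : ∏ i ∈ (Finset.range (orderOf x)).erase 0, ρ (x ^ i) v = v⁻¹ := by
            have h3 := (Finset.mul_prod_erase (Finset.range (orderOf x)) (fun i => ρ (x ^ i) v)
              (Finset.mem_range.mpr hx.pos)).trans (prod_pow_eq_one ρ hx.pos hfix v)
            simp only [pow_zero, map_one, MulAut.one_apply] at h3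
            exact (eq_inv_iff_mul_eq_one.mpr (by rw [mul_comm]; exact h3))
          rw [hrest]
          simp only [map_inv, Finset.prod_inv_distrib, hM]
  have h4 : M = v ^ Fintype.card Y := by
    rw [eq_comm, ← mul_inv_eq_one]; exact h2.symm
  have hMy : ρ y M = M := by
    rw [hM, map_prod]
    refine Fintype.prod_equiv (Equiv.mulLeft (⟨y, hy⟩ : Y)) _ _ fun z => ?_
    show ρ y (ρ (z : A) v) = ρ (y * (z : A)) v
    rw [map_mul]; rfl
  rw [h4, map_pow] at hMy
  exact eq_of_pow_card_eq hV (by rwa [← Nat.card_eq_fintype_card]) hMy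

/-- Two commuting elements `b, c` of order `a`: if every `c * b ^ i` is fixed-point-free on `V`,
`b` is trivial on `V`. -/
theorem pair_trivial (hV : IsPGroup p V) (ρ : A →* MulAut V) {a : ℕ} (ha : a.Prime) (hap : a ≠ p)
    {b c : A} (hb : orderOf b = a) (hc : c ^ a = 1) (hbc : Commute b c)
    (hfix : ∀ i : ℕ, ∀ v, ρ (c * b ^ i) v = v → v = 1) : ρ b = 1 := by
  refine MulEquiv.ext fun v => ?_
  set N := ∏ i ∈ Finset.range a, ρ (b ^ i) v with hN
  have hord : ∀ i : ℕ, (c * b ^ i) ^ a = 1 := by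
    intro i
    rw [(hbc.pow_left i).symm.mul_pow, hc, ← pow_mul, mul_comm i a, pow_mul, ← hb,
      pow_orderOf_eq_one, one_pow, one_mul]
  have h0 : ∀ i : ℕ, ∀ w, ∏ j ∈ Finset.range a, ρ ((c * b ^ i) ^ j) w = 1 := by
    intro i w
    refine hfix i _ ?_
    rw [map_prod]
    have e : ∀ j, ρ (c * b ^ i) (ρ ((c * b ^ i) ^ j) w) = ρ ((c * b ^ i) ^ (j + 1)) w := fun j => by
      rw [pow_succ' (c * b ^ i) j, map_mul ρ (c * b ^ i), MulAut.mul_apply]
    simp only [e]
    obtain ⟨a', ha'⟩ : ∃ a', a = a' + 1 := ⟨a - 1, by have := ha.pos; omega⟩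
    subst ha'
    rw [Finset.prod_range_succ, Finset.prod_range_succ']
    rw [hord i, pow_zero]
  -- reindexing `i ↦ i * j`
  have h1 : ∀ j ∈ Finset.range a, j ≠ 0 →
      ∏ i ∈ Finset.range a, ρ ((c * b ^ i) ^ j) v = ρ (c ^ j) N := by
    intro j hj hj0
    rw [Finset.mem_range] at hj
    rw [hN, map_prod]
    have e : ∀ i, ρ ((c * b ^ i) ^ j) v = ρ (c ^ j) (ρ (b ^ (i * j % a)) v) := fun i => by
      rw [(hbc.pow_left i).symm.mul_pow, ← pow_mul, ← hb, pow_mod_orderOf, map_mul]; rfl
    simp only [e]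
    refine Finset.prod_bij (fun i _ => i * j % a) (fun i _ => Finset.mem_range.mpr (Nat.mod_lt _ ha.pos))
      ?_ ?_ (fun i _ => rfl)
    · intro i hi k hk h
      rw [Finset.mem_range] at hi hk
      have hcop : Nat.Coprime a j :=
        ha.coprime_iff_not_dvd.mpr fun hd => absurd (Nat.le_of_dvd (by omega) hd) (by omega)
      have h' : i ≡ k [MOD a] := Nat.ModEq.cancel_right_of_coprime (c := j) hcop h
      exact Nat.ModEq.eq_of_lt_of_lt h' hi hk
    · intro k hk
      have hinj : Set.InjOn (fun i => i * j % a) (Finset.range a : Set ℕ) := by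
        intro i hi l hl h
        rw [Finset.coe_range, Set.mem_Iio] at hi hl
        have hcop : Nat.Coprime a j :=
          ha.coprime_iff_not_dvd.mpr fun hd => absurd (Nat.le_of_dvd (by omega) hd) (by omega)
        exact Nat.ModEq.eq_of_lt_of_lt (Nat.ModEq.cancel_right_of_coprime (c := j) hcop h) hi hl
      have := Finset.surj_on_of_inj_on_of_card_le (s := Finset.range a) (t := Finset.range a)
        (fun i _ => i * j % a) (fun i _ => Finset.mem_range.mpr (Nat.mod_lt _ ha.pos))
        (fun i l hi hl h => hinj hi hl h) le_rfl k hk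
      obtain ⟨i, hi, h⟩ := this
      exact ⟨i, hi, h.symm⟩
  have h2 : v ^ a * N⁻¹ = 1 := by
    calc v ^ a * N⁻¹ = (∏ i ∈ Finset.range a, ρ ((c * b ^ i) ^ 0) v) *
          ∏ j ∈ (Finset.range a).erase 0, ρ (c ^ j) N := by
          congr 1
          · simp
          · have hcN : ∏ j ∈ Finset.range a, ρ (c ^ j) N = 1 := by
              have h := h0 0 N
              simpa using h
            rw [← Finset.mul_prod_erase (Finset.range a) (fun j => ρ (c ^ j) N)
              (Finset.mem_range.mpr ha.pos)] at hcN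
            simp only [pow_zero, map_one, MulAut.one_apply] at hcN
            exact inv_eq_of_mul_eq_one_right hcN
      _ = ∏ j ∈ Finset.range a, ∏ i ∈ Finset.range a, ρ ((c * b ^ i) ^ j) v := by
          rw [← Finset.mul_prod_erase (Finset.range a)
            (fun j => ∏ i ∈ Finset.range a, ρ ((c * b ^ i) ^ j) v)
            (Finset.mem_range.mpr ha.pos)]
          congr 1
          exact Finset.prod_congr rfl fun j hj => by
            rw [Finset.mem_erase] at hj; exact (h1 j hj.2 hj.1).symm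
      _ = 1 := by
          rw [Finset.prod_comm]
          exact Finset.prod_eq_one fun i _ => h0 i v
  have h3 : N = v ^ a := (mul_inv_eq_one.mp h2).symm
  have hbN : ρ b N = N := by
    rw [hN, map_prod]
    have e : ∀ j, ρ b (ρ (b ^ j) v) = ρ (b ^ (j + 1)) v := fun j => by
      rw [pow_succ', map_mul]; rfl
    simp only [e]
    obtain ⟨a', ha'⟩ : ∃ a', a = a' + 1 := ⟨a - 1, by have := ha.pos; omega⟩
    subst ha'
    rw [Finset.prod_range_succ, Finset.prod_range_succ']
    rw [pow_zero, ← hb, pow_orderOf_eq_one]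
  rw [h3, map_pow] at hbN
  exact eq_of_pow_card_eq hV (fun hd => hap ((Nat.prime_dvd_prime_iff_eq Fact.out ha).mp hd).symm) hbN

end Abelian

/-- Frobenius kernel lemma for arbitrary finite p-groups. -/
theorem kernel_trivial' {A : Type v} [Group A] [Finite A] {V : Type u} [Group V] [Finite V] {p : ℕ}
    [Fact p.Prime] (hV : IsPGroup p V) (ρ : A →* MulAut V) (Y : Subgroup A) (x : A)
    (hx : (orderOf x).Prime) (hYx : ∀ y ∈ Y, x * y * x⁻¹ ∈ Y)
    (hY : ∀ y ∈ Y, Commute x y → y = 1) (hpY : ¬ p ∣ Nat.card Y)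
    (hfix : ∀ v, ρ x v = v → v = 1) : ∀ y ∈ Y, ρ y = 1 := fun y hy =>
  of_abelian (p := p) (Y : Set A) {x}
    (fun s hs hd => hpY (hd.trans (Subgroup.orderOf_dvd_natCard Y hs)))
    (fun _ _ _ hW ρ' hT s hs => kernel_trivial hW ρ' Y x hx hYx hY hpY (hT x rfl) s hs)
    V hV ρ (fun t ht v hv => hfix v (ht ▸ hv)) y hy

/-- Rank two lemma for arbitrary finite p-groups. -/
theorem pair_trivial' {A : Type v} [Group A] [Finite A] {V : Type u} [Group V] [Finite V] {p : ℕ}
    [Fact p.Prime] (hV : IsPGroup p V) (ρ : A →* MulAut V) {a : ℕ} (ha : a.Prime) (hap : a ≠ p)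
    {b c : A} (hb : orderOf b = a) (hc : c ^ a = 1) (hbc : Commute b c)
    (hfix : ∀ i : ℕ, ∀ v, ρ (c * b ^ i) v = v → v = 1) : ρ b = 1 :=
  of_abelian (p := p) {b} (Set.range fun i : ℕ => c * b ^ i)
    (fun s hs hd => by
      rw [Set.mem_singleton_iff.mp hs, hb] at hd
      exact hap ((Nat.prime_dvd_prime_iff_eq Fact.out ha).mp hd).symm)
    (fun _ _ _ hW ρ' hT s hs => by
      rw [Set.mem_singleton_iff.mp hs]
      exact pair_trivial hW ρ' ha hap hb hc hbc fun i v hv => hT _ ⟨i, rfl⟩ v hv)
    V hV ρ (by rintro t ⟨i, rfl⟩ v hv; exact hfix i v hv) b rfl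

end CfsgLib.FpfPairs
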