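import Mathlib
import Cfsg.Prelude.Def_SolvableStructure
import Cfsg.Agent.Lib.Coprime.Basic
import Cfsg.Agent.Lib.OddOrder.CyclicSubgroups

/-!
Basic theory of finite supersolvable groups (`Cfsg.IsSupersolvable`).
-/

set_option autoImplicit false

open scoped Pointwise

namespace CfsgLib.SolvStruct

universe u v

variable {G : Type u} [Group G]

theorem supersolvable_of_surjective {L : Type v} [Group L] (f : G →* L)
    (hf : Function.Surjective f) (h : Cfsg.IsSupersolvable G) : Cfsg.IsSupersolvable L := by
  obtain ⟨n, H, h0, hn, hnormal, hstep⟩ := h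
  refine ⟨n, fun i => (H i).map f, by simp [h0], ?_, fun i => (hnormal i).map f hf, fun i => ?_⟩
  · simp only [hn, Subgroup.map_top_of_surjective f hf]
  · obtain ⟨g, hg⟩ := hstep i
    exact ⟨f g, by simp only [hg, Subgroup.map_sup, MonoidHom.map_zpowers]⟩

theorem supersolvable_congr {L : Type v} [Group L] (e : G ≃* L) (h : Cfsg.IsSupersolvable G) :
    Cfsg.IsSupersolvable L :=
  supersolvable_of_surjective e.toMonoidHom e.surjective h

theorem supersolvable_of_subsingleton [Subsingleton G] : Cfsg.IsSupersolvable G :=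
  ⟨0, fun _ => ⊥, rfl, Subsingleton.elim _ _, fun _ => inferInstance, fun i => i.elim0⟩

theorem supersolvable_quotient (h : Cfsg.IsSupersolvable G) (N : Subgroup G) [N.Normal] :
    Cfsg.IsSupersolvable (G ⧸ N) :=
  supersolvable_of_surjective _ (QuotientGroup.mk'_surjective N) h

/-- An extension of a supersolvable group by a cyclic normal subgroup is supersolvable. -/
theorem supersolvable_of_cyclic_normal (N : Subgroup G) [N.Normal] [hc : IsCyclic N]
    (h : Cfsg.IsSupersolvable (G ⧸ N)) : Cfsg.IsSupersolvable G := by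
  obtain ⟨n, H, h0, hn, hnormal, hstep⟩ := h
  obtain ⟨⟨a, ha⟩, hgen⟩ := hc.exists_generator
  have hN : N = Subgroup.zpowers a := by
    refine le_antisymm (fun x hx => ?_) (Subgroup.zpowers_le.mpr ha)
    obtain ⟨k, hk⟩ := Subgroup.mem_zpowers_iff.mp (hgen ⟨x, hx⟩)
    exact Subgroup.mem_zpowers_iff.mpr ⟨k, by simpa using congrArg Subtype.val hk⟩
  set f := QuotientGroup.mk' N
  have hsurj : Function.Surjective f := QuotientGroup.mk'_surjective N
  refine ⟨n + 1, Fin.cons ⊥ fun i => (H i).comap f, by simp, ?_, ?_, ?_⟩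
  · rw [show Fin.last (n + 1) = (Fin.last n).succ from rfl, Fin.cons_succ, hn, Subgroup.comap_top]
  · intro i
    induction i using Fin.cases with
    | zero => rw [Fin.cons_zero]; infer_instance
    | succ i => rw [Fin.cons_succ]; exact (hnormal i).comap f
  · intro i
    induction i using Fin.cases with
    | zero =>
      refine ⟨a, ?_⟩
      rw [Fin.cons_succ, Fin.castSucc_zero, Fin.cons_zero, bot_sup_eq, h0, MonoidHom.comap_bot,
        QuotientGroup.ker_mk', hN]
    | succ i =>
      obtain ⟨g', hg⟩ := hstep i
      obtain ⟨g, rfl⟩ := hsurj g'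
      refine ⟨g, ?_⟩
      rw [Fin.cons_succ, Fin.castSucc_succ, Fin.cons_succ, hg,
        show Subgroup.zpowers (f g) = (Subgroup.zpowers g).map f from (MonoidHom.map_zpowers f g).symm]
      conv_lhs => rw [← Subgroup.map_comap_eq_self_of_surjective hsurj (H i.castSucc)]
      rw [← Subgroup.map_sup, Subgroup.comap_map_eq_self]
      exact (MonoidHom.ker_le_comap f _).trans le_sup_left

theorem supersolvable_of_ker_cyclic {L : Type v} [Group L] (f : G →* L)
    [IsCyclic f.ker] (h : Cfsg.IsSupersolvable f.range) : Cfsg.IsSupersolvable G :=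
  supersolvable_of_cyclic_normal f.ker
    (supersolvable_congr (QuotientGroup.quotientKerEquivRange f).symm h)

/-- A nontrivial supersolvable group has a nontrivial cyclic normal subgroup. -/
theorem exists_cyclic_normal [Nontrivial G] (h : Cfsg.IsSupersolvable G) :
    ∃ N : Subgroup G, N.Normal ∧ N ≠ ⊥ ∧ IsCyclic N := by
  classical
  obtain ⟨n, H, h0, hn, hnormal, hstep⟩ := h
  have hex : ∃ i : Fin n, H i.castSucc = ⊥ ∧ H i.succ ≠ ⊥ := by
    by_contra hcon
    simp only [not_exists, not_and, not_not] at hcon
    have : ∀ i : Fin (n + 1), H i = ⊥ := by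
      intro i
      induction i using Fin.induction with
      | zero => exact h0
      | succ i ih => exact hcon i ih
    exact (top_ne_bot : (⊤ : Subgroup G) ≠ ⊥) (hn ▸ this _)
  obtain ⟨i, hi, hne⟩ := hex
  obtain ⟨g, hg⟩ := hstep i
  rw [hi, bot_sup_eq] at hg
  exact ⟨H i.succ, hnormal _, hne, by rw [hg]; infer_instance⟩

/-- Subgroups of a finite cyclic normal subgroup are normal. -/
theorem normal_of_le_cyclic_normal [Finite G] {N K : Subgroup G} [N.Normal] [IsCyclic N]
    (hK : K ≤ N) : K.Normal := by
  refine ⟨fun k hk g => ?_⟩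
  set K' := (MulAut.conj g : G ≃* G).toMonoidHom with hK'
  have hle : K.map K' ≤ N := by
    rintro _ ⟨y, hy, rfl⟩
    exact ‹N.Normal›.conj_mem y (hK hy) g
  have hcard : Nat.card (K.map K') = Nat.card K :=
    Nat.card_congr (K.equivMapOfInjective _ (MulAut.conj g).injective).toEquiv.symm
  have heq : K.map K' = K := CfsgLib.OddOrder.eq_of_card_eq_of_isCyclic hle hK hcard
  exact heq.le ⟨k, hk, rfl⟩

/-- A nontrivial finite supersolvable group has a normal subgroup of prime order. -/
theorem exists_prime_normal [Finite G] [Nontrivial G] (h : Cfsg.IsSupersolvable G) :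
    ∃ N : Subgroup G, N.Normal ∧ (Nat.card N).Prime := by
  obtain ⟨C, hC, hne, hcyc⟩ := exists_cyclic_normal h
  obtain ⟨p, hp, hd⟩ := Nat.exists_prime_and_dvd (mt Subgroup.card_eq_one.mp hne)
  have := Fact.mk hp
  obtain ⟨x, hx⟩ := exists_prime_orderOf_dvd_card' p hd
  refine ⟨Subgroup.zpowers (x : G), normal_of_le_cyclic_normal (Subgroup.zpowers_le.mpr x.2), ?_⟩
  rwa [Nat.card_zpowers, Subgroup.orderOf_coe, hx]

theorem card_quotient_lt' [Finite G] {N : Subgroup G} (h : N ≠ ⊥) :
    Nat.card (G ⧸ N) < Nat.card G := by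
  rw [← Subgroup.index_eq_card]
  conv_rhs => rw [← N.card_mul_index]
  exact lt_mul_of_one_lt_left (Nat.pos_of_ne_zero Subgroup.index_ne_zero_of_finite)
    (N.one_lt_card_iff_ne_bot.mpr h)

theorem isCyclic_of_card_prime {N : Subgroup G} (h : (Nat.card N).Prime) : IsCyclic N :=
  have := Fact.mk h
  isCyclic_of_prime_card rfl

theorem ne_bot_of_card_prime {N : Subgroup G} (h : (Nat.card N).Prime) : N ≠ ⊥ := by
  rintro rfl
  rw [Subgroup.card_bot] at h
  exact Nat.not_prime_one h

theorem supersolvable_subgroup_aux (n : ℕ) : ∀ {G : Type u} [Group G] [Finite G],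
    Nat.card G ≤ n → Cfsg.IsSupersolvable G → ∀ K : Subgroup G, Cfsg.IsSupersolvable K := by
  induction n with
  | zero =>
    intro G _ _ hG
    exact absurd hG (Nat.not_le.mpr Nat.card_pos)
  | succ n ih =>
    intro G _ _ hG h K
    rcases subsingleton_or_nontrivial G with hs | hs
    · have : Subsingleton K := Subsingleton.intro fun a b => Subtype.ext (Subsingleton.elim _ _)
      exact supersolvable_of_subsingleton
    obtain ⟨N, hN, hNp⟩ := exists_prime_normal h
    have := isCyclic_of_card_prime hNp
    set f := (QuotientGroup.mk' N).comp K.subtype with hf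
    have hlt : Nat.card (G ⧸ N) ≤ n :=
      Nat.lt_succ_iff.mp ((card_quotient_lt' (ne_bot_of_card_prime hNp)).trans_le hG)
    have : IsCyclic f.ker := by
      have hker : f.ker = N.subgroupOf K := by
        rw [hf, ← MonoidHom.comap_ker, QuotientGroup.ker_mk']
        rfl
      rw [hker]
      let φ : N.subgroupOf K →* N :=
        MonoidHom.mk' (fun x => ⟨((x : K) : G), x.2⟩) fun _ _ => rfl
      exact isCyclic_of_injective φ fun a b hab =>
        Subtype.ext (Subtype.ext (congrArg (fun z : N => (z : G)) hab))
    exact supersolvable_of_ker_cyclic f (ih hlt (supersolvable_quotient h N) f.range)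

theorem supersolvable_subgroup [Finite G] (h : Cfsg.IsSupersolvable G) (K : Subgroup G) :
    Cfsg.IsSupersolvable K :=
  supersolvable_subgroup_aux _ le_rfl h K

theorem supersolvable_of_injective [Finite G] {L : Type v} [Group L] (f : L →* G)
    (hf : Function.Injective f) (h : Cfsg.IsSupersolvable G) : Cfsg.IsSupersolvable L :=
  supersolvable_congr (MonoidHom.ofInjective hf).symm (supersolvable_subgroup h f.range)

theorem supersolvable_prod_aux (n : ℕ) : ∀ {G : Type u} {L : Type v} [Group G] [Group L] [Finite G],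
    Nat.card G ≤ n → Cfsg.IsSupersolvable G → Cfsg.IsSupersolvable L →
      Cfsg.IsSupersolvable (G × L) := by
  induction n with
  | zero =>
    intro G L _ _ _ hG
    exact absurd hG (Nat.not_le.mpr Nat.card_pos)
  | succ n ih =>
    intro G L _ _ _ hG h hL
    rcases subsingleton_or_nontrivial G with hs | hs
    · exact supersolvable_congr (MulEquiv.ofBijective (MonoidHom.inr G L)
        ⟨fun a b hab => congrArg Prod.snd hab,
          fun x => ⟨x.2, Prod.ext (Subsingleton.elim _ _) rfl⟩⟩) hL
    obtain ⟨N, hN, hNp⟩ := exists_prime_normal h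
    have := isCyclic_of_card_prime hNp
    let f : G × L →* (G ⧸ N) × L := (QuotientGroup.mk' N).prodMap (MonoidHom.id L)
    have hsurj : Function.Surjective f :=
      Prod.map_surjective.mpr ⟨QuotientGroup.mk'_surjective N, Function.surjective_id⟩
    have hlt : Nat.card (G ⧸ N) ≤ n :=
      Nat.lt_succ_iff.mp ((card_quotient_lt' (ne_bot_of_card_prime hNp)).trans_le hG)
    have : IsCyclic f.ker := by
      let φ : f.ker →* N := MonoidHom.mk' (fun x => ⟨x.1.1, by
        have := congrArg Prod.fst (MonoidHom.mem_ker.mp x.2)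
        exact (QuotientGroup.eq_one_iff _).mp this⟩) fun _ _ => rfl
      refine isCyclic_of_injective φ fun a b hab => Subtype.ext (Prod.ext ?_ ?_)
      · exact congrArg (fun z : N => (z : G)) hab
      · exact (congrArg Prod.snd (MonoidHom.mem_ker.mp a.2) : a.1.2 = 1).trans
          (congrArg Prod.snd (MonoidHom.mem_ker.mp b.2) : b.1.2 = 1).symm
    refine supersolvable_of_ker_cyclic f ?_
    exact supersolvable_congr ((Subgroup.topEquiv.symm).trans
      (MulEquiv.subgroupCongr (MonoidHom.range_eq_top.mpr hsurj).symm))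
      (ih hlt (supersolvable_quotient h N) hL)

theorem supersolvable_prod [Finite G] {L : Type v} [Group L] (h : Cfsg.IsSupersolvable G)
    (hL : Cfsg.IsSupersolvable L) : Cfsg.IsSupersolvable (G × L) :=
  supersolvable_prod_aux _ le_rfl h hL

theorem exists_prime_normal_le_aux (n : ℕ) : ∀ {G : Type u} [Group G] [Finite G],
    Nat.card G ≤ n → Cfsg.IsSupersolvable G → ∀ N : Subgroup G, N.Normal → N ≠ ⊥ →
      ∃ R : Subgroup G, R.Normal ∧ (Nat.card R).Prime ∧ R ≤ N := by
  induction n with
  | zero =>
    intro G _ _ hG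
    exact absurd hG (Nat.not_le.mpr Nat.card_pos)
  | succ n ih =>
    intro G _ _ hG h N hN hne
    have : Nontrivial G := by
      by_contra h'
      rw [not_nontrivial_iff_subsingleton] at h'
      exact hne (Subsingleton.elim _ _)
    obtain ⟨M, hM, hMp⟩ := exists_prime_normal h
    by_cases hle : M ≤ N
    · exact ⟨M, hM, hMp, hle⟩
    have hinf : N ⊓ M = ⊥ := by
      have := Fact.mk hMp
      rcases ((N ⊓ M).subgroupOf M).eq_bot_or_eq_top_of_prime_card with h1 | h1
      · rw [Subgroup.subgroupOf_eq_bot, disjoint_iff, inf_assoc, inf_idem] at h1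
        exact h1
      · exact absurd ((Subgroup.subgroupOf_eq_top.mp h1).trans inf_le_left) hle
    set f := QuotientGroup.mk' M
    have hsurj : Function.Surjective f := QuotientGroup.mk'_surjective M
    have hlt : Nat.card (G ⧸ M) ≤ n :=
      Nat.lt_succ_iff.mp ((card_quotient_lt' (ne_bot_of_card_prime hMp)).trans_le hG)
    obtain ⟨R, hR, hRp, hRN⟩ := ih hlt (supersolvable_quotient h M) (N.map f) (hN.map f hsurj)
      (fun h0 => hne (by
        rw [Subgroup.map_eq_bot_iff, QuotientGroup.ker_mk'] at h0
        rw [← inf_eq_left.mpr h0, hinf]))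
    refine ⟨R.comap f ⊓ N, Subgroup.normal_inf_normal _ _, ?_, inf_le_right⟩
    have hmap : (R.comap f ⊓ N).map f = R := by
      refine le_antisymm (Subgroup.map_le_iff_le_comap.mpr inf_le_left) fun r hr => ?_
      obtain ⟨x, hx, rfl⟩ := hRN hr
      exact ⟨x, ⟨hr, hx⟩, rfl⟩
    have hinj : Function.Injective (f.domRestrict (R.comap f ⊓ N)) := by
      rw [← MonoidHom.ker_eq_bot_iff, MonoidHom.ker_domRestrict, QuotientGroup.ker_mk',
        Subgroup.subgroupOf_eq_bot, disjoint_iff, eq_bot_iff]
      exact fun x hx => hinf.le ⟨hx.2.2, hx.1⟩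
    rwa [← hmap, ← MonoidHom.domRestrict_range,
      ← Nat.card_congr (MonoidHom.ofInjective hinj).toEquiv] at hRp

/-- Every nontrivial normal subgroup of a finite supersolvable group contains a normal subgroup
of prime order. -/
theorem exists_prime_normal_le [Finite G] (h : Cfsg.IsSupersolvable G) {N : Subgroup G}
    (hN : N.Normal) (hne : N ≠ ⊥) :
    ∃ R : Subgroup G, R.Normal ∧ (Nat.card R).Prime ∧ R ≤ N :=
  exists_prime_normal_le_aux _ le_rfl h N hN hne

/-- Maximal subgroups of a finite supersolvable group have prime index. -/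
theorem prime_index_of_isCoatom_aux (n : ℕ) : ∀ {G : Type u} [Group G] [Finite G],
    Nat.card G ≤ n → Cfsg.IsSupersolvable G → ∀ M : Subgroup G, IsCoatom M → M.index.Prime := by
  induction n with
  | zero =>
    intro G _ _ hG
    exact absurd hG (Nat.not_le.mpr Nat.card_pos)
  | succ n ih =>
    intro G _ _ hG h M hM
    have : Nontrivial G := by
      by_contra h'
      rw [not_nontrivial_iff_subsingleton] at h'
      exact hM.1 (Subsingleton.elim _ _)
    obtain ⟨N, hN, hNp⟩ := exists_prime_normal h
    set f := QuotientGroup.mk' N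
    have hsurj : Function.Surjective f := QuotientGroup.mk'_surjective N
    by_cases hle : N ≤ M
    · have hlt : Nat.card (G ⧸ N) ≤ n :=
        Nat.lt_succ_iff.mp ((card_quotient_lt' (ne_bot_of_card_prime hNp)).trans_le hG)
      have hker : f.ker ≤ M := (QuotientGroup.ker_mk' N).le.trans hle
      have hco : IsCoatom (M.map f) := by
        refine ⟨fun htop => hM.1 ?_, fun K hK => ?_⟩
        · have := congrArg (Subgroup.comap f) htop
          rwa [Subgroup.comap_map_eq_self hker, Subgroup.comap_top] at this
        · have hKc : M < K.comap f := by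
            refine lt_of_le_of_ne (Subgroup.map_le_iff_le_comap.mp hK.le) fun he => hK.ne ?_
            rw [he, Subgroup.map_comap_eq_self_of_surjective hsurj]
          rw [← Subgroup.map_comap_eq_self_of_surjective hsurj K, hM.2 _ hKc,
            Subgroup.map_top_of_surjective f hsurj]
      have := ih hlt (supersolvable_quotient h N) _ hco
      rwa [Subgroup.index_map_eq _ hsurj hker] at this
    · have htop : M ⊔ N = ⊤ := hM.2 _ (lt_of_le_of_ne le_sup_left
        fun he => hle (he ▸ le_sup_right))
      have hdvd : M.index ∣ Nat.card N := by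
        have h1 := CfsgLib.Coprime.card_sup_mul_card_inf
          (Subgroup.le_normalizer_of_normal (K := M) (H := N))
        rw [htop, Subgroup.card_top, ← M.card_mul_index, mul_assoc] at h1
        exact ⟨_, (Nat.eq_of_mul_eq_mul_left Nat.card_pos h1).symm⟩
      rcases hNp.eq_one_or_self_of_dvd _ hdvd with h1 | h1
      · exact absurd (Subgroup.index_eq_one.mp h1) hM.1
      · exact h1 ▸ hNp

theorem prime_index_of_isCoatom [Finite G] (h : Cfsg.IsSupersolvable G) {M : Subgroup G}
    (hM : IsCoatom M) : M.index.Prime :=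
  prime_index_of_isCoatom_aux _ le_rfl h M hM

/-- Finite supersolvable groups are solvable. -/
theorem isSolvable_of_supersolvable_aux (n : ℕ) : ∀ {G : Type u} [Group G] [Finite G],
    Nat.card G ≤ n → Cfsg.IsSupersolvable G → Group.IsSolvable G := by
  induction n with
  | zero =>
    intro G _ _ hG
    exact absurd hG (Nat.not_le.mpr Nat.card_pos)
  | succ n ih =>
    intro G _ _ hG h
    rcases subsingleton_or_nontrivial G with hs | hs
    · infer_instance
    obtain ⟨N, hN, hNp⟩ := exists_prime_normal h
    have := isCyclic_of_card_prime hNp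
    have hlt : Nat.card (G ⧸ N) ≤ n :=
      Nat.lt_succ_iff.mp ((card_quotient_lt' (ne_bot_of_card_prime hNp)).trans_le hG)
    have := ih hlt (supersolvable_quotient h N)
    have : Group.IsSolvable N :=
      by
      have := IsCyclic.isMulCommutative (α := N)
      exact Group.isSolvable_of_comm fun a b => mul_comm' a b
    exact Group.isSolvable_of_ker_le_range N.subtype (QuotientGroup.mk' N)
      (by rw [QuotientGroup.ker_mk', Subgroup.range_subtype])

theorem isSolvable_of_supersolvable [Finite G] (h : Cfsg.IsSupersolvable G) :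
    Group.IsSolvable G :=
  isSolvable_of_supersolvable_aux _ le_rfl h

end CfsgLib.SolvStruct
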