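import Cfsg.Prelude.Def_SolvableStructure
import Cfsg.Agent.Lib.SolvStruct.Supersolvable
import Cfsg.Agent.Lib.SolvStruct.Huppert
import Cfsg.Agent.Lib.Base.MinimalNormal
import Cfsg.Agent.Lib.Transfer.Alperin

/-!
A supersolvability criterion by the orders of two-generated subgroups `⟨x, gxg⁻¹⟩`.

The linear part: a supersolvable group acting faithfully and irreducibly, in which every element of
prime-power order prime to the characteristic satisfies `(T - 1)(T - c) = 0` for a scalar `c`,
consists of scalars.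
-/

set_option autoImplicit false

namespace CfsgLib.SolvStruct.PairOrder

variable {K V M : Type*} [Field K] [AddCommGroup V] [Module K V] [Group M]

/-- `T` satisfies `(T - 1)(T - c) = 0`. -/
def Quad (T : Module.End K V) (c : K) : Prop := T * T = (1 + c) • T - c • (1 : Module.End K V)

theorem Quad.apply {T : Module.End K V} {c : K} (h : Quad T c) (v : V) :
    T (T v) = (1 + c) • T v - c • v := by
  have := LinearMap.congr_fun h v
  simpa using this

theorem Quad.eigen_eq {T : Module.End K V} {c z : K} (h : Quad T c) {v : V} (hv : v ≠ 0)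
    (hz : T v = z • v) : z = 1 ∨ z = c := by
  have h1 := h.apply v
  rw [hz, map_smul, hz, smul_smul, smul_smul, ← sub_smul, ← sub_eq_zero, ← sub_smul] at h1
  rcases smul_eq_zero.1 h1 with h2 | h2
  · have : (z - 1) * (z - c) = 0 := by linear_combination h2
    rcases mul_eq_zero.1 this with h3 | h3
    · exact Or.inl (sub_eq_zero.1 h3)
    · exact Or.inr (sub_eq_zero.1 h3)
  · exact absurd h2 hv

theorem Quad.exists_one_eigen {T : Module.End K V} {c : K} (h : Quad T c)
    (hT : T ≠ c • (1 : Module.End K V)) : ∃ v : V, v ≠ 0 ∧ T v = v := by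
  by_contra hcon
  push Not at hcon
  refine hT (LinearMap.ext fun v => ?_)
  by_contra hv
  refine hcon (T v - c • v) (sub_ne_zero.2 (by simpa using hv)) ?_
  rw [map_sub, map_smul, h.apply]
  module

theorem Quad.exists_eigen_c {T : Module.End K V} {c : K} (h : Quad T c) (hT : T ≠ 1) :
    ∃ v : V, v ≠ 0 ∧ T v = c • v := by
  by_contra hcon
  push Not at hcon
  refine hT (LinearMap.ext fun v => ?_)
  by_contra hv
  refine hcon (T v - v) (sub_ne_zero.2 (by simpa using hv)) ?_
  rw [map_sub, h.apply]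
  module

theorem exists_scalar_of_eigen (T : Module.End K V) (W : Submodule K V)
    (h : ∀ w ∈ W, ∃ a : K, T w = a • w) : ∃ c : K, ∀ w ∈ W, T w = c • w := by
  by_cases hW : ∃ w ∈ W, w ≠ 0
  swap
  · push Not at hW
    exact ⟨0, fun w hw => by rw [hW w hw, map_zero, smul_zero]⟩
  obtain ⟨w₀, hw₀, hne⟩ := hW
  obtain ⟨a₀, ha₀⟩ := h w₀ hw₀
  refine ⟨a₀, fun w hw => ?_⟩
  obtain ⟨a, ha⟩ := h w hw
  obtain ⟨e, he⟩ := h (w₀ + w) (W.add_mem hw₀ hw)
  rw [map_add, ha₀, ha, smul_add] at he
  have h1 : (a - e) • w = (e - a₀) • w₀ := by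
    linear_combination (norm := module) he
  by_cases hae : a = e
  · rw [hae, sub_self, zero_smul] at h1
    have : e = a₀ := sub_eq_zero.1 ((smul_eq_zero.1 h1.symm).resolve_right hne)
    rw [ha, hae, this]
  · have h2 : w = ((a - e)⁻¹ * (e - a₀)) • w₀ := by
      rw [mul_smul, ← h1, smul_smul, inv_mul_cancel₀ (sub_ne_zero.2 hae), one_smul]
    rw [h2, map_smul, ha₀, smul_comm]

/-- Two anticommuting involutory-type elements: `X` quadratic with `X T = - T X`, `T² = 1`. -/
theorem sq_eq_one_of_anticomm {X T : Module.End K V} {d : K} (h2 : (2 : K) ≠ 0) (hX : Quad X d)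
    (hT : T * T = 1) (hXT : X * T = -(T * X)) (hX0 : X ≠ 0) : X * X = 1 := by
  have hTXT : T * X * T = -X := by
    rw [mul_assoc, hXT, mul_neg, ← mul_assoc, hT, one_mul]
  have hsq : T * (X * X) * T = X * X := by
    calc T * (X * X) * T = (T * X * T) * (T * X * T) := by
          simp only [mul_assoc]
          rw [← mul_assoc T T, hT, one_mul]
      _ = X * X := by rw [hTXT, neg_mul_neg]
  rw [hX] at hsq
  rw [mul_sub, sub_mul, mul_smul_comm, smul_mul_assoc, hTXT, mul_smul_comm, smul_mul_assoc, mul_one,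
    hT] at hsq
  have h3 : (2 * (1 + d)) • X = 0 := by
    linear_combination (norm := module) -hsq
  have h4 : 1 + d = 0 :=
    (mul_eq_zero.1 ((smul_eq_zero.1 h3).resolve_right hX0)).resolve_left h2
  rw [hX, h4, zero_smul, eq_neg_of_add_eq_zero_right h4]
  module

section Core

variable (ρ : M →* Module.End K V)

/-- The elements acting as scalars. -/
def scalars : Subgroup M where
  carrier := {m | ∃ c : K, ρ m = c • (1 : Module.End K V)}
  one_mem' := ⟨1, by rw [map_one, one_smul]⟩
  mul_mem' := by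
    rintro a b ⟨c, hc⟩ ⟨d, hd⟩
    exact ⟨c * d, by rw [map_mul, hc, hd, smul_mul_smul_comm, one_mul]⟩
  inv_mem' := by
    rintro a ⟨c, hc⟩
    refine ⟨c⁻¹, ?_⟩
    have h1 : c • ρ a⁻¹ = (1 : Module.End K V) := by
      rw [← one_mul (ρ a⁻¹), ← smul_mul_assoc, ← hc, ← map_mul, mul_inv_cancel, map_one]
    rcases eq_or_ne c 0 with rfl | hc0
    · rw [zero_smul] at h1
      refine LinearMap.ext fun v => ?_
      have hv : v = 0 := by simpa using (LinearMap.congr_fun h1 v).symm
      simp [hv]
    · rw [← h1, smul_smul, inv_mul_cancel₀ hc0, one_smul]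

theorem mem_scalars {m : M} : m ∈ scalars ρ ↔ ∃ c : K, ρ m = c • (1 : Module.End K V) := Iff.rfl

variable {ρ}

theorem scalars_le_center (hinj : Function.Injective ρ) : scalars ρ ≤ Subgroup.center M := by
  rintro a ⟨c, hc⟩
  rw [Subgroup.mem_center_iff]
  intro g
  apply hinj
  rw [map_mul, map_mul, hc, smul_mul_assoc, mul_smul_comm, one_mul, mul_one]

theorem eq_top_scalars [Finite M] [Nontrivial V] {p : ℕ} [hp : Fact p.Prime] [CharP K p]
    (hinj : Function.Injective ρ) (hss : Cfsg.IsSupersolvable M)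
    (hirr : ∀ U : Submodule K V, (∀ m : M, ∀ v ∈ U, ρ m v ∈ U) → U = ⊥ ∨ U = ⊤)
    (hquad : ∀ r : ℕ, r.Prime → r ≠ p → ∀ (x : M) (a : ℕ), x ^ r ^ a = 1 → ∃ c : K, Quad (ρ x) c) :
    scalars ρ = ⊤ := by
  classical
  by_contra hne
  set Z := scalars ρ with hZ
  have hZc : Z ≤ Subgroup.center M := scalars_le_center hinj
  have hZn : Z.Normal :=
    ⟨fun n hn g => by rwa [Subgroup.mem_center_iff.1 (hZc hn) g, mul_inv_cancel_right]⟩
  haveI : Nontrivial (M ⧸ Z) := by
    rw [QuotientGroup.nontrivial_iff]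
    exact hne
  obtain ⟨R, hR, hRp⟩ := exists_prime_normal (supersolvable_quotient hss Z)
  set r := Nat.card R with hr
  haveI : Fact r.Prime := ⟨hRp⟩
  set B := R.comap (QuotientGroup.mk' Z) with hB
  have hBn : B.Normal := hR.comap _
  -- an `r`-element `b` of `B` outside `Z`
  obtain ⟨b₀, hb₀, hb₀Z⟩ : ∃ b₀ ∈ B, b₀ ∉ Z := by
    by_contra h
    push Not at h
    refine ne_bot_of_card_prime hRp (bot_unique fun y hy => ?_)
    obtain ⟨y, rfl⟩ := QuotientGroup.mk'_surjective Z y
    rw [Subgroup.mem_bot, QuotientGroup.mk'_apply, QuotientGroup.eq_one_iff]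
    exact h y hy
  obtain ⟨a, o, ho, hord⟩ :=
    Nat.exists_eq_pow_mul_and_not_dvd (orderOf_pos b₀).ne' r hRp.ne_one
  set b := b₀ ^ o with hb
  have hbB : b ∈ B := B.pow_mem hb₀ o
  have hbpow : b ^ r ^ a = 1 := by rw [hb, ← pow_mul, mul_comm, ← hord, pow_orderOf_eq_one]
  have hbZ : b ∉ Z := by
    intro h
    apply hb₀Z
    rw [← QuotientGroup.eq_one_iff]
    have h1 : (QuotientGroup.mk b₀ : M ⧸ Z) ^ o = 1 := by
      rw [← QuotientGroup.mk_pow, QuotientGroup.eq_one_iff]; exact h
    have h2 : (QuotientGroup.mk b₀ : M ⧸ Z) ^ r = 1 := by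
      have := congrArg Subtype.val (pow_card_eq_one' (x := (⟨_, hb₀⟩ : R)))
      simpa [← hr] using this
    have h3 := pow_gcd_eq_one.2 ⟨h1, h2⟩
    rwa [Nat.Coprime.gcd_eq_one ((Nat.Prime.coprime_iff_not_dvd hRp).2 ho).symm, pow_one] at h3
  set T := ρ b with hTdef
  have hTns : ∀ z : K, T ≠ z • (1 : Module.End K V) := fun z hz => hbZ ⟨z, hz⟩
  have hTpow : T ^ r ^ a = 1 := by rw [hTdef, ← map_pow, hbpow, map_one]
  -- conjugates of `b`
  have hconj : ∀ m : M, ∃ (z : K) (i : ℕ), ρ (m * b * m⁻¹) = z • T ^ i := by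
    intro m
    have hR' : Subgroup.zpowers (QuotientGroup.mk' Z b) = R := by
      refine Subgroup.eq_of_le_of_card_ge (Subgroup.zpowers_le.2 hbB) ?_
      have hne1 : QuotientGroup.mk' Z b ≠ 1 := by
        rwa [QuotientGroup.mk'_apply, Ne, QuotientGroup.eq_one_iff]
      have hd : orderOf (QuotientGroup.mk' Z b) ∣ r := by
        rw [orderOf_dvd_iff_pow_eq_one]
        have := congrArg Subtype.val (pow_card_eq_one' (x := (⟨_, hbB⟩ : R)))
        simpa [← hr] using this
      rw [Nat.card_zpowers, ((Nat.dvd_prime hRp).1 hd).resolve_left fun h => hne1 (orderOf_eq_one_iff.1 h)]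
    have hmem : QuotientGroup.mk' Z (m * b * m⁻¹) ∈ Subgroup.zpowers (QuotientGroup.mk' Z b) := by
      rw [hR']; exact hBn.conj_mem b hbB m
    rw [← mem_powers_iff_mem_zpowers] at hmem
    obtain ⟨i, hi⟩ := hmem
    have hz : m * b * m⁻¹ * (b ^ i)⁻¹ ∈ Z := by
      rw [← QuotientGroup.eq_one_iff, ← QuotientGroup.mk'_apply, map_mul, map_inv, map_pow]
      simp only at hi
      rw [hi, mul_inv_cancel]
    obtain ⟨z, hz⟩ := hz
    refine ⟨z, i, ?_⟩
    calc ρ (m * b * m⁻¹) = ρ (m * b * m⁻¹ * (b ^ i)⁻¹ * b ^ i) := by rw [inv_mul_cancel_right]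
      _ = z • T ^ i := by rw [map_mul, hz, map_pow, smul_mul_assoc, one_mul]
  have hmove : ∀ (m : M) (v : V), ρ b (ρ m v) = ρ m (ρ (m⁻¹ * b * m) v) := by
    intro m v
    rw [← Module.End.mul_apply, ← Module.End.mul_apply, ← map_mul, ← map_mul]
    congr 2
    group
  rcases eq_or_ne r p with hrp | hrp
  · -- unipotent case
    haveI : CharP (Module.End K V) p := charP_of_injective_algebraMap' K p
    haveI : ExpChar (Module.End K V) p := ExpChar.prime hp.out
    have hnil : (T - 1) ^ p ^ a = 0 := by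
      rw [sub_pow_expChar_pow_of_commute p a (Commute.one_right T), one_pow, ← hrp, hTpow, sub_self]
    have hfix : ∀ m : M, ∀ v : V, T v = v → ρ (m * b * m⁻¹) v = v := by
      intro m v hv
      obtain ⟨z, i, hzi⟩ := hconj m
      have h1 : ρ (m * b * m⁻¹) ^ p ^ a = 1 := by
        rw [← map_pow, conj_pow, ← hrp, hbpow, mul_one, mul_inv_cancel, map_one]
      rw [hzi, smul_pow, ← pow_mul, mul_comm i, pow_mul, ← hrp, hTpow, one_pow, hrp] at h1
      have hz1 : z ^ p ^ a = 1 := by
        obtain ⟨u, hu⟩ := exists_ne (0 : V)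
        have h2 := LinearMap.congr_fun h1 u
        simp only [LinearMap.smul_apply, Module.End.one_apply] at h2
        nth_rewrite 2 [← one_smul K u] at h2
        exact smul_left_injective K hu h2
      have hz : z = 1 := by
        haveI : ExpChar K p := ExpChar.prime hp.out
        have h3 : (z - 1) ^ p ^ a = 0 := by rw [sub_pow_expChar_pow, hz1, one_pow, sub_self]
        exact sub_eq_zero.1 (pow_eq_zero_iff (pow_pos hp.out.pos a).ne' |>.1 h3)
      rw [hzi, hz, one_smul]
      clear hzi h1
      induction i with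
      | zero => simp
      | succ n ih => rw [pow_succ, Module.End.mul_apply, hv, ih]
    have hinv : ∀ (m : M), ∀ v ∈ LinearMap.ker (T - 1), ρ m v ∈ LinearMap.ker (T - 1) := by
      intro m v hv
      simp only [LinearMap.mem_ker, LinearMap.sub_apply, Module.End.one_apply, sub_eq_zero] at hv ⊢
      rw [hTdef, hmove]
      congr 1
      simpa using hfix m⁻¹ v hv
    rcases hirr (LinearMap.ker (T - 1)) hinv with h | h
    · have hinjT : Function.Injective (T - 1 : Module.End K V) := LinearMap.ker_eq_bot.1 h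
      have : Function.Injective ((T - 1 : Module.End K V) ^ p ^ a : Module.End K V) := by
        rw [Module.End.coe_pow]; exact hinjT.iterate _
      rw [hnil] at this
      obtain ⟨u, hu⟩ := exists_ne (0 : V)
      exact hu (this (by simp))
    · apply hTns 1
      rw [one_smul]
      exact sub_eq_zero.1 (LinearMap.ker_eq_top.1 h)
  -- semisimple case
  obtain ⟨c, hc⟩ : ∃ c, Quad T c := hquad r hRp hrp b a hbpow
  have hcast : (r : K) ≠ 0 := by
    rw [Ne, CharP.cast_eq_zero_iff K p, Nat.prime_dvd_prime_iff_eq hp.out hRp]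
    exact hrp.symm
  obtain ⟨v₀, hv₀, hTv₀⟩ := hc.exists_one_eigen (hTns c)
  obtain ⟨v₁, hv₁, hTv₁⟩ := hc.exists_eigen_c (fun h => hTns 1 (by rw [h, one_smul]))
  have hpoly : ∀ i : ℕ, ∃ α : K, T ^ i = 1 + α • (T - 1) := by
    intro i
    induction i with
    | zero => exact ⟨0, by rw [zero_smul, add_zero, pow_zero]⟩
    | succ n ih =>
      obtain ⟨α, hα⟩ := ih
      refine ⟨1 + α * c, ?_⟩
      rw [pow_succ, hα, add_mul, one_mul, smul_mul_assoc, sub_mul, one_mul, hc]
      module
  have hc1 : c ≠ 1 := by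
    rintro rfl
    have hpow : ∀ n : ℕ, T ^ n = 1 + (n : K) • (T - 1) := by
      intro n
      induction n with
      | zero => simp
      | succ n ih =>
        rw [pow_succ, ih, add_mul, one_mul, smul_mul_assoc, sub_mul, one_mul, hc, Nat.cast_succ]
        module
    have h1 := hpow (r ^ a)
    rw [hTpow, left_eq_add] at h1
    apply hTns 1
    rw [one_smul]
    refine sub_eq_zero.1 ((smul_eq_zero.1 h1).resolve_left ?_)
    rw [Nat.cast_pow]
    exact pow_ne_zero _ hcast
  have hc0 : c ≠ 0 := by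
    rintro rfl
    rw [zero_smul] at hTv₁
    have : (T ^ r ^ a) v₁ = 0 := by
      obtain ⟨n, hn⟩ : ∃ n, r ^ a = n + 1 := ⟨r ^ a - 1, by have := pow_pos hRp.pos a; omega⟩
      rw [hn, pow_succ, Module.End.mul_apply, hTv₁, map_zero]
    rw [hTpow, Module.End.one_apply] at this
    exact hv₁ this
  have hdich : ∀ m : M, ρ (m * b * m⁻¹) = T ∨
      ρ (m * b * m⁻¹) = (1 + c) • (1 : Module.End K V) - T := by
    intro m
    have hq : Quad (ρ (m * b * m⁻¹)) c := by
      unfold Quad
      calc ρ (m * b * m⁻¹) * ρ (m * b * m⁻¹)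
          = ρ m * (T * T) * ρ m⁻¹ := by
            simp only [hTdef, ← map_mul]; congr 1; group
        _ = _ := by
            rw [hc, mul_sub, sub_mul, mul_smul_comm, smul_mul_assoc, mul_smul_comm, smul_mul_assoc,
              mul_one, ← map_mul ρ m m⁻¹, mul_inv_cancel, map_one, hTdef, ← map_mul, ← map_mul]
    have hns : ∀ z : K, ρ (m * b * m⁻¹) ≠ z • (1 : Module.End K V) := by
      intro z hz
      exact hbZ (by simpa [mul_assoc] using hZn.conj_mem _ (⟨z, hz⟩ : m * b * m⁻¹ ∈ Z) m⁻¹)
    obtain ⟨z, i, hzi⟩ := hconj m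
    obtain ⟨α, hα⟩ := hpoly i
    rw [hzi, hα] at hq hns ⊢
    have e₀ : (z • (1 + α • (T - 1)) : Module.End K V) v₀ = z • v₀ := by
      simp [hTv₀]
    have e₁ : (z • (1 + α • (T - 1)) : Module.End K V) v₁ = (z * (1 + α * (c - 1))) • v₁ := by
      simp only [LinearMap.smul_apply, LinearMap.add_apply, LinearMap.sub_apply,
        Module.End.one_apply, hTv₁]
      module
    have hwne : z * (1 + α * (c - 1)) ≠ z := by
      intro h
      have h' : z * (α * (c - 1)) = 0 := by linear_combination h
      rcases mul_eq_zero.1 h' with h1 | h1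
      · exact hns 0 (by rw [h1, zero_smul, zero_smul])
      · have hα0 : α = 0 := (mul_eq_zero.1 h1).resolve_right (sub_ne_zero.2 hc1)
        exact hns z (by rw [hα0, zero_smul, add_zero])
    rcases hq.eigen_eq hv₀ e₀ with h0 | h0 <;> rcases hq.eigen_eq hv₁ e₁ with h1 | h1
    · exact absurd (h1.trans h0.symm) hwne
    · left
      rw [h0, one_mul] at h1
      have hα1 : α = 1 := by
        have : (α - 1) * (c - 1) = 0 := by linear_combination h1
        exact sub_eq_zero.1 ((mul_eq_zero.1 this).resolve_right (sub_ne_zero.2 hc1))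
      rw [h0, hα1]
      module
    · right
      rw [h0] at h1
      have hα1 : c * α = -1 := by
        have : (c * α + 1) * (c - 1) = 0 := by linear_combination h1
        exact eq_neg_of_add_eq_zero_left ((mul_eq_zero.1 this).resolve_right (sub_ne_zero.2 hc1))
      rw [h0, smul_add, smul_smul, hα1]
      module
    · exact absurd (h1.trans h0.symm) hwne
  -- some element moves the eigenspaces
  obtain ⟨m, hm⟩ : ∃ m : M, ρ (m * b * m⁻¹) ≠ T := by
    by_contra h
    push Not at h
    have hinv : ∀ (n : M), ∀ v ∈ LinearMap.ker (T - 1), ρ n v ∈ LinearMap.ker (T - 1) := by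
      intro n v hv
      simp only [LinearMap.mem_ker, LinearMap.sub_apply, Module.End.one_apply, sub_eq_zero] at hv ⊢
      rw [hTdef, hmove]
      congr 1
      have := h n⁻¹
      rw [inv_inv] at this
      rw [this]
      exact hv
    rcases hirr (LinearMap.ker (T - 1)) hinv with hk | hk
    · have : v₀ ∈ LinearMap.ker (T - 1) := by simp [hTv₀]
      rw [hk, Submodule.mem_bot] at this
      exact hv₀ this
    · apply hTns 1
      rw [one_smul]
      exact sub_eq_zero.1 (LinearMap.ker_eq_top.1 hk)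
  have hsw := (hdich m).resolve_left hm
  have hTT' : ρ (m * b * m⁻¹) * T = c • (1 : Module.End K V) := by
    rw [hsw, sub_mul, smul_mul_assoc, one_mul, hc]; module
  have hT'T : T * ρ (m * b * m⁻¹) = c • (1 : Module.End K V) := by
    rw [hsw, mul_sub, mul_smul_comm, mul_one, hc]; module
  have hcomm : Commute (m * b * m⁻¹) b := hinj ((map_mul ρ _ _).trans (hTT'.trans (hT'T.symm.trans (map_mul ρ _ _).symm)))
  have hcommy : Commute (m * b * m⁻¹ * b) b := hcomm.mul_left (Commute.refl b)
  obtain ⟨d, hd⟩ := hquad r hRp hrp (m * b * m⁻¹ * b * b) a (by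
    simp [hcommy.mul_pow, hcomm.mul_pow, conj_pow, hbpow])
  rw [map_mul, map_mul ρ (m * b * m⁻¹) b, hTT', smul_mul_assoc, one_mul] at hd
  have e₀ : (c • T) v₀ = c • v₀ := by simp [hTv₀]
  have e₁ : (c • T) v₁ = (c * c) • v₁ := by simp [hTv₁, smul_smul]
  have hd' : d = c := ((hd.eigen_eq hv₀ e₀).resolve_left hc1).symm
  have hcneg : c = -1 := by
    rcases hd.eigen_eq hv₁ e₁ with h | h
    · exact ((mul_self_eq_one_iff.1 h)).resolve_left hc1
    · rw [hd'] at h
      exact absurd (mul_left_cancel₀ hc0 (h.trans (mul_one c).symm)) hc1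
  have h2 : (2 : K) ≠ 0 := fun h => hc1 (by rw [hcneg]; linear_combination -h)
  have hr2 : r = 2 := by
    refine hRp.eq_two_or_odd'.resolve_right fun hodd => ?_
    have h1 : (T ^ r ^ a) v₁ = v₁ := by rw [hTpow, Module.End.one_apply]
    have h3 : ∀ n : ℕ, (T ^ n) v₁ = c ^ n • v₁ := by
      intro n
      induction n with
      | zero => simp
      | succ n ih => rw [pow_succ, Module.End.mul_apply, hTv₁, map_smul, ih, smul_smul, pow_succ']
    rw [h3, hcneg, hodd.pow.neg_one_pow] at h1
    have h4 : ((-1 : K) - 1) • v₁ = 0 := by rw [sub_smul, h1, one_smul, sub_self]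
    exact hc1 (hcneg.trans (sub_eq_zero.1 ((smul_eq_zero.1 h4).resolve_right hv₁)))
  have hT2 : T * T = 1 := by rw [hc, hcneg]; module
  have hsw' : ∀ n : M, ρ (n * b * n⁻¹) = T ∨ ρ (n * b * n⁻¹) = -T := by
    intro n
    refine (hdich n).imp_right fun h => ?_
    rw [h, hcneg]; module
  -- a 2-element anticommuting with `T`
  obtain ⟨k, o', ho', hord'⟩ := Nat.exists_eq_pow_mul_and_not_dvd (orderOf_pos m).ne' 2 (by norm_num)
  set x := m ^ o' with hx
  have hxT : ρ x * T = -(T * ρ x) := by
    have hmT : ρ m * T = -(T * ρ m) := by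
      have h := (hsw' m).resolve_left hm
      calc ρ m * T = ρ (m * b * m⁻¹) * ρ m := by
            rw [hTdef, ← map_mul, ← map_mul, inv_mul_cancel_right]
        _ = -(T * ρ m) := by rw [h, neg_mul]
    have hall : ∀ n : ℕ, ρ m ^ n * T = (-1 : K) ^ n • (T * ρ m ^ n) := by
      intro n
      induction n with
      | zero => simp
      | succ n ih =>
        rw [pow_succ (ρ m), mul_assoc, hmT, mul_neg, ← mul_assoc, ih, smul_mul_assoc, mul_assoc,
          pow_succ (-1 : K), mul_comm ((-1 : K) ^ n), mul_smul, neg_one_smul]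
    rw [hx, map_pow, hall, (Nat.odd_iff.2 (Nat.two_dvd_ne_zero.1 ho')).neg_one_pow, neg_one_smul]
  have hr2p : (2 : ℕ) ≠ p := hr2 ▸ hrp
  obtain ⟨dx, hdx⟩ := hquad 2 Nat.prime_two hr2p x k (by
    rw [hx, ← pow_mul, mul_comm, ← hord', pow_orderOf_eq_one])
  have hunit : ∀ n : M, ρ n ≠ 0 := fun n h => by
    have h1 : ρ n * ρ n⁻¹ = 1 := by rw [← map_mul, mul_inv_cancel, map_one]
    rw [h, zero_mul] at h1
    exact zero_ne_one h1
  have hX2 := sq_eq_one_of_anticomm h2 hdx hT2 hxT (hunit x)
  have hY2 : ρ (x * b) * ρ (x * b) = -1 := by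
    rw [map_mul, ← hTdef]
    calc ρ x * T * (ρ x * T) = ρ x * (T * ρ x) * T := by simp only [mul_assoc]
      _ = _ := by
        rw [show T * ρ x = -(ρ x * T) from by rw [hxT, neg_neg], mul_neg, neg_mul, ← mul_assoc,
          hX2, one_mul, hT2]
  have hY4 : (x * b) ^ 2 ^ 2 = 1 := hinj (by
    rw [map_one, map_pow, show (2 : ℕ) ^ 2 = 2 + 2 from rfl, pow_add, pow_two, hY2, neg_one_mul,
      neg_neg])
  obtain ⟨dy, hdy⟩ := hquad 2 Nat.prime_two hr2p (x * b) 2 hY4
  have hYT : ρ (x * b) * T = -(T * ρ (x * b)) := by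
    rw [map_mul, ← hTdef, ← mul_assoc T, mul_assoc, hT2, mul_one, ← neg_mul, ← hxT, mul_assoc, hT2,
      mul_one]
  have hY1 := sq_eq_one_of_anticomm h2 hdy hT2 hYT (hunit _)
  rw [hY2] at hY1
  obtain ⟨u, hu⟩ := exists_ne (0 : V)
  have h5 : -u = u := LinearMap.congr_fun hY1 u
  exact hu ((smul_eq_zero.1 (show (2 : K) • u = 0 by
    rw [two_smul]; nth_rewrite 1 [← h5]; exact neg_add_cancel u)).resolve_left h2)

end Core

end CfsgLib.SolvStruct.PairOrder

namespace CfsgLib.SolvStruct.PairOrder

universe u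

/-- The hypothesis of the criterion. -/
def Cond (G : Type u) [Group G] : Prop :=
  ∀ (p q : ℕ), p.Prime → q.Prime → p ≠ q → ∀ (x g : G), (∃ a : ℕ, orderOf x = p ^ a) →
    (∃ b : ℕ, orderOf g = q ^ b) →
      ¬ q ^ 2 ∣ Nat.card ↥(Subgroup.zpowers x ⊔ Subgroup.zpowers (g * x * g⁻¹))

theorem Cond.subgroup {G : Type u} [Group G] (h : Cond G) (H : Subgroup G) : Cond H := by
  intro p q hp hq hpq x g hx hg hd
  refine h p q hp hq hpq (x : G) (g : G) (by rwa [Subgroup.orderOf_coe])
    (by rwa [Subgroup.orderOf_coe]) ?_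
  rw [Nat.card_congr (Subgroup.equivMapOfInjective _ H.subtype H.subtype_injective).toEquiv,
    Subgroup.map_sup, MonoidHom.map_zpowers, MonoidHom.map_zpowers] at hd
  simpa using hd

theorem exists_pElement_preimage {G L : Type*} [Group G] [Finite G] [Group L] (f : G →* L)
    (hf : Function.Surjective f) {p : ℕ} [hp : Fact p.Prime] {y : L}
    (hy : ∃ a : ℕ, orderOf y = p ^ a) :
    ∃ x : G, f x = y ∧ ∃ a : ℕ, orderOf x = p ^ a := by
  obtain ⟨a, ha⟩ := hy
  obtain ⟨z, rfl⟩ := hf y
  obtain ⟨e, o, ho, hord⟩ := Nat.exists_eq_pow_mul_and_not_dvd (orderOf_pos z).ne' p hp.out.ne_one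
  have hzo : (z ^ o) ^ p ^ e = 1 := by rw [← pow_mul, mul_comm, ← hord, pow_orderOf_eq_one]
  obtain ⟨k, -, hk⟩ := (Nat.dvd_prime_pow hp.out).1 (orderOf_dvd_of_pow_eq_one hzo)
  have hcop : Nat.Coprime o (orderOf (f z)) :=
    ha ▸ ((Nat.Prime.coprime_iff_not_dvd hp.out).2 ho).symm.pow_right a
  obtain ⟨j, hj⟩ : ∃ j, ((f z) ^ o) ^ j = f z := exists_pow_eq_self_of_coprime hcop
  refine ⟨(z ^ o) ^ j, by rw [map_pow, map_pow, hj], ?_⟩
  obtain ⟨i, -, hi⟩ := (Nat.dvd_prime_pow hp.out).1 (hk ▸ orderOf_pow_dvd (x := z ^ o) j)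
  exact ⟨i, hi⟩

theorem Cond.quotient {G : Type u} [Group G] [Finite G] (h : Cond G) (N : Subgroup G) [N.Normal] :
    Cond (G ⧸ N) := by
  intro p q hp hq hpq x g hx hg hd
  haveI := Fact.mk hp
  haveI := Fact.mk hq
  obtain ⟨x', rfl, hx'⟩ := exists_pElement_preimage (QuotientGroup.mk' N) (QuotientGroup.mk'_surjective N) hx
  obtain ⟨g', rfl, hg'⟩ := exists_pElement_preimage (QuotientGroup.mk' N) (QuotientGroup.mk'_surjective N) hg
  refine h p q hp hq hpq x' g' hx' hg' (hd.trans ?_)
  rw [← map_inv, ← map_mul, ← map_mul, ← MonoidHom.map_zpowers, ← MonoidHom.map_zpowers,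
    ← Subgroup.map_sup]
  exact Subgroup.card_map_dvd _ _

/-- The linear representation on `Additive W` of an action by automorphisms. -/
noncomputable def endRep (p : ℕ) {W A : Type*} [CommGroup W] [Group A] [Module (ZMod p) (Additive W)]
    (φ : A →* MulAut W) : A →* Module.End (ZMod p) (Additive W) where
  toFun a := (φ a).toMonoidHom.toAdditive.toZModLinearMap p
  map_one' := by ext v; rw [map_one]; rfl
  map_mul' a b := by ext v; rw [map_mul]; rfl

/-- The multiplicative form of the linear step: the acted on group has order at most `p`. -/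
theorem card_le_of_irreducible {p : ℕ} [hp : Fact p.Prime] {W M : Type*} [CommGroup W] [Finite W]
    [Nontrivial W] [Group M] [Finite M] (hexp : ∀ w : W, w ^ p = 1) (φ : M →* MulAut W)
    (hinj : Function.Injective φ) (hss : Cfsg.IsSupersolvable M)
    (hirr : ∀ U : Subgroup W, (∀ m : M, ∀ v ∈ U, φ m v ∈ U) → U = ⊥ ∨ U = ⊤)
    (heig : ∀ r : ℕ, r.Prime → r ≠ p → ∀ (x : M) (a : ℕ), x ^ r ^ a = 1 → ∀ v : W,
      φ x (v * (φ x v)⁻¹) ∈ Subgroup.zpowers (v * (φ x v)⁻¹)) :
    Nat.card W ≤ p := by
  let _ : Module (ZMod p) (Additive W) := AddCommGroup.zmodModule (n := p) fun x => hexp x.toMul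
  have : Nontrivial (Additive W) := Additive.toMul.nontrivial
  let ρ : M →* Module.End (ZMod p) (Additive W) := endRep p φ
  have hρ : ∀ m v, ρ m v = Additive.ofMul (φ m (Additive.toMul v)) := fun m v => rfl
  have hρinj : Function.Injective ρ := fun a b hab => hinj (MulEquiv.ext fun w => by
    have := LinearMap.congr_fun hab (Additive.ofMul w)
    exact Additive.ofMul.injective this)
  have hirr' : ∀ U : Submodule (ZMod p) (Additive W), (∀ m : M, ∀ v ∈ U, ρ m v ∈ U) →
      U = ⊥ ∨ U = ⊤ := by
    intro U hU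
    rcases hirr (AddSubgroup.toSubgroup' U.toAddSubgroup) fun m v hv => hU m _ hv with h | h
    · refine Or.inl ((Submodule.eq_bot_iff _).2 fun v hv => ?_)
      have h1 : Additive.toMul v ∈ AddSubgroup.toSubgroup' U.toAddSubgroup := hv
      rw [h, Subgroup.mem_bot] at h1
      exact Additive.toMul.injective h1
    · refine Or.inr (Submodule.eq_top_iff'.2 fun v => ?_)
      exact (h.ge (Subgroup.mem_top (Additive.toMul v)) : _)
  have hquad : ∀ r : ℕ, r.Prime → r ≠ p → ∀ (x : M) (a : ℕ), x ^ r ^ a = 1 →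
      ∃ c : ZMod p, Quad (ρ x) c := by
    intro r hr hrp x a hxa
    obtain ⟨c, hc⟩ := exists_scalar_of_eigen (ρ x)
        (LinearMap.range ((1 : Module.End (ZMod p) (Additive W)) - ρ x)) (by
      rintro w ⟨v, rfl⟩
      have h1 : ((1 : Module.End (ZMod p) (Additive W)) - ρ x) v =
          Additive.ofMul (Additive.toMul v * (φ x (Additive.toMul v))⁻¹) := by
        rw [LinearMap.sub_apply, Module.End.one_apply, hρ, sub_eq_add_neg]
        rfl
      obtain ⟨k, hk⟩ := Subgroup.mem_zpowers_iff.1 (heig r hr hrp x a hxa (Additive.toMul v))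
      refine ⟨(k : ZMod p), ?_⟩
      rw [h1, hρ, Int.cast_smul_eq_zsmul]
      exact congrArg Additive.ofMul hk.symm)
    refine ⟨c, LinearMap.ext fun v => ?_⟩
    have h1 := hc _ ⟨v, rfl⟩
    simp only [LinearMap.sub_apply, Module.End.one_apply, map_sub] at h1
    simp only [Module.End.mul_apply, LinearMap.sub_apply, LinearMap.smul_apply, Module.End.one_apply]
    linear_combination (norm := module) -h1
  have hall := eq_top_scalars (p := p) hρinj hss hirr' hquad
  obtain ⟨v, hv⟩ := exists_ne (0 : Additive W)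
  have hspan : ∀ m : M, ∀ w ∈ Submodule.span (ZMod p) {v}, ρ m w ∈ Submodule.span (ZMod p) {v} := by
    intro m w hw
    obtain ⟨c, hc⟩ := (mem_scalars ρ).1 (hall.ge (Subgroup.mem_top m))
    rw [hc]
    exact Submodule.smul_mem _ c hw
  have htopspan := (hirr' _ hspan).resolve_left (by simpa using hv)
  have hsurj : Function.Surjective fun c : ZMod p => c • v := fun w =>
    Submodule.mem_span_singleton.1 (htopspan.ge Submodule.mem_top)
  rw [← Nat.card_congr (Additive.toMul : Additive W ≃ W)]
  simpa using Nat.card_le_card_of_surjective _ hsurj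

/-- A group all of whose proper subgroups and proper quotients are supersolvable is solvable. -/
theorem isSolvable_of_minimal {G : Type u} [Group G] [Finite G]
    (hsub : ∀ H : Subgroup G, H ≠ ⊤ → Cfsg.IsSupersolvable H)
    (hquo : ∀ (N : Subgroup G) [N.Normal], N ≠ ⊥ → Cfsg.IsSupersolvable (G ⧸ N)) :
    Group.IsSolvable G := by
  rcases subsingleton_or_nontrivial G with hs | hs
  · infer_instance
  by_cases hN : ∃ N : Subgroup G, N.Normal ∧ N ≠ ⊥ ∧ N ≠ ⊤
  · obtain ⟨N, hNn, hN1, hN2⟩ := hN
    have := isSolvable_of_supersolvable (hsub N hN2)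
    have := isSolvable_of_supersolvable (hquo N hN1)
    exact Group.isSolvable_of_ker_le_range N.subtype (QuotientGroup.mk' N)
      (by rw [QuotientGroup.ker_mk', Subgroup.range_subtype])
  push Not at hN
  set p := (Nat.card G).minFac with hpdef
  have hne1 : Nat.card G ≠ 1 := Finite.one_lt_card.ne'
  have hp : p.Prime := Nat.minFac_prime hne1
  haveI := Fact.mk hp
  obtain ⟨P⟩ : Nonempty (Sylow p G) := inferInstance
  by_cases hPG : (P : Subgroup G) = ⊤
  · have : Group.IsNilpotent (P : Subgroup G) := P.2.isNilpotent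
    rw [hPG] at this
    have := this
    have h2 : Group.IsSolvable (⊤ : Subgroup G) := inferInstance
    exact Group.isSolvable_of_surjective (f := (Subgroup.topEquiv : (⊤ : Subgroup G) ≃* G).toMonoidHom)
      (MulEquiv.surjective _)
  have hcpl : Cfsg.HasNormalPComplement p G := by
    rw [CfsgLib.Transfer.hasNormalPComplement_iff_forall_centralizing P]
    intro Q hQ g hg hcop
    rcases eq_or_ne Q ⊥ with rfl | hQ1
    · rw [Subgroup.mem_centralizer_iff]
      intro r hr
      rw [Subgroup.mem_bot.1 hr, one_mul, mul_one]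
    set H := Subgroup.normalizer (Q : Set G) with hH
    have hHtop : H ≠ ⊤ := fun h => hPG (top_unique
      ((hN Q (Subgroup.normalizer_eq_top_iff.1 h) hQ1).ge.trans hQ))
    set g' : H := ⟨g, hg⟩ with hg'
    have hcop' : (orderOf g').Coprime (p - 1) := by
      refine Nat.coprime_of_dvd fun q hq hq1 hq2 => ?_
      have h1 : p ≤ q := Nat.minFac_le_of_dvd hq.two_le
        (hq1.trans ((Subgroup.orderOf_coe g').symm ▸ orderOf_dvd_natCard g))
      have h2 := Nat.le_of_dvd (by have := hp.two_le; omega) hq2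
      have := hp.two_le
      omega
    obtain ⟨j, hj⟩ : ∃ j, (g' ^ (p - 1)) ^ j = g' := exists_pow_eq_self_of_coprime hcop'.symm
    have hc := centralizes_pgroup (hsub H hHtop) hp (P := Q.subgroupOf H) inferInstance
      ((P.2.to_le hQ).of_equiv (Subgroup.subgroupOfEquivOfLe Subgroup.le_normalizer).symm)
      (y := g') (by rwa [← Subgroup.orderOf_coe])
      (Or.inr ⟨g' ^ j, by rw [← pow_mul, mul_comm, pow_mul, hj]⟩)
    rw [Subgroup.mem_centralizer_iff]
    intro r hr
    exact congrArg Subtype.val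
      (Subgroup.mem_centralizer_iff.1 hc ⟨r, Subgroup.le_normalizer hr⟩ hr)
  obtain ⟨P', N, hNn, hNc⟩ := hcpl
  rcases eq_or_ne N ⊥ with rfl | hN1
  · exfalso
    have h1 := hNc.card_mul
    rw [Subgroup.card_bot, one_mul] at h1
    have h2 : (P' : Subgroup G) = ⊤ := Subgroup.eq_top_of_card_eq _ h1
    exact hPG (Subgroup.eq_top_of_card_eq _ (by rw [Sylow.card_eq_multiplicity, ← Sylow.card_eq_multiplicity P', h2, Subgroup.card_top]))
  · exfalso
    rw [hN N hNn hN1] at hNc
    have h1 := hNc.card_mul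
    rw [Subgroup.card_top] at h1
    have h2 : p ∣ Nat.card (P' : Subgroup G) := P'.dvd_card_of_dvd_card (Nat.minFac_dvd _)
    rw [Nat.mul_eq_left Nat.card_pos.ne'] at h1
    rw [h1, Nat.dvd_one] at h2
    exact hp.ne_one h2

theorem supersolvable_of_cond_aux (n : ℕ) : ∀ (G : Type u) [Group G] [Finite G],
    Nat.card G ≤ n → Cond G → Cfsg.IsSupersolvable G := by
  induction n with
  | zero => intro G _ _ hG; exact absurd hG (Nat.not_le.mpr Nat.card_pos)
  | succ n ih =>
    intro G _ _ hG h
    by_contra hnss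
    have hsub : ∀ H : Subgroup G, H ≠ ⊤ → Cfsg.IsSupersolvable H := by
      intro H hH
      have h1 : Nat.card H < Nat.card G :=
        lt_of_le_of_ne H.card_le_card_group fun he => hH (Subgroup.eq_top_of_card_eq H he)
      exact ih H (by omega) (h.subgroup H)
    have hquo : ∀ (N : Subgroup G) [N.Normal], N ≠ ⊥ → Cfsg.IsSupersolvable (G ⧸ N) :=
      fun N _ hN => ih _ (Nat.lt_succ_iff.1 ((card_quotient_lt' hN).trans_le hG)) (h.quotient N)
    have hsol := isSolvable_of_minimal hsub hquo
    obtain ⟨M, hM, hMidx⟩ : ∃ M : Subgroup G, IsCoatom M ∧ ¬ M.index.Prime := by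
      by_contra hcon
      push Not at hcon
      exact hnss (supersolvable_of_prime_index hcon)
    have hnle : ∀ R : Subgroup G, R.Normal → R ≠ ⊥ → ¬ R ≤ M := by
      intro R hR hR1 hRM
      set f := QuotientGroup.mk' R
      have hker : f.ker ≤ M := by rwa [QuotientGroup.ker_mk']
      have hs := QuotientGroup.mk'_surjective R
      have hco : IsCoatom (M.map f) := by
        refine ⟨fun htop => hM.1 ?_, fun K hK => ?_⟩
        · rw [← Subgroup.comap_map_eq_self hker, htop, Subgroup.comap_top]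
        · have h1 : M < K.comap f := by
            rw [← Subgroup.comap_map_eq_self hker]
            exact (Subgroup.comap_lt_comap_of_surjective hs).2 hK
          rw [← Subgroup.map_comap_eq_self_of_surjective hs K, hM.2 _ h1,
            Subgroup.map_top_of_surjective f hs]
      apply hMidx
      rw [← Subgroup.index_map_eq M hs hker]
      exact prime_index_of_isCoatom (hquo R hR1) hco
    haveI : Nontrivial G := by
      refine (subsingleton_or_nontrivial G).resolve_left fun hs => hnss supersolvable_of_subsingleton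
    obtain ⟨N, hN⟩ := CfsgLib.Base.exists_isMinimalNormal (G := G)
    obtain ⟨p, hp, hNab, hNexp, hNp⟩ := hN.exists_prime inferInstance
    haveI := Fact.mk hp
    haveI := hN.normal
    have hNM := hnle N hN.normal hN.ne_bot
    have htop : M ⊔ N = ⊤ := hM.2 _ (left_lt_sup.2 hNM)
    have hcomm : ∀ a ∈ N, ∀ b ∈ N, a * b = b * a := fun a ha b hb =>
      congrArg Subtype.val (hNab.is_comm.comm ⟨a, ha⟩ ⟨b, hb⟩)
    have hnormal : ∀ R : Subgroup G, M ≤ Subgroup.normalizer (R : Set G) →
        N ≤ Subgroup.normalizer (R : Set G) → R.Normal := fun R h1 h2 =>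
      Subgroup.normalizer_eq_top_iff.1 (top_unique (htop ▸ sup_le h1 h2))
    have hNnorm : ∀ R : Subgroup G, R ≤ N → N ≤ Subgroup.normalizer (R : Set G) := by
      intro R hR a ha
      rw [Subgroup.mem_normalizer_iff]
      intro y
      constructor
      · intro hy
        rwa [hcomm a ha y (hR hy), mul_inv_cancel_right]
      · intro hy
        have hyN : y ∈ N := by simpa [mul_assoc] using hN.normal.conj_mem _ (hR hy) a⁻¹
        rwa [hcomm a ha y hyN, mul_inv_cancel_right] at hy
    have hinf : M ⊓ N = ⊥ := by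
      by_contra hne
      exact hnle _ (hnormal _
        (CfsgLib.Coprime.le_normalizer_inf_inf Subgroup.le_normalizer Subgroup.le_normalizer_of_normal)
        (hNnorm _ inf_le_right)) hne inf_le_left
    have hNcard : p ^ 2 ∣ Nat.card N := by
      obtain ⟨k, hk⟩ := IsPGroup.iff_card.1 hNp
      have hcard := CfsgLib.Coprime.card_sup_of_inf_eq_bot
        (Subgroup.le_normalizer_of_normal (K := M) (H := N)) hinf
      rw [htop, Subgroup.card_top, ← M.card_mul_index] at hcard
      have hi : M.index = Nat.card N := Nat.eq_of_mul_eq_mul_left Nat.card_pos hcard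
      rw [hi, hk] at hMidx
      rcases k with _ | _ | k
      · exact absurd (Subgroup.card_eq_one.1 (by simpa using hk)) hN.ne_bot
      · exact absurd (by simpa using hp) hMidx
      · exact hk ▸ pow_dvd_pow p (by omega)
    -- the representation
    letI : CommGroup N := { (inferInstance : Group N) with mul_comm := hNab.is_comm.comm }
    haveI : Nontrivial N := (Subgroup.nontrivial_iff_ne_bot N).2 hN.ne_bot
    let φ : M →* MulAut N := (MulAut.conjNormal (H := N)).comp M.subtype
    have hφ : ∀ (m : M) (a : N), ((φ m a : N) : G) = (m : G) * a * (m : G)⁻¹ := fun m a => rfl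
    have hinj : Function.Injective φ := by
      rw [injective_iff_map_eq_one]
      intro m hm
      have hker : (m : G) ∈ M ⊓ Subgroup.centralizer (N : Set G) := by
        refine ⟨m.2, Subgroup.mem_centralizer_iff.2 fun a ha => ?_⟩
        have h1 := hφ m ⟨a, ha⟩
        rw [hm] at h1
        exact eq_mul_inv_iff_mul_eq.1 h1
      have : M ⊓ Subgroup.centralizer (N : Set G) = ⊥ := by
        by_contra hne
        exact hnle _ (hnormal _
          (CfsgLib.Coprime.le_normalizer_inf_inf Subgroup.le_normalizer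
            Subgroup.le_normalizer_of_normal)
          (fun a ha => by
            rw [Subgroup.mem_normalizer_iff_map_conj_eq]
            refine Subgroup.eq_of_le_of_card_ge ?_
              (Nat.card_congr (Subgroup.equivMapOfInjective _ _ (MulAut.conj a).injective).toEquiv).le
            rintro _ ⟨c, hc, rfl⟩
            have h1 : a * c * a⁻¹ = c := by
              rw [Subgroup.mem_centralizer_iff.1 hc.2 a ha, mul_inv_cancel_right]
            show a * c * a⁻¹ ∈ M ⊓ Subgroup.centralizer (N : Set G); rw [h1]; exact hc)) hne inf_le_left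
      rw [this, Subgroup.mem_bot] at hker
      exact Subtype.ext hker
    have hirr : ∀ W : Subgroup N, (∀ m : M, ∀ v ∈ W, φ m v ∈ W) → W = ⊥ ∨ W = ⊤ := by
      intro W hW
      have hWn : (W.map N.subtype).Normal := by
        refine hnormal _ (fun m hm => ?_) (hNnorm _ (Subgroup.map_subtype_le _))
        rw [Subgroup.mem_normalizer_iff_map_conj_eq]
        refine Subgroup.eq_of_le_of_card_ge ?_
          (Nat.card_congr (Subgroup.equivMapOfInjective _ _ (MulAut.conj m).injective).toEquiv).le
        rintro _ ⟨_, ⟨a, ha, rfl⟩, rfl⟩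
        exact ⟨φ ⟨m, hm⟩ a, hW _ _ ha, hφ ⟨m, hm⟩ a⟩
      refine (hN.eq_bot_or_eq hWn (Subgroup.map_subtype_le _)).imp (fun h0 => ?_) fun h1 => ?_
      · exact (Subgroup.map_eq_bot_iff_of_injective _ N.subtype_injective).1 h0
      · refine Subgroup.map_injective N.subtype_injective ?_
        rw [h1, ← MonoidHom.range_eq_map, Subgroup.range_subtype]
    have heig : ∀ r : ℕ, r.Prime → r ≠ p → ∀ (x : M) (a : ℕ), x ^ r ^ a = 1 → ∀ v : N,
        φ x (v * (φ x v)⁻¹) ∈ Subgroup.zpowers (v * (φ x v)⁻¹) := by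
      intro r hr hrp x a hxa v
      obtain ⟨i, -, hi⟩ := (Nat.dvd_prime_pow hr).1 (orderOf_dvd_of_pow_eq_one hxa)
      rw [← Subgroup.orderOf_coe] at hi
      set wN : N := v * (φ x v)⁻¹ with hwN
      set uN : N := φ x wN with huN
      set vG : G := (v : G) with hvG
      have hwG : (wN : G) = vG * ((x : G) * vG * (x : G)⁻¹)⁻¹ := rfl
      set K := Subgroup.zpowers (x : G) ⊔ Subgroup.zpowers (vG * (x : G) * vG⁻¹) with hK
      have hxK : (x : G) ∈ K := le_sup_left (b := Subgroup.zpowers _) (Subgroup.mem_zpowers _)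
      have hwK : (wN : G) ∈ K := by
        have h1 : vG * (x : G) * vG⁻¹ ∈ K :=
          le_sup_right (a := Subgroup.zpowers (x : G)) (Subgroup.mem_zpowers _)
        rw [hwG, show vG * ((x : G) * vG * (x : G)⁻¹)⁻¹ = vG * (x : G) * vG⁻¹ * (x : G)⁻¹ * 1 by group,
          mul_one]
        exact mul_mem h1 (inv_mem hxK)
      have huK : (uN : G) ∈ K := by
        rw [huN, hφ]
        exact mul_mem (mul_mem hxK hwK) (inv_mem hxK)
      have hv1 : ∃ b : ℕ, orderOf vG = p ^ b := by
        obtain ⟨b, -, hb⟩ := (Nat.dvd_prime_pow hp).1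
          ((orderOf_dvd_of_pow_eq_one (hNexp _ v.2)).trans (pow_one p).symm.dvd)
        exact ⟨b, hb⟩
      by_contra hu
      set L := (Subgroup.zpowers wN ⊔ Subgroup.zpowers uN).map N.subtype with hL
      have hLK : L ≤ K := by
        rw [hL, Subgroup.map_sup, MonoidHom.map_zpowers, MonoidHom.map_zpowers]
        exact sup_le (Subgroup.zpowers_le.2 hwK) (Subgroup.zpowers_le.2 huK)
      obtain ⟨k, hk⟩ := IsPGroup.iff_card.1 (hNp.to_le (Subgroup.map_subtype_le _ : L ≤ N))
      have h2 : 2 ≤ k := by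
        by_contra hk2
        have hcL : Nat.card ↥(Subgroup.zpowers wN ⊔ Subgroup.zpowers uN) = Nat.card L :=
          Nat.card_congr (Subgroup.equivMapOfInjective _ _ N.subtype_injective).toEquiv
        have hle : Nat.card ↥(Subgroup.zpowers wN ⊔ Subgroup.zpowers uN) ≤ p := by
          rw [hcL, hk]
          calc p ^ k ≤ p ^ 1 := Nat.pow_le_pow_right hp.pos (by omega)
            _ = p := pow_one p
        rcases eq_or_ne wN 1 with hw1 | hw1
        · apply hu
          rw [huN, hw1, map_one]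
          exact one_mem _
        have hcw : Nat.card (Subgroup.zpowers wN) = p := by
          rw [Nat.card_zpowers]
          exact orderOf_eq_prime (Subtype.ext (by simpa using hNexp _ wN.2)) hw1
        have := Subgroup.eq_of_le_of_card_ge
          (le_sup_left : Subgroup.zpowers wN ≤ Subgroup.zpowers wN ⊔ Subgroup.zpowers uN)
          (hle.trans hcw.ge)
        exact hu (this.ge (le_sup_right (a := Subgroup.zpowers wN) (Subgroup.mem_zpowers uN)))
      exact h r p hr hp hrp (x : G) vG ⟨i, hi⟩ hv1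
        ((hk ▸ pow_dvd_pow p h2).trans (Subgroup.card_dvd_of_le hLK))
    have hle := card_le_of_irreducible (p := p)
      (fun a : N => Subtype.ext (by simpa using hNexp _ a.2)) φ hinj (hsub M hM.1) hirr heig
    have := Nat.le_of_dvd Nat.card_pos hNcard
    have := hp.two_le
    nlinarith

/-- If for all primes `p ≠ q`, `p`-elements `x` and `q`-elements `g` the order of `⟨x, gxg⁻¹⟩` is
not divisible by `q²`, then the group is supersolvable. -/
theorem supersolvable_of_cond {G : Type u} [Group G] [Finite G] (h : Cond G) :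
    Cfsg.IsSupersolvable G :=
  supersolvable_of_cond_aux _ G le_rfl h

end CfsgLib.SolvStruct.PairOrder
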