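import Mathlib

/-!
A Sylow subgroup lying in a unique maximal subgroup, when it meets a simple normal subgroup.
-/

set_option autoImplicit false
set_option linter.unusedSectionVars false

namespace CfsgLib.SolvStruct

open Subgroup

variable {G : Type*} [Group G] [Finite G] {r : ℕ} [Fact r.Prime]

theorem exists_coatom_ge {K : Subgroup G} (hK : K ≠ ⊤) : ∃ M, IsCoatom M ∧ K ≤ M :=
  ((eq_top_or_exists_le_coatom K).resolve_left hK)

theorem not_isPGroup_of_simple {T : Subgroup G} (hT : IsSimpleGroup T) (hna : ¬ IsMulCommutative T) :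
    ¬ IsPGroup r T := by
  intro hp
  have : Nontrivial T := hT.toNontrivial
  have := hp.center_nontrivial
  rcases hT.eq_bot_or_eq_top_of_normal (center T) inferInstance with h | h
  · rw [h] at this; exact not_nontrivial _ this
  · exact hna (center_eq_top_iff.mp h)

theorem not_le_normalizer {T : Subgroup G} [T.Normal] (hT : IsSimpleGroup T)
    (hna : ¬ IsMulCommutative T) {S : Subgroup G} (hS : IsPGroup r S) (hS0 : S ⊓ T ≠ ⊥) :
    ¬ T ≤ normalizer ((S ⊓ T : Subgroup G) : Set G) := by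
  intro h
  have hn : ((S ⊓ T).subgroupOf T).Normal :=
    (normal_subgroupOf_iff_le_normalizer inf_le_right).2 h
  rcases hT.eq_bot_or_eq_top_of_normal _ hn with h' | h'
  · refine hS0 (eq_bot_iff.2 fun x hx => ?_)
    have h2 : (⟨x, hx.2⟩ : T) ∈ (S ⊓ T).subgroupOf T := hx
    rw [h', mem_bot] at h2
    exact congrArg Subtype.val h2
  · refine not_isPGroup_of_simple hT hna (hS.to_le fun x hx => ?_)
    exact ((h' ▸ mem_top (⟨x, hx⟩ : T) : (⟨x, hx⟩ : T) ∈ (S ⊓ T).subgroupOf T) : x ∈ S ⊓ T).1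

theorem normalizer_ne_top {T : Subgroup G} [T.Normal] (hT : IsSimpleGroup T)
    (hna : ¬ IsMulCommutative T) (R : Sylow r G) (hR0 : (R : Subgroup G) ⊓ T ≠ ⊥) :
    normalizer ((R : Subgroup G) : Set G) ≠ ⊤ := by
  intro h
  refine not_le_normalizer hT hna R.isPGroup' hR0 fun t _ => ?_
  have ht : t ∈ normalizer ((R : Subgroup G) : Set G) := h ▸ mem_top t
  refine mem_normalizer_iff.2 fun x => ?_
  have h1 := mem_normalizer_iff.1 ht x
  have h2 := (‹T.Normal›).mem_comm_iff (a := t * x) (b := t⁻¹)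
  simp only [mem_inf]
  rw [← h1]
  refine and_congr_right fun _ => ?_
  simpa [mul_assoc] using h2.symm

theorem sylow_coatom_ne_top (T : Subgroup G) [T.Normal] (hT : IsSimpleGroup T)
    (hna : ¬ IsMulCommutative T) (R : Sylow r G) (hR0 : (R : Subgroup G) ⊓ T ≠ ⊥) :
    (R : Subgroup G) ≠ ⊤ := fun h => normalizer_ne_top hT hna R hR0 (by
      rw [eq_top_iff]; exact h.ge.trans le_normalizer)

theorem unique_coatom_iff (T : Subgroup G) [T.Normal] (hT : IsSimpleGroup T)
    (hna : ¬ IsMulCommutative T) (R : Sylow r G) (hR0 : (R : Subgroup G) ⊓ T ≠ ⊥) :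
    (∃! M : Subgroup G, IsCoatom M ∧ (R : Subgroup G) ≤ M) ↔
      ((∃ M : Subgroup G, IsCoatom M ∧ ¬ r ∣ M.index) ∧
        ∀ M₁ M₂ : Subgroup G, IsCoatom M₁ → ¬ r ∣ M₁.index → IsCoatom M₂ → ¬ r ∣ M₂.index →
          ∃ g : G, M₂ = M₁.map (MulAut.conj g).toMonoidHom) := by
  have hconj : ∀ (M : Subgroup G) (g : G), IsCoatom M →
      IsCoatom (M.map (MulAut.conj g).toMonoidHom) := fun M g hM =>
    ((MulAut.conj g).mapSubgroup.isCoatom_iff M).2 hM
  have hidx : ∀ M : Subgroup G, (R : Subgroup G) ≤ M → ¬ r ∣ M.index := fun M hM h =>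
    R.not_dvd_index (h.trans (index_dvd_of_le hM))
  have hmv : ∀ M : Subgroup G, ¬ r ∣ M.index →
      ∃ g : G, (R : Subgroup G) ≤ M.map (MulAut.conj g).toMonoidHom := by
    intro M hM
    obtain ⟨S⟩ : Nonempty (Sylow r M) := inferInstance
    obtain ⟨S', hS'⟩ := (S.isPGroup'.map M.subtype).exists_le_sylow
    obtain ⟨g, hg⟩ := MulAction.exists_smul_eq G S' R
    refine ⟨g, ?_⟩
    have hSS : (S : Subgroup M).map M.subtype = S' := by
      refine eq_of_le_of_card_ge hS' ?_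
      rw [card_map_of_injective M.subtype_injective, S.card_eq_multiplicity, S'.card_eq_multiplicity,
        ← M.card_mul_index, Nat.factorization_mul Nat.card_pos.ne' index_ne_zero_of_finite,
        Finsupp.add_apply, Nat.factorization_eq_zero_of_not_dvd hM, add_zero]
    rw [← hg, Sylow.coe_subgroup_smul, ← hSS]
    intro x hx
    obtain ⟨y, hy, rfl⟩ := mem_map.1 hx
    exact ⟨y, map_subtype_le _ hy, rfl⟩
  constructor
  · rintro ⟨M, ⟨hM, hRM⟩, huniq⟩
    refine ⟨⟨M, hM, hidx M hRM⟩, fun M₁ M₂ hM₁ h₁ hM₂ h₂ => ?_⟩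
    obtain ⟨g, hg⟩ := hmv M₁ h₁
    obtain ⟨k, hk⟩ := hmv M₂ h₂
    have e := (huniq _ ⟨hconj _ g hM₁, hg⟩).trans (huniq _ ⟨hconj _ k hM₂, hk⟩).symm
    refine ⟨k⁻¹ * g, ?_⟩
    have e2 := congrArg (Subgroup.map (MulAut.conj k⁻¹).toMonoidHom) e
    rw [map_map, map_map] at e2
    convert e2.symm using 2
    · rw [show ((MulAut.conj k⁻¹).toMonoidHom.comp (MulAut.conj k).toMonoidHom) = MonoidHom.id G from
        MonoidHom.ext fun x => by simp [mul_assoc], map_id]
    · exact MonoidHom.ext fun x => by simp [mul_assoc]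
  · rintro ⟨-, hclass⟩
    obtain ⟨M₀, hM₀, hN⟩ := exists_coatom_ge (normalizer_ne_top hT hna R hR0)
    refine ⟨M₀, ⟨hM₀, le_normalizer.trans hN⟩, fun M ⟨hM, hRM⟩ => ?_⟩
    obtain ⟨g, hg⟩ := hclass M₀ M hM₀ (hidx _ (le_normalizer.trans hN)) hM (hidx _ hRM)
    have hg' : (g • R : Sylow r G) ≤ M := by
      rw [hg, Sylow.coe_subgroup_smul]
      intro x hx
      obtain ⟨y, hy, rfl⟩ := hx
      exact ⟨y, hN (le_normalizer hy), rfl⟩
    obtain ⟨m, hm⟩ := MulAction.exists_smul_eq M ((g • R).subtype hg') (R.subtype hRM)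
    have hmg : ((m : G) * g) • R = R := by
      rw [mul_smul]
      refine Sylow.subtype_injective (P := ((m : G) • (g • R))) (hP := ?_) (hQ := hRM) ?_
      · rw [Sylow.coe_subgroup_smul]
        rintro x ⟨y, hy, rfl⟩
        exact M.mul_mem (M.mul_mem m.2 (hg' hy)) (M.inv_mem m.2)
      · rw [← hm, Sylow.smul_subtype]
        rfl
    have hn := hN (Sylow.smul_eq_iff_mem_normalizer.1 hmg)
    have hfix : ∀ (K : Subgroup G) (x : G), x ∈ K → K.map (MulAut.conj x).toMonoidHom = K :=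
      fun K x hx => mem_normalizer_iff_map_conj_eq.1 (le_normalizer hx)
    calc M = M.map (MulAut.conj (m : G)).toMonoidHom := (hfix M m m.2).symm
      _ = (M₀.map (MulAut.conj g).toMonoidHom).map (MulAut.conj (m : G)).toMonoidHom :=
        congrArg _ hg
      _ = M₀.map (MulAut.conj ((m : G) * g)).toMonoidHom := by
        rw [map_map, map_mul]; rfl
      _ = M₀ := hfix M₀ _ hn

theorem quotient_isPGroup (T : Subgroup G) [T.Normal] (hT : IsSimpleGroup T)
    (hna : ¬ IsMulCommutative T) (R : Sylow r G) (hR0 : (R : Subgroup G) ⊓ T ≠ ⊥)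
    (huniq : ∃! M : Subgroup G, IsCoatom M ∧ (R : Subgroup G) ≤ M) : IsPGroup r (G ⧸ T) := by
  obtain ⟨M, ⟨hM, hRM⟩, huniq⟩ := huniq
  by_cases htop : (R : Subgroup G) ⊔ T = ⊤
  · have hs : (R : Subgroup G).map (QuotientGroup.mk' T) = ⊤ := by
      apply comap_injective (QuotientGroup.mk'_surjective T)
      rw [comap_map_eq, comap_top, QuotientGroup.ker_mk', htop]
    intro x
    obtain ⟨⟨y, hy⟩, rfl⟩ : ∃ z : (R : Subgroup G), QuotientGroup.mk' T z = x := by
      obtain ⟨y, hy, hyx⟩ := (hs ▸ mem_top x : x ∈ (R : Subgroup G).map (QuotientGroup.mk' T))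
      exact ⟨⟨y, hy⟩, hyx⟩
    obtain ⟨k, hk⟩ := R.isPGroup' ⟨y, hy⟩
    exact ⟨k, by rw [← map_pow, show y ^ r ^ k = 1 from congrArg Subtype.val hk, map_one]⟩
  exfalso
  obtain ⟨M₁, hM₁, hRT⟩ := exists_coatom_ge htop
  have hTM : T ≤ M := (le_sup_right.trans hRT).trans (huniq M₁ ⟨hM₁, le_sup_left.trans hRT⟩).le
  set N := normalizer (((R : Subgroup G) ⊓ T : Subgroup G) : Set G) with hNdef
  have hNne : N ≠ ⊤ := fun h => not_le_normalizer hT hna R.isPGroup' hR0 (by rw [← hNdef, h]; exact le_top)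
  have hRN : (R : Subgroup G) ≤ N := by
    intro x hx
    refine mem_normalizer_iff.2 fun y => ?_
    have h1 := mem_normalizer_iff.1 (le_normalizer hx : x ∈ normalizer ((R : Subgroup G) : Set G)) y
    have h2 := (‹T.Normal›).mem_comm_iff (a := x * y) (b := x⁻¹)
    simp only [mem_inf]
    rw [← h1]
    refine and_congr_right fun _ => ?_
    simpa [mul_assoc] using h2.symm
  obtain ⟨M₂, hM₂, hNM⟩ := exists_coatom_ge hNne
  have hNM' : N ≤ M := hNM.trans (huniq M₂ ⟨hM₂, hRN.trans hNM⟩).le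
  refine hM.1 (eq_top_iff.2 ?_)
  obtain ⟨S⟩ : Nonempty (Sylow r T) := inferInstance
  obtain ⟨R', hR'⟩ := (S.isPGroup'.map T.subtype).exists_le_sylow
  obtain ⟨g, rfl⟩ := MulAction.exists_smul_eq G R R'
  have hST : (S : Subgroup T).map T.subtype =
      ((R : Subgroup G) ⊓ T).map (MulAut.conj g).toMonoidHom := by
    have hle : (S : Subgroup T).map T.subtype ≤
        ((R : Subgroup G) ⊓ T).map (MulAut.conj g).toMonoidHom := by
      intro x hx
      obtain ⟨y, hy, rfl⟩ := mem_map.1 (hR' hx)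
      exact ⟨y, ⟨hy, by simpa [mul_assoc] using
        (‹T.Normal›).conj_mem _ (map_subtype_le _ hx) g⁻¹⟩, rfl⟩
    refine le_antisymm hle fun x hx => ?_
    have hpT : IsPGroup r ((((R : Subgroup G) ⊓ T).map (MulAut.conj g).toMonoidHom).subgroupOf T) :=
      ((R.isPGroup'.to_le inf_le_left).map _).comap_subtype
    have hxT : x ∈ T := by
      obtain ⟨y, hy, rfl⟩ := hx
      exact (‹T.Normal›).conj_mem _ hy.2 g
    have h := S.is_maximal' hpT fun z hz => hle (mem_map_of_mem _ hz)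
    exact ⟨⟨x, hxT⟩, h.le hx, rfl⟩
  have hc : Nat.card (((R : Subgroup G) ⊓ T).subgroupOf T) = r ^ (Nat.card T).factorization r := by
    rw [← S.card_eq_multiplicity, Nat.card_congr (subgroupOfEquivOfLe inf_le_right).toEquiv,
      ← card_map_of_injective (f := (MulAut.conj g).toMonoidHom) (MulAut.conj g).injective, ← hST,
      card_map_of_injective T.subtype_injective]
  have hfr := Sylow.normalizer_sup_eq_top (Sylow.ofCard (((R : Subgroup G) ⊓ T).subgroupOf T) hc)
  rw [Sylow.coe_ofCard, subgroupOf_map_subtype, inf_of_le_left inf_le_right] at hfr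
  rw [← hfr]
  exact sup_le hNM' hTM

end CfsgLib.SolvStruct
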