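import Cfsg.Agent.Lib.Coprime.Hall
import Cfsg.Agent.Lib.Base.HallConverse
import Cfsg.Agent.Lib.Base.MinimalNormal
import Cfsg.Agent.Lib.Base.Nilpotent
import Cfsg.Prelude.Def_SolvableStructure

/-!
# Hall complement systems and system normalisers of finite solvable groups
-/

set_option autoImplicit false
set_option linter.style.haveILetI false

open scoped Pointwise

namespace CfsgLib.SolvStruct

universe u

variable {G : Type u} [Group G] [Finite G]

/-- Subgroups of pairwise coprime index: any family of left cosets has a common element. -/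
theorem exists_common_coset_elt {ι : Type*} [Finite ι] (S : ι → Subgroup G)
    (hcop : Pairwise fun i j => (S i).index.Coprime (S j).index) (x : ι → G) :
    ∃ g : G, ∀ i, (x i)⁻¹ * g ∈ S i := by
  classical
  haveI := Fintype.ofFinite ι
  let base : (i : ι) → G ⧸ S i := fun i => ((1 : G) : G ⧸ S i)
  have hst : MulAction.stabilizer G base = ⨅ i, S i := by
    ext g
    rw [MulAction.mem_stabilizer_iff, Subgroup.mem_iInf, funext_iff]
    refine forall_congr' fun i => ?_
    change (((g * 1 : G)) : G ⧸ S i) = _ ↔ _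
    rw [mul_one, QuotientGroup.eq]
    simp
  have hcard : Nat.card ((i : ι) → G ⧸ S i) = ∏ i, (S i).index := Nat.card_pi
  have hdvd : (∏ i, (S i).index) ∣ (⨅ i, S i).index := by
    have key : ∀ s : Finset ι, (∏ i ∈ s, (S i).index) ∣ (⨅ i, S i).index := by
      intro s
      induction s using Finset.induction_on with
      | empty => simp
      | insert a s ha ih =>
        rw [Finset.prod_insert ha]
        exact Nat.Coprime.mul_dvd_of_dvd_of_dvd
          (Nat.Coprime.prod_right fun j hj => hcop fun e : a = j => ha (e ▸ hj))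
          (Subgroup.index_dvd_of_le (iInf_le S a)) ih
    exact key Finset.univ
  have huniv : MulAction.orbit G base = Set.univ := by
    refine Set.eq_of_subset_of_ncard_le (Set.subset_univ _) ?_ (Set.toFinite _)
    rw [Set.ncard_univ, hcard, ← MulAction.index_stabilizer, hst]
    exact Nat.le_of_dvd (Nat.pos_of_ne_zero Subgroup.index_ne_zero_of_finite) hdvd
  have hmem : (fun i => ((x i : G) : G ⧸ S i)) ∈ MulAction.orbit G base := by
    rw [huniv]
    exact Set.mem_univ _
  obtain ⟨g, hg⟩ := hmem
  refine ⟨g, fun i => QuotientGroup.eq.1 ?_⟩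
  have h2 : ((g * 1 : G) : G ⧸ S i) = ((x i : G) : G ⧸ S i) := congrFun hg i
  rw [mul_one] at h2
  exact h2.symm

/-- If a family of subgroups has prime power index at each prime, any family of left cosets has a
common element. -/
theorem exists_common_coset_elt_primes (S : Nat.Primes → Subgroup G)
    (hidx : ∀ p : Nat.Primes, ∀ q : ℕ, q.Prime → q ∣ (S p).index → q = p) (x : Nat.Primes → G) :
    ∃ g : G, ∀ p, (x p)⁻¹ * g ∈ S p := by
  let ι := {p : Nat.Primes // (p : ℕ) ∈ (Nat.card G).primeFactors}
  haveI : Finite ι := Finite.of_injective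
    (fun i : ι => (⟨((i.1 : Nat.Primes) : ℕ), i.2⟩ : ((Nat.card G).primeFactors : Set ℕ)))
    fun i j h => Subtype.ext (Subtype.ext (Subtype.mk.inj h))
  obtain ⟨g, hg⟩ := exists_common_coset_elt (fun i : ι => S i.1)
    (fun i j hij => Nat.coprime_of_dvd fun q hq h1 h2 => hij (Subtype.ext (Subtype.ext
      ((hidx i.1 q hq h1).symm.trans (hidx j.1 q hq h2))))) (fun i => x i.1)
  refine ⟨g, fun p => ?_⟩
  by_cases hp : (p : ℕ) ∈ (Nat.card G).primeFactors
  · exact hg ⟨p, hp⟩
  · have htop : S p = ⊤ := by
      rw [← Subgroup.index_eq_one]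
      by_contra hne
      obtain ⟨q, hq, hqd⟩ := Nat.exists_prime_and_dvd hne
      refine hp (Nat.mem_primeFactors.2 ⟨p.2, ?_, Nat.card_pos.ne'⟩)
      rw [← hidx p q hq hqd]
      exact hqd.trans (Subgroup.index_dvd_card _)
    rw [htop]
    exact Subgroup.mem_top _

section Complements

variable {p : ℕ} {H : Subgroup G}

theorem prime_eq_of_dvd_index (hp : p.Prime)
    (hH : H.index = p ^ (Nat.card G).factorization p) {q : ℕ} (hq : q.Prime) (hd : q ∣ H.index) :
    q = p :=
  (Nat.prime_dvd_prime_iff_eq hq hp).1 (hq.dvd_of_dvd_pow (hH ▸ hd))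

theorem not_dvd_card_of_index (hp : p.Prime)
    (hH : H.index = p ^ (Nat.card G).factorization p) : ¬ p ∣ Nat.card H := fun hd =>
  Nat.pow_succ_factorization_not_dvd (Nat.card_pos (α := G)).ne' hp (by
    rw [pow_succ']
    exact (mul_dvd_mul hd (dvd_of_eq hH.symm)).trans (dvd_of_eq H.card_mul_index))

theorem isPiHall_of_index (hp : p.Prime)
    (hH : H.index = p ^ (Nat.card G).factorization p) : Cfsg.IsPiHall {p}ᶜ H :=
  ⟨fun _ _ hd => by rintro rfl; exact not_dvd_card_of_index hp hH hd,
    fun _ hq hqp hd => hqp (prime_eq_of_dvd_index hp hH hq hd)⟩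

/-- `|N : N ∩ K|` divides `|G : K|` for normal `N`. -/
theorem relIndex_dvd_index_of_normal_right (K N : Subgroup G) [N.Normal] :
    K.relIndex N ∣ K.index := by
  have h1 : (K ⊓ N).relIndex N * N.index = (K ⊓ N).index :=
    Subgroup.relIndex_mul_index inf_le_right
  have h2 : (K ⊓ N).relIndex K * K.index = (K ⊓ N).index :=
    Subgroup.relIndex_mul_index inf_le_left
  rw [Subgroup.inf_relIndex_right] at h1
  rw [Subgroup.inf_relIndex_left] at h2
  obtain ⟨c, hc⟩ := Subgroup.relIndex_dvd_index_of_normal N K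
  refine ⟨c, ?_⟩
  have hpos : 0 < N.relIndex K := Nat.pos_of_ne_zero fun h0 => by
    rw [h0, zero_mul] at h2
    exact Subgroup.index_ne_zero_of_finite h2.symm
  apply Nat.eq_of_mul_eq_mul_left hpos
  rw [h2, ← h1, hc]
  ring

end Complements

variable [Group.IsSolvable G]

/-- Two complement systems are conjugate by a single element. -/
theorem complementSystem_conj {K L : Nat.Primes → Subgroup G} (hK : Cfsg.IsComplementSystem K)
    (hL : Cfsg.IsComplementSystem L) : ∃ g : G, ∀ p, MulAut.conj g • K p = L p := by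
  choose x hx using fun p : Nat.Primes =>
    (CfsgLib.Coprime.hallD_of_solvable ({(p : ℕ)}ᶜ : Set ℕ)).conj
      (isPiHall_of_index p.2 (hK p)) (isPiHall_of_index p.2 (hL p))
  obtain ⟨g, hg⟩ := exists_common_coset_elt_primes
    (fun p => Subgroup.normalizer (K p : Set G))
    (fun p q hq hd => prime_eq_of_dvd_index p.2 (hK p) hq
      (hd.trans (Subgroup.index_dvd_of_le Subgroup.le_normalizer))) x
  refine ⟨g, fun p => ?_⟩
  have hn : MulAut.conj ((x p)⁻¹ * g) • K p = K p := by
    ext y
    rw [CfsgLib.Coprime.mem_conj_smul]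
    have h := Subgroup.mem_normalizer_iff.1 (inv_mem (hg p)) y
    rw [inv_inv] at h
    exact h.symm
  rw [← mul_inv_cancel_left (x p) g, map_mul, mul_smul, hn, hx p]

/-- The system normaliser is nilpotent. -/
theorem isNilpotent_systemNormalizer {K : Nat.Primes → Subgroup G}
    (hK : Cfsg.IsComplementSystem K) : Group.IsNilpotent (Cfsg.systemNormalizer K) := by
  set D := Cfsg.systemNormalizer K with hD
  refine ((Group.isNilpotent_of_finite_tfae (G := D)).out 0 3).2 fun q hq P => ?_
  haveI := hq
  -- the intersection of the `K r` with `r ≠ q`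
  let E : Subgroup D := ⨅ r : {r : Nat.Primes // (r : ℕ) ≠ q}, (K r.1).subgroupOf D
  haveI hn : ∀ r : Nat.Primes, ((K r).subgroupOf D).Normal := fun r =>
    Subgroup.normal_subgroupOf_of_le_normalizer (iInf_le _ r)
  haveI : E.Normal := Subgroup.normal_iInf_normal fun r => hn r.1
  have hPE : (P : Subgroup D) ≤ E := by
    intro x hx
    rw [Subgroup.mem_iInf]
    rintro ⟨r, hr⟩
    rw [Subgroup.mem_subgroupOf]
    set N := Subgroup.normalizer (K r : Set G) with hN
    have hxN : (x : G) ∈ N := iInf_le (fun p => Subgroup.normalizer (K p : Set G)) r x.2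
    haveI : ((K r).subgroupOf N).Normal := Subgroup.normal_in_normalizer
    have hm := Subgroup.pow_index_mem ((K r).subgroupOf N) ⟨x, hxN⟩
    rw [Subgroup.mem_subgroupOf] at hm
    obtain ⟨k, hk⟩ := IsPGroup.iff_orderOf.1 P.isPGroup' ⟨x, hx⟩
    have hord : orderOf (x : G) = q ^ k := by
      rw [Subgroup.orderOf_coe, ← Subgroup.orderOf_coe ⟨x, hx⟩] at *
      exact hk
    have hcop : (orderOf (x : G)).Coprime ((K r).subgroupOf N).index := by
      rw [hord]
      refine Nat.Coprime.pow_left _ ((Nat.Prime.coprime_iff_not_dvd hq.out).2 fun hd => ?_)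
      exact hr (prime_eq_of_dvd_index r.2 (hK r) hq.out
        (hd.trans (Subgroup.relIndex_dvd_index_of_le Subgroup.le_normalizer))).symm
    obtain ⟨m, hm'⟩ := exists_pow_eq_self_of_coprime hcop.symm
    rw [← hm']
    exact pow_mem hm m
  have hE : IsPGroup q E := by
    refine IsPGroup.of_card (n := (Nat.card E).factorization q) ?_
    have h := Nat.eq_prime_pow_of_unique_prime_dvd (Nat.card_pos (α := E)).ne' (p := q)
      fun {r} hr hd => ?_
    · rw [h, Nat.factorization_pow, Finsupp.smul_apply, hq.out.factorization_self, smul_eq_mul,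
        mul_one]
    · by_contra hne
      refine not_dvd_card_of_index hr (hK ⟨r, hr⟩) (hd.trans ?_)
      refine (Subgroup.card_dvd_of_le (iInf_le _ ⟨⟨r, hr⟩, hne⟩)).trans ?_
      exact Subgroup.card_comap_dvd_of_injective _ _ D.subtype_injective
  rw [P.3 hE hPE |>.symm]
  infer_instance

end CfsgLib.SolvStruct
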