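import Cfsg.Agent.Lib.SolvStruct.SystemNormalizer

/-!
# System normalisers in quotients, covering and avoidance
-/

set_option autoImplicit false
set_option linter.style.haveILetI false

open scoped Pointwise
open scoped commutatorElement

namespace CfsgLib.SolvStruct

open CfsgLib.Coprime (mem_conj_smul)

universe u

variable {G : Type u} [Group G] [Finite G]

omit [Finite G] in
theorem mem_normalizer_iff_conj_smul {g : G} {H : Subgroup G} :
    g ∈ Subgroup.normalizer (H : Set G) ↔ MulAut.conj g • H = H := by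
  constructor
  · intro h
    ext y
    have h' := Subgroup.mem_normalizer_iff.1 (inv_mem h) y
    rw [inv_inv] at h'
    rw [mem_conj_smul]
    exact h'.symm
  · intro h
    refine Subgroup.mem_normalizer_iff.2 fun y => ?_
    conv_rhs => rw [← h, mem_conj_smul]
    rw [show g⁻¹ * (g * y * g⁻¹) * g = y by group]

theorem isComplementSystem_map {K : Nat.Primes → Subgroup G} (hK : Cfsg.IsComplementSystem K)
    (N : Subgroup G) [N.Normal] :
    Cfsg.IsComplementSystem fun p => (K p).map (QuotientGroup.mk' N) := fun p =>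
  CfsgLib.Base.index_eq_ordProj p.2 _
    (fun _ hq hd => prime_eq_of_dvd_index p.2 (hK p) hq
      (hd.trans (Subgroup.index_map_dvd _ (QuotientGroup.mk'_surjective N))))
    fun hd => not_dvd_card_of_index p.2 (hK p) (hd.trans (Subgroup.card_map_dvd _ _))

variable [Group.IsSolvable G]

/-- System normalisers map onto system normalisers of quotients. -/
theorem systemNormalizer_map {K : Nat.Primes → Subgroup G} (hK : Cfsg.IsComplementSystem K)
    (N : Subgroup G) [N.Normal] :
    Cfsg.systemNormalizer (fun p => (K p).map (QuotientGroup.mk' N)) =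
      (Cfsg.systemNormalizer K).map (QuotientGroup.mk' N) := by
  refine le_antisymm ?_ (le_iInf fun p =>
    (Subgroup.map_mono (iInf_le _ p)).trans (Subgroup.le_normalizer_map _))
  intro x hx
  obtain ⟨g, rfl⟩ := QuotientGroup.mk'_surjective N x
  rw [Cfsg.systemNormalizer, Subgroup.mem_iInf] at hx
  have key : ∀ p : Nat.Primes, ∃ n ∈ N, MulAut.conj n • K p = MulAut.conj g • K p := by
    intro p
    set L := K p ⊔ N with hL
    have hgL : MulAut.conj g • L = L := by
      have hc : L = ((K p).map (QuotientGroup.mk' N)).comap (QuotientGroup.mk' N) := by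
        rw [Subgroup.comap_map_eq, QuotientGroup.ker_mk']
      rw [← mem_normalizer_iff_conj_smul, hc, Subgroup.mem_normalizer_iff]
      intro y
      simp only [Subgroup.mem_comap, map_mul, map_inv]
      exact Subgroup.mem_normalizer_iff.1 (hx p) _
    have hgK : MulAut.conj g • K p ≤ L := by
      rw [← hgL]
      exact Subgroup.pointwise_smul_le_pointwise_smul_iff.2 le_sup_left
    have hall : ∀ S : Subgroup G, S ≤ L → S.index = (p : ℕ) ^ (Nat.card G).factorization p →
        Cfsg.IsPiHall ({(p : ℕ)}ᶜ : Set ℕ) (S.subgroupOf L) := by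
      intro S hS hidx
      refine ⟨fun q hq hd => ?_, fun q hq hqp hd => ?_⟩
      · rw [Nat.card_congr (Subgroup.subgroupOfEquivOfLe hS).toEquiv] at hd
        exact (isPiHall_of_index p.2 hidx).1 q hq hd
      · exact (isPiHall_of_index p.2 hidx).2 q hq hqp
          (hd.trans (Subgroup.relIndex_dvd_index_of_le hS))
    have hidx2 : (MulAut.conj g • K p).index = (p : ℕ) ^ (Nat.card G).factorization p := by
      rw [← hK p]
      apply Nat.eq_of_mul_eq_mul_left (Nat.card_pos (α := ↥(MulAut.conj g • K p)))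
      rw [Subgroup.card_mul_index, CfsgLib.Coprime.card_conj_smul, Subgroup.card_mul_index]
    obtain ⟨⟨l, hl⟩, hle⟩ := (CfsgLib.Coprime.hallD_of_solvable ({(p : ℕ)}ᶜ : Set ℕ)).conj
      (hall _ le_sup_left (hK p)) (hall _ hgK hidx2)
    have hleq : MulAut.conj l • K p = MulAut.conj g • K p := by
      refine Subgroup.eq_of_le_of_card_ge ?_
        (by rw [CfsgLib.Coprime.card_conj_smul, CfsgLib.Coprime.card_conj_smul])
      intro y hy
      rw [mem_conj_smul] at hy
      have hy' : y ∈ L := by
        have := mul_mem (mul_mem hl (le_sup_left (b := N) hy)) (inv_mem hl)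
        simpa [mul_assoc] using this
      have hm : (⟨y, hy'⟩ : L) ∈ (MulAut.conj g • K p).subgroupOf L := by
        rw [← hle, mem_conj_smul, Subgroup.mem_subgroupOf]
        simpa using hy
      exact hm
    have hl' : l ∈ N ⊔ K p := by rw [sup_comm]; exact hl
    obtain ⟨n, hn, k, hk, rfl⟩ := Subgroup.mem_sup_of_normal_left.1 hl'
    refine ⟨n, hn, ?_⟩
    rw [← hleq, map_mul, mul_smul, Subgroup.conj_smul_eq_self_of_mem hk]
  choose n hn hne using key
  obtain ⟨⟨m, hm⟩, hmem⟩ := exists_common_coset_elt_primes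
    (fun p => (Subgroup.normalizer (K p : Set G)).subgroupOf N)
    (fun p q hq hd => prime_eq_of_dvd_index p.2 (hK p) hq (hd.trans
      ((relIndex_dvd_index_of_normal_right _ N).trans
        (Subgroup.index_dvd_of_le Subgroup.le_normalizer))))
    (fun p => (⟨n p, hn p⟩ : N))
  refine ⟨m⁻¹ * g, ?_, ?_⟩
  · rw [SetLike.mem_coe, Cfsg.systemNormalizer, Subgroup.mem_iInf]
    intro p
    have h1 : (n p)⁻¹ * m ∈ Subgroup.normalizer (K p : Set G) := hmem p
    have h2 : (n p)⁻¹ * g ∈ Subgroup.normalizer (K p : Set G) := by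
      rw [mem_normalizer_iff_conj_smul, map_mul, mul_smul, ← hne p, map_inv, inv_smul_smul]
    have h3 := mul_mem (inv_mem h1) h2
    simpa [mul_assoc] using h3
  · rw [map_mul, QuotientGroup.mk'_apply N (m⁻¹),
      (QuotientGroup.eq_one_iff (m⁻¹)).2 (inv_mem hm), one_mul]

/-- The normal closure of a system normaliser is the whole group. -/
theorem normalClosure_systemNormalizer {K : Nat.Primes → Subgroup G}
    (hK : Cfsg.IsComplementSystem K) :
    Subgroup.normalClosure ((Cfsg.systemNormalizer K : Subgroup G) : Set G) = ⊤ := by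
  set C := Subgroup.normalClosure ((Cfsg.systemNormalizer K : Subgroup G) : Set G) with hC
  by_contra hne
  haveI : Nontrivial (G ⧸ C) := QuotientGroup.nontrivial_iff.2 hne
  haveI : Group.IsSolvable (G ⧸ C) :=
    Group.isSolvable_of_surjective (QuotientGroup.mk'_surjective C)
  set M := (commutator (G ⧸ C)).comap (QuotientGroup.mk' C) with hM
  haveI : M.Normal := Subgroup.Normal.comap inferInstance _
  have hMne : M ≠ ⊤ := fun h => by
    refine (Group.IsSolvable.commutator_lt_top_of_nontrivial (G ⧸ C)).ne ?_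
    rw [← Subgroup.map_comap_eq_self_of_surjective (QuotientGroup.mk'_surjective C)
      (commutator (G ⧸ C)), ← hM, h,
      Subgroup.map_top_of_surjective _ (QuotientGroup.mk'_surjective C)]
  have hab : ∀ a b : G ⧸ M, a * b = b * a := by
    intro a b
    obtain ⟨a, rfl⟩ := QuotientGroup.mk'_surjective M a
    obtain ⟨b, rfl⟩ := QuotientGroup.mk'_surjective M b
    rw [← commutatorElement_eq_one_iff_mul_comm, ← map_commutatorElement,
      QuotientGroup.mk'_apply, QuotientGroup.eq_one_iff, Subgroup.mem_comap, map_commutatorElement]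
    exact Subgroup.commutator_mem_commutator (Subgroup.mem_top _) (Subgroup.mem_top _)
  have htop : Cfsg.systemNormalizer (fun p => (K p).map (QuotientGroup.mk' M)) = ⊤ := by
    rw [eq_top_iff]
    intro a _
    rw [Cfsg.systemNormalizer, Subgroup.mem_iInf]
    intro p
    rw [Subgroup.mem_normalizer_iff]
    intro b
    rw [hab a b, mul_inv_cancel_right]
  rw [systemNormalizer_map hK M] at htop
  refine hMne (top_le_iff.1 ?_)
  intro g _
  obtain ⟨d, hd, hde⟩ := (htop.symm ▸ Subgroup.mem_top (QuotientGroup.mk' M g) :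
    QuotientGroup.mk' M g ∈ (Cfsg.systemNormalizer K).map (QuotientGroup.mk' M))
  have hdM : d ∈ M := (QuotientGroup.le_comap_mk' C _) (Subgroup.subset_normalClosure hd)
  have h1 := QuotientGroup.eq.1 hde
  simpa using mul_mem hdM h1

/-- A system normaliser meets no non-central minimal normal subgroup. -/
theorem inf_systemNormalizer_eq_bot {K : Nat.Primes → Subgroup G}
    (hK : Cfsg.IsComplementSystem K) {B : Subgroup G} (hB : CfsgLib.Base.IsMinimalNormal B)
    (hc : ¬ B ≤ Subgroup.center G) : B ⊓ Cfsg.systemNormalizer K = ⊥ := by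
  haveI := hB.normal
  obtain ⟨p, hp, hcomm, -, hpg⟩ := hB.exists_prime inferInstance
  haveI := Fact.mk hp
  set φ : G →* MulAut B := MulAut.conjNormal with hφ
  have hRne : Nontrivial φ.range := by
    rw [Subgroup.nontrivial_iff_ne_bot]
    intro hb
    refine hc fun b hb' => Subgroup.mem_center_iff.2 fun g => ?_
    have h0 : φ g = 1 := by rw [← Subgroup.mem_bot, ← hb]; exact ⟨g, rfl⟩
    have h1 := congrArg Subtype.val (DFunLike.congr_fun h0 (⟨b, hb'⟩ : B))
    exact mul_inv_eq_iff_eq_mul.1 (h1 : g * b * g⁻¹ = b)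
  haveI := hRne
  haveI : Group.IsSolvable φ.range :=
    Group.isSolvable_of_surjective (f := φ.rangeRestrict) φ.rangeRestrict_surjective
  obtain ⟨R₀, hR₀⟩ := CfsgLib.Base.exists_isMinimalNormal (G := φ.range)
  haveI := hR₀.normal
  obtain ⟨q, hq, -, -, hqg⟩ := hR₀.exists_prime inferInstance
  haveI := Fact.mk hq
  set M := R₀.comap φ.rangeRestrict with hM
  haveI : M.Normal := Subgroup.Normal.comap inferInstance _
  set F := B ⊓ Subgroup.centralizer (M : Set G) with hF
  have hFne : F ≠ B := by
    intro he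
    refine hR₀.ne_bot (le_bot_iff.1 fun r hr => ?_)
    obtain ⟨m, rfl⟩ := φ.rangeRestrict_surjective r
    rw [Subgroup.mem_bot]
    refine Subtype.ext (MulEquiv.ext fun b => Subtype.ext ?_)
    have hb : (b : G) ∈ Subgroup.centralizer (M : Set G) := (he.ge b.2).2
    exact mul_inv_eq_iff_eq_mul.2 (Subgroup.mem_centralizer_iff.1 hb m hr)
  have hFbot : F = ⊥ := (hB.eq_bot_or_eq inferInstance inf_le_left).resolve_right hFne
  have hqp : q ≠ p := by
    intro he
    subst he
    letI : MulAction R₀ B := MulAction.compHom B (φ.range.subtype.comp R₀.subtype)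
    have h1 : q ∣ Nat.card B := by
      rcases hpg.card_eq_or_dvd with h | h
      · exact absurd (Subgroup.card_eq_one.1 h) hB.ne_bot
      · exact h
    have hfix : (1 : B) ∈ MulAction.fixedPoints R₀ B := fun r => map_one ((r : φ.range) : MulAut B)
    obtain ⟨b, hb, hb1⟩ := hqg.exists_fixed_point_of_prime_dvd_card_of_fixed_point B h1 hfix
    refine hb1 (Subtype.ext (Eq.symm ?_))
    have hmem : (b : G) ∈ F := ⟨b.2, Subgroup.mem_centralizer_iff.2 fun m hm => by
      have h2 := congrArg Subtype.val (hb ⟨φ.rangeRestrict m, hm⟩)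
      exact mul_inv_eq_iff_eq_mul.1 (h2 : m * (b : G) * m⁻¹ = (b : G))⟩
    rw [hFbot, Subgroup.mem_bot] at hmem
    exact hmem
  rw [eq_bot_iff]
  rintro x ⟨hxB, hxD⟩
  rw [← hFbot]
  refine ⟨hxB, Subgroup.mem_centralizer_iff.2 fun m hm => ?_⟩
  set P : Nat.Primes := ⟨p, hp⟩ with hP
  have hcent : ∀ k ∈ K P, k * x = x * k := by
    intro k hk
    have hn : x ∈ Subgroup.normalizer (K P : Set G) :=
      iInf_le (fun p => Subgroup.normalizer (K p : Set G)) P hxD
    have h1 : x * k * x⁻¹ * k⁻¹ ∈ B ⊓ K P := by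
      refine ⟨?_, (K P).mul_mem ((Subgroup.mem_normalizer_iff.1 hn k).1 hk) ((K P).inv_mem hk)⟩
      have h2 := (inferInstance : B.Normal).conj_mem x⁻¹ (inv_mem hxB) k
      have h3 := mul_mem hxB h2
      simpa [mul_assoc] using h3
    obtain ⟨j, hj⟩ := IsPGroup.iff_card.1 hpg
    rw [CfsgLib.Coprime.inf_eq_bot_of_coprime (by
      rw [hj]
      exact Nat.Coprime.pow_left _
        ((Nat.Prime.coprime_iff_not_dvd hp).2 (not_dvd_card_of_index hp (hK P)))),
      Subgroup.mem_bot] at h1
    exact (mul_inv_eq_iff_eq_mul.1 (mul_inv_eq_one.1 h1)).symm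
  set S := (K P).map φ.rangeRestrict with hS
  have hle : R₀ ≤ S := by
    rw [← Subgroup.relIndex_eq_one]
    obtain ⟨j, hj⟩ := IsPGroup.iff_card.1 hqg
    refine Nat.eq_one_of_dvd_coprimes (a := p ^ (Nat.card G).factorization p)
      (b := q ^ j) ?_ ?_ ?_
    · exact ((Nat.coprime_primes hp hq).2 (Ne.symm hqp)).pow _ _
    · exact ((relIndex_dvd_index_of_normal_right S R₀).trans
        (Subgroup.index_map_dvd _ φ.rangeRestrict_surjective)).trans (dvd_of_eq (hK P))
    · exact (Subgroup.relIndex_dvd_card _ _).trans (dvd_of_eq hj)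
  obtain ⟨k, hk, hke⟩ := hle (hm : φ.rangeRestrict m ∈ R₀)
  have h1 := congrArg Subtype.val (DFunLike.congr_fun (congrArg Subtype.val hke) (⟨x, hxB⟩ : B))
  have h2 : k * x * k⁻¹ = m * x * m⁻¹ := h1
  rw [hcent k hk, mul_inv_cancel_right] at h2
  exact mul_inv_eq_iff_eq_mul.1 h2.symm

end CfsgLib.SolvStruct
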