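import Cfsg.Agent.Lib.SolvStruct.SystemNormalizer2
import Cfsg.Agent.Lib.Base.Carter
import Cfsg.Agent.Lib.Coprime.Action

/-!
# System normalisers and Carter subgroups
-/

set_option autoImplicit false
set_option linter.style.haveILetI false

open scoped Pointwise

namespace CfsgLib.SolvStruct

universe u

variable {G : Type u} [Group G]

/-- The complement system `K` reduces into `C`. -/
def Reduces (K : Nat.Primes → Subgroup G) (C : Subgroup G) : Prop :=
  ∀ (p : Nat.Primes) (r : ℕ), r.Prime → r ∣ (K p).relIndex C → r = p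

theorem Reduces.conj {K : Nat.Primes → Subgroup G} {C : Subgroup G} (h : Reduces K C) (g : G) :
    Reduces (fun p => MulAut.conj g • K p) (MulAut.conj g • C) := by
  intro p r hr hd
  refine h p r hr ?_
  have he : (MulAut.conj g • K p).relIndex (MulAut.conj g • C) = (K p).relIndex C :=
    Subgroup.relIndex_map_map_of_injective (K p) C (MulAut.conj g).injective
  rwa [← he]

variable [Finite G]

theorem isComplementSystem_conj {K : Nat.Primes → Subgroup G} (hK : Cfsg.IsComplementSystem K)
    (g : G) : Cfsg.IsComplementSystem fun p => MulAut.conj g • K p := by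
  intro p
  rw [← hK p]
  apply Nat.eq_of_mul_eq_mul_left (Nat.card_pos (α := ↥(MulAut.conj g • K p)))
  rw [Subgroup.card_mul_index, CfsgLib.Coprime.card_conj_smul, Subgroup.card_mul_index]

variable [Group.IsSolvable G]

theorem exists_complementSystem_reduces (C : Subgroup G) :
    ∃ K : Nat.Primes → Subgroup G, Cfsg.IsComplementSystem K ∧ Reduces K C := by
  have key : ∀ p : Nat.Primes, ∃ H : Subgroup G,
      H.index = (p : ℕ) ^ (Nat.card G).factorization p ∧
        ∀ r : ℕ, r.Prime → r ∣ H.relIndex C → r = p := by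
    intro p
    obtain ⟨S, hS⟩ := CfsgLib.Base.exists_pComplement (G := C) p.2
    have hpi : Cfsg.IsPiSubgroup ({(p : ℕ)}ᶜ : Set ℕ) (S.map C.subtype) := by
      intro r _ hd
      rw [Subgroup.card_map_of_injective C.subtype_injective] at hd
      rintro rfl
      exact not_dvd_card_of_index p.2 hS hd
    obtain ⟨H, hH, hle⟩ :=
      (CfsgLib.Coprime.hallD_of_solvable (G := G) ({(p : ℕ)}ᶜ : Set ℕ)).exists_le hpi
    refine ⟨H, CfsgLib.Base.index_eq_ordProj p.2 H (fun q hq hd => ?_)
      (fun hd => hH.1 p p.2 hd rfl), fun r hr hd => ?_⟩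
    · by_contra hne
      exact hH.2 q hq hne hd
    · refine prime_eq_of_dvd_index p.2 hS hr (hd.trans ?_)
      have hSle : S ≤ H.subgroupOf C := fun x hx => hle ⟨x, hx, rfl⟩
      exact Subgroup.index_dvd_of_le hSle
  choose K h1 h2 using key
  exact ⟨K, h1, h2⟩

/-- A Carter subgroup contains the system normaliser of any complement system reducing into it. -/
theorem systemNormalizer_le_carter (n : ℕ) : ∀ {G : Type u} [Group G] [Finite G]
    [Group.IsSolvable G], Nat.card G ≤ n → ∀ {K : Nat.Primes → Subgroup G} {C : Subgroup G},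
      Cfsg.IsComplementSystem K → CfsgLib.Base.IsCarter C → Reduces K C →
        Cfsg.systemNormalizer K ≤ C := by
  induction n with
  | zero => intro G _ _ _ h; exact absurd h (Nat.not_le.2 Nat.card_pos)
  | succ n ih =>
  intro G _ _ _ hn K C hK hC hred
  rcases subsingleton_or_nontrivial G with hs | hs
  · exact fun x _ => by rw [Subsingleton.elim x 1]; exact one_mem _
  obtain ⟨N, hN⟩ := CfsgLib.Base.exists_isMinimalNormal (G := G)
  haveI := hN.normal
  obtain ⟨q, hq, -, -, hNq⟩ := hN.exists_prime inferInstance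
  haveI := Fact.mk hq
  have hC1 := hC.1
  set L := C ⊔ N with hL
  set π := QuotientGroup.mk' N with hπ
  -- the image of `C` is a Carter subgroup
  have himage : CfsgLib.Base.IsCarter (C.map π) := by
    refine ⟨CfsgLib.Base.isNilpotent_map _ hC.1, le_antisymm ?_ Subgroup.le_normalizer⟩
    intro x hx
    obtain ⟨g, rfl⟩ := QuotientGroup.mk'_surjective N x
    have hgL : MulAut.conj g • L = L := by
      have hc : L = (C.map π).comap π := by
        rw [Subgroup.comap_map_eq, hπ, QuotientGroup.ker_mk']
      rw [← mem_normalizer_iff_conj_smul, hc, Subgroup.mem_normalizer_iff]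
      intro y
      simp only [Subgroup.mem_comap, map_mul, map_inv]
      exact Subgroup.mem_normalizer_iff.1 hx _
    have hgC : MulAut.conj g • C ≤ L := by
      rw [← hgL]
      exact Subgroup.pointwise_smul_le_pointwise_smul_iff.2 le_sup_left
    obtain ⟨⟨k, hk⟩, hke⟩ := (CfsgLib.Base.carter L).2 _ _
      (hC.subgroupOf (le_sup_left : C ≤ L)) ((hC.conj g).subgroupOf hgC)
    have hk' := CfsgLib.Base.IsCarter.conj_of_subgroupOf le_sup_left hgC hke
    have hmem : k⁻¹ * g ∈ C := by
      rw [← hC.2, mem_normalizer_iff_conj_smul, map_mul, mul_smul, ← hk', smul_smul, ← map_mul]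
      simp
    have hg : g ∈ L := by
      have := mul_mem hk (le_sup_left (b := N) hmem)
      simpa using this
    obtain ⟨c, hc, m, hm, rfl⟩ := Subgroup.mem_sup_of_normal_right.1 hg
    refine ⟨c, hc, ?_⟩
    rw [map_mul, hπ, QuotientGroup.mk'_apply N m, (QuotientGroup.eq_one_iff m).2 hm, mul_one]
  have hD : Cfsg.systemNormalizer K ≤ L := by
    have hlt : Nat.card (G ⧸ N) ≤ n :=
      Nat.le_of_lt_succ ((CfsgLib.Coprime.card_quotient_lt hN.ne_bot).trans_le hn)
    have h1 := ih (G := G ⧸ N) hlt (isComplementSystem_map hK N) himage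
      (fun p r hr hd => hred p r hr (hd.trans (CfsgLib.Coprime.relIndex_map_dvd _ _ _)))
    rw [systemNormalizer_map hK N, Subgroup.map_le_iff_le_comap, Subgroup.comap_map_eq,
      QuotientGroup.ker_mk'] at h1
    exact h1
  -- `K` induces a complement system of `L`, normalised by `C`
  have hS : ∀ p : Nat.Primes, (∀ r : ℕ, r.Prime → r ∣ (K p ⊓ L).relIndex L → r = p) ∧
      C ≤ Subgroup.normalizer ((K p ⊓ L : Subgroup G) : Set G) := by
    intro p
    have hCn : C ≤ Subgroup.normalizer ((K p ⊓ C : Subgroup G) : Set G) := by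
      haveI := hC.1
      have hn : ((K p).subgroupOf C).Normal := by
        refine CfsgLib.Base.normal_of_coprime_index (Nat.coprime_of_dvd fun r hr h1 h2 => ?_)
        have hrp := hred p r hr h2
        refine not_dvd_card_of_index p.2 (hK p) (hrp ▸ h1.trans ?_)
        exact Subgroup.card_comap_dvd_of_injective _ _ C.subtype_injective
      rw [← Subgroup.inf_subgroupOf_right] at hn
      exact (Subgroup.normal_subgroupOf_iff_le_normalizer inf_le_right).1 hn
    -- a candidate for the complement inside `L`
    have hcand : ∃ S : Subgroup G, S ≤ K p ⊓ L ∧ C ≤ Subgroup.normalizer (S : Set G) ∧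
        ∀ r : ℕ, r.Prime → r ∣ S.relIndex L → r = p := by
      by_cases hpq : (p : ℕ) = q
      · refine ⟨K p ⊓ C, inf_le_inf_left _ le_sup_left, hCn, fun r hr hd => ?_⟩
        rw [← Subgroup.relIndex_mul_relIndex (K p ⊓ C) C L inf_le_right le_sup_left,
          Subgroup.inf_relIndex_right] at hd
        rcases (Nat.Prime.dvd_mul hr).1 hd with h | h
        · exact hred p r hr h
        · obtain ⟨j, hj⟩ := IsPGroup.iff_card.1 hNq
          have h' : C.relIndex L ∣ Nat.card N := by
            have h3 : Nat.card C ∣ Nat.card L := Subgroup.card_dvd_of_le le_sup_left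
            have h4 : Nat.card L * Nat.card (C ⊓ N : Subgroup G) = Nat.card C * Nat.card N :=
              CfsgLib.Coprime.card_sup_mul_card_inf Subgroup.le_normalizer_of_normal
            have h5 : Nat.card C * C.relIndex L = Nat.card L := by
              rw [← Subgroup.relIndex_bot_left C, ← Subgroup.relIndex_bot_left L]
              exact Subgroup.relIndex_mul_relIndex _ _ _ bot_le le_sup_left
            refine ⟨Nat.card (C ⊓ N : Subgroup G), ?_⟩
            apply Nat.eq_of_mul_eq_mul_left (Nat.card_pos (α := C))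
            rw [← h4, ← h5, mul_assoc]
          rw [hpq]
          exact (Nat.prime_dvd_prime_iff_eq hr hq).1 (hr.dvd_of_dvd_pow (hj ▸ h.trans h'))
      · have hNK : N ≤ K p := by
          rw [← Subgroup.relIndex_eq_one]
          obtain ⟨j, hj⟩ := IsPGroup.iff_card.1 hNq
          exact Nat.eq_one_of_dvd_coprimes (((Nat.coprime_primes p.2 hq).2 hpq).pow _ _)
            ((relIndex_dvd_index_of_normal_right (K p) N).trans (dvd_of_eq (hK p)))
            ((Subgroup.relIndex_dvd_card _ _).trans (dvd_of_eq hj))
        refine ⟨(K p ⊓ C) ⊔ N, le_inf (sup_le inf_le_left hNK)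
          (sup_le_sup_right inf_le_right N), ?_, fun r hr hd => hred p r hr ?_⟩
        · exact CfsgLib.Coprime.le_normalizer_sup_sup hCn Subgroup.le_normalizer_of_normal
        · have h := CfsgLib.Coprime.relIndex_map_dvd (QuotientGroup.mk' N) (K p ⊓ C) C
          rw [Subgroup.relIndex_map_map, QuotientGroup.ker_mk', Subgroup.inf_relIndex_right] at h
          exact hd.trans h
    obtain ⟨S, hSle, hSn, hSi⟩ := hcand
    have heq : S = K p ⊓ L := by
      refine le_antisymm hSle ?_
      rw [← Subgroup.relIndex_eq_one]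
      by_contra hne
      obtain ⟨r, hr, hrd⟩ := Nat.exists_prime_and_dvd hne
      have hrp := hSi r hr (hrd.trans
        (Dvd.intro _ (Subgroup.relIndex_mul_relIndex S (K p ⊓ L) L hSle inf_le_right)))
      exact not_dvd_card_of_index p.2 (hK p)
        (hrp ▸ (hrd.trans (Subgroup.relIndex_dvd_card _ _)).trans
          (Subgroup.card_dvd_of_le inf_le_left))
    exact ⟨heq ▸ hSi, heq ▸ hSn⟩
  set K' : Nat.Primes → Subgroup L := fun p => (K p ⊓ L).subgroupOf L with hK'def
  have hK' : Cfsg.IsComplementSystem K' := fun p =>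
    CfsgLib.Base.index_eq_ordProj p.2 _ (hS p).1 fun hd => not_dvd_card_of_index p.2 (hK p) (by
      rw [Nat.card_congr (Subgroup.subgroupOfEquivOfLe inf_le_right).toEquiv] at hd
      exact hd.trans (Subgroup.card_dvd_of_le inf_le_left))
  have hnil := isNilpotent_systemNormalizer hK'
  set E := (Cfsg.systemNormalizer K').map L.subtype with hE
  have hEnil : Group.IsNilpotent E := CfsgLib.Base.isNilpotent_map _ hnil
  have hmem : ∀ x ∈ L, (∀ p, x ∈ Subgroup.normalizer ((K p ⊓ L : Subgroup G) : Set G)) → x ∈ E := by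
    intro x hx h
    refine ⟨⟨x, hx⟩, ?_, rfl⟩
    rw [SetLike.mem_coe, Cfsg.systemNormalizer, Subgroup.mem_iInf]
    intro p
    rw [Subgroup.mem_normalizer_iff]
    intro y
    exact Subgroup.mem_normalizer_iff.1 (h p) y
  have hCE : C ≤ E := fun c hc => hmem c (Subgroup.mem_sup_left hc) fun p => (hS p).2 hc
  have hCeq : C = E := by
    refine CfsgLib.Base.eq_of_normalizer_inf_le hCE hEnil ?_
    rw [hC.2]
    exact inf_le_left
  intro x hx
  rw [hCeq]
  refine hmem x (hD hx) fun p => ?_
  refine Subgroup.inf_normalizer_le_normalizer_inf ⟨?_, Subgroup.le_normalizer (hD hx)⟩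
  exact iInf_le (fun p => Subgroup.normalizer (K p : Set G)) p hx

theorem carter_contains_systemNormalizer {C : Subgroup G} (hC : CfsgLib.Base.IsCarter C) :
    ∃ K : Nat.Primes → Subgroup G, Cfsg.IsComplementSystem K ∧
      Cfsg.systemNormalizer K ≤ C := by
  obtain ⟨K, hK, hred⟩ := exists_complementSystem_reduces C
  exact ⟨K, hK, systemNormalizer_le_carter _ le_rfl hK hC hred⟩

theorem systemNormalizer_le_some_carter {K : Nat.Primes → Subgroup G}
    (hK : Cfsg.IsComplementSystem K) :
    ∃ C : Subgroup G, CfsgLib.Base.IsCarter C ∧ Cfsg.systemNormalizer K ≤ C := by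
  obtain ⟨C₀, hC₀⟩ := (CfsgLib.Base.carter G).1
  obtain ⟨K₀, hK₀, hred⟩ := exists_complementSystem_reduces C₀
  obtain ⟨g, hg⟩ := complementSystem_conj hK₀ hK
  refine ⟨MulAut.conj g • C₀, hC₀.conj g, systemNormalizer_le_carter _ le_rfl hK (hC₀.conj g) ?_⟩
  have h := hred.conj g
  intro p r hr hd
  exact h p r hr (by simpa only [hg] using hd)

end CfsgLib.SolvStruct
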