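import Cfsg.Agent.Lib.SolvStruct.SystemNormalizer3

/-!
# System normalisers of nilpotent-by-nilpotent groups are Carter subgroups
-/

set_option autoImplicit false
set_option linter.style.haveILetI false

open scoped Pointwise
open scoped commutatorElement

namespace CfsgLib.SolvStruct

universe u

theorem systemNormalizer_eq_top_of_nilpotent {G : Type u} [Group G] [Finite G]
    [Group.IsNilpotent G] {K : Nat.Primes → Subgroup G} (hK : Cfsg.IsComplementSystem K) :
    Cfsg.systemNormalizer K = ⊤ := by
  rw [eq_top_iff]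
  refine le_iInf fun p => ?_
  haveI : (K p).Normal := CfsgLib.Base.normal_of_coprime_index (by
    rw [hK p]
    exact Nat.Coprime.pow_right _ ((Nat.Prime.coprime_iff_not_dvd p.2).2
      (not_dvd_card_of_index p.2 (hK p))).symm)
  rw [Subgroup.normalizer_eq_top]

theorem normalizer_systemNormalizer_eq (n : ℕ) : ∀ {G : Type u} [Group G] [Finite G]
    [Group.IsSolvable G], Nat.card G ≤ n → ∀ {F : Subgroup G} {K : Nat.Primes → Subgroup G},
      F.Normal → Group.IsNilpotent F → Cfsg.IsComplementSystem K →
      F ⊔ Cfsg.systemNormalizer K = ⊤ →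
      Subgroup.normalizer ((Cfsg.systemNormalizer K : Subgroup G) : Set G) =
        Cfsg.systemNormalizer K := by
  induction n with
  | zero => intro G _ _ _ h; exact absurd h (Nat.not_le.2 Nat.card_pos)
  | succ n ih =>
  intro G _ _ _ hn F K hF hFn hK htop
  rcases subsingleton_or_nontrivial G with hs | hs
  · exact Subsingleton.elim _ _
  haveI := hF
  obtain ⟨N, hN⟩ := CfsgLib.Base.exists_isMinimalNormal (G := G)
  haveI := hN.normal
  set D := Cfsg.systemNormalizer K with hD
  set π := QuotientGroup.mk' N with hπ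
  have hq := ih (G := G ⧸ N) (Nat.le_of_lt_succ ((CfsgLib.Coprime.card_quotient_lt hN.ne_bot).trans_le hn))
    (F := F.map π) (Subgroup.Normal.map hF _ (QuotientGroup.mk'_surjective N))
    (CfsgLib.Base.isNilpotent_map _ hFn) (isComplementSystem_map hK N) (by
      rw [systemNormalizer_map hK N, ← Subgroup.map_sup, ← hD, htop,
        Subgroup.map_top_of_surjective _ (QuotientGroup.mk'_surjective N)])
  rw [systemNormalizer_map hK N, ← hD] at hq
  have hle : Subgroup.normalizer (D : Set G) ≤ D ⊔ N := by
    have h1 := Subgroup.le_normalizer_map (H := D) π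
    rw [hq, Subgroup.map_le_iff_le_comap, Subgroup.comap_map_eq, hπ, QuotientGroup.ker_mk'] at h1
    exact h1
  refine le_antisymm (fun x hx => ?_) Subgroup.le_normalizer
  obtain ⟨d, hd, m, hm, rfl⟩ := Subgroup.mem_sup_of_normal_right.1 (hle hx)
  by_cases hc : N ≤ Subgroup.center G
  · exact mul_mem hd (Subgroup.mem_iInf.2 fun p => Subgroup.center_le_normalizer _ (hc hm))
  have hinf := inf_systemNormalizer_eq_bot hK hN hc
  rw [← hD] at hinf
  have hmn : m ∈ Subgroup.normalizer (D : Set G) :=
    (Subgroup.mul_mem_cancel_left _ (Subgroup.le_normalizer hd)).1 hx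
  have hFN : F ≤ Subgroup.centralizer (N : Set G) :=
    (CfsgLib.Base.le_fittingSubgroup hFn).trans hN.fittingSubgroup_le_centralizer
  have hDc : D ≤ Subgroup.centralizer ({m} : Set G) := by
    intro e he
    rw [Subgroup.mem_centralizer_singleton_iff]
    have h1 : ⁅m, e⁆ ∈ N ⊓ D := by
      refine ⟨?_, ?_⟩
      · rw [commutatorElement_def, show m * e * m⁻¹ * e⁻¹ = m * (e * m⁻¹ * e⁻¹) by group]
        exact mul_mem hm (hN.normal.conj_mem _ (inv_mem hm) e)
      · rw [commutatorElement_def]
        exact D.mul_mem ((Subgroup.mem_normalizer_iff.1 hmn e).1 he) (D.inv_mem he)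
    rw [hinf, Subgroup.mem_bot, commutatorElement_eq_one_iff_mul_comm] at h1
    exact h1.symm
  have hFc : F ≤ Subgroup.centralizer ({m} : Set G) := fun f hf =>
    Subgroup.mem_centralizer_singleton_iff.2 (Subgroup.mem_centralizer_iff.1 (hFN hf) m hm).symm
  have hmc : m ∈ Subgroup.center G := Subgroup.mem_center_iff.2 fun g =>
    Subgroup.mem_centralizer_singleton_iff.1
      ((sup_le hFc hDc) (htop.symm ▸ Subgroup.mem_top g))
  have hm1 : m = 1 := by
    have h : N ⊓ Subgroup.center G = ⊥ :=
      (hN.eq_bot_or_eq inferInstance inf_le_left).resolve_right fun he => hc (he ▸ inf_le_right)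
    exact Subgroup.mem_bot.1 (h ▸ (⟨hm, hmc⟩ : m ∈ N ⊓ Subgroup.center G))
  rw [hm1, mul_one]
  exact hd

theorem isCarter_systemNormalizer {G : Type u} [Group G] [Finite G] [Group.IsSolvable G]
    (F : Subgroup G) [F.Normal] (hF : Group.IsNilpotent F) (hGF : Group.IsNilpotent (G ⧸ F))
    {K : Nat.Primes → Subgroup G} (hK : Cfsg.IsComplementSystem K) :
    CfsgLib.Base.IsCarter (Cfsg.systemNormalizer K) := by
  refine ⟨isNilpotent_systemNormalizer hK,
    normalizer_systemNormalizer_eq _ le_rfl inferInstance hF hK ?_⟩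
  haveI := hGF
  have h1 := systemNormalizer_eq_top_of_nilpotent (isComplementSystem_map hK F)
  rw [systemNormalizer_map hK F] at h1
  rw [eq_top_iff]
  intro g _
  obtain ⟨d, hd, hde⟩ := (h1.symm ▸ Subgroup.mem_top (QuotientGroup.mk' F g) :
    QuotientGroup.mk' F g ∈ (Cfsg.systemNormalizer K).map (QuotientGroup.mk' F))
  have h2 : d⁻¹ * g ∈ F := QuotientGroup.eq.1 hde
  rw [← mul_inv_cancel_left d g]
  exact mul_mem (Subgroup.mem_sup_right hd) (Subgroup.mem_sup_left h2)

end CfsgLib.SolvStruct
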